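import Cfsg.Agent.Lib.KnownA.Chev.Basic

/-!
Elements of the Chevalley group as a group of its own, generation by fundamental root elements,
characters with prescribed fundamental values, the longest element.
-/

set_option autoImplicit false

namespace CfsgLib.KnownA.Chev

open Cfsg.Lie CfsgLib.Chev CfsgLib.KnownA.ChevChar

variable {D : ChevalleyDatum} {F : Type*} [Field F]

section

variable (g : Good D)
include g

/-- A root element as an element of the group. -/
noncomputable def xs (r : Fin D.nroots) (t : F) : ↥(D.group F) :=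
  ⟨g.xG r t, g.xG_mem_group r.2 t⟩

theorem coe_xs (r : Fin D.nroots) (t : F) : (xs g r t : GL D.Idx F) = g.xG r t := rfl

theorem xs_add (r : Fin D.nroots) (s t : F) : xs g r s * xs g r t = xs g r (s + t) :=
  Subtype.ext (g.xG_add r s t)

theorem xs_zero (r : Fin D.nroots) : xs g r (0 : F) = 1 := Subtype.ext (g.xG_zero r)

theorem xs_inj {r : Fin D.nroots} {s t : F} (h : xs g r s = xs g r t) : s = t := by
  have h' : g.xG r s = g.xG r t := congrArg Subtype.val h
  have h2 : g.xG r (s + -t) = 1 := by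
    rw [← g.xG_add, h', g.xG_add, add_neg_cancel, g.xG_zero]
  have h3 := (g.x_eq_one_iff r.2 _).1 (congrArg Units.val h2)
  rwa [← sub_eq_add_neg, sub_eq_zero] at h3

theorem root_eq_of_xs {r s : Fin D.nroots} {t u : F} (ht : t ≠ 0) (h : xs g r t = xs g s u) :
    r = s := by
  by_contra hne
  exact ht (g.eq_of_xG_eq r.2 s.2 (fun e => hne (Fin.ext e)) (congrArg Subtype.val h))

/-- `n_r(t)` as an element of the group. -/
noncomputable def ns (r : Fin D.nroots) (t : Fˣ) : ↥(D.group F) :=
  xs g r (t : F) * xs g (g.nroot r) (-((t⁻¹ : Fˣ) : F)) * xs g r (t : F)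

theorem coe_ns (r : Fin D.nroots) (t : Fˣ) : (ns g r t : GL D.Idx F) = g.nG r t := rfl

/-- `h_r(t)` as an element of the group. -/
noncomputable def hs (r : Fin D.nroots) (t : Fˣ) : ↥(D.group F) := ns g r t * ns g r (-1)

theorem coe_hs (r : Fin D.nroots) (t : Fˣ) : (hs g r t : GL D.Idx F) = g.hG r t := by
  rw [g.hG_eq r.2]; rfl

theorem hs_conj_xs (r s : Fin D.nroots) (c : Fˣ) (t : F) :
    hs g r c * xs g s t * (hs g r c)⁻¹ = xs g s (((c ^ pair D r s : Fˣ) : F) * t) := by
  refine Subtype.ext ?_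
  rw [Subgroup.coe_mul, Subgroup.coe_mul, Subgroup.coe_inv, coe_hs, coe_xs, coe_xs]
  exact g.hG_conj_xG s.2 c t

/-- Diagonal subgroup inside the group. -/
def Hs (_g : Good D) (F : Type*) [Field F] : Subgroup ↥(D.group F) :=
  (D.diagonalSubgroup F).subgroupOf (D.group F)

theorem hs_mem (r : Fin D.nroots) (t : Fˣ) : hs g r t ∈ Hs g F := by
  show (hs g r t : GL D.Idx F) ∈ D.diagonalSubgroup F
  rw [coe_hs]
  exact g.hG_mem r.2 t

theorem hs_sroot_surj {x : ↥(D.group F)} (hx : x ∈ Hs g F) :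
    x ∈ Subgroup.closure (Set.range fun p : Fin D.rank × Fˣ => hs g (g.sroot p.1) p.2) := by
  have hle : D.diagonalSubgroup F ≤
      (Subgroup.closure (Set.range fun p : Fin D.rank × Fˣ => hs g (g.sroot p.1) p.2)).map
        (D.group F).subtype := by
    rw [g.diagonal_eq_range]
    rintro y ⟨c, rfl⟩
    rw [← Finset.univ_prod_mulSingle c]
    refine Subgroup.mem_comap.1 (Subgroup.prod_mem (Subgroup.comap (torHom D F) _) fun i _ => ?_)
    rw [Subgroup.mem_comap, g.torHom_single]
    exact ⟨_, Subgroup.subset_closure ⟨(i, c i), rfl⟩, coe_hs g _ _⟩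
  obtain ⟨y, hy, he⟩ := hle hx
  obtain rfl : y = x := Subtype.ext he
  exact hy

/-- The fundamental root elements of both signs generate. -/
theorem closure_simple :
    Subgroup.closure ({x | ∃ (i : Fin D.rank) (t : F), x = xs g (g.sroot i) t} ∪
      {x | ∃ (i : Fin D.rank) (t : F), x = xs g (g.nroot (g.sroot i)) t}) =
      (⊤ : Subgroup ↥(D.group F)) := by
  set S := Subgroup.closure ({x | ∃ (i : Fin D.rank) (t : F), x = xs g (g.sroot i) t} ∪
      {x | ∃ (i : Fin D.rank) (t : F), x = xs g (g.nroot (g.sroot i)) t}) with hS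
  have hp : ∀ (i : Fin D.rank) (t : F), xs g (g.sroot i) t ∈ S := fun i t =>
    Subgroup.subset_closure (Or.inl ⟨i, t, rfl⟩)
  have hm : ∀ (i : Fin D.rank) (t : F), xs g (g.nroot (g.sroot i)) t ∈ S := fun i t =>
    Subgroup.subset_closure (Or.inr ⟨i, t, rfl⟩)
  have hn : ∀ i : Fin D.rank, ns g (g.sroot i) (1 : Fˣ) ∈ S := fun i =>
    mul_mem (mul_mem (hp i _) (hm i _)) (hp i _)
  have key : ∀ r, r < D.nroots → ∀ t : F, g.xG r t ∈ S.map (D.group F).subtype := by
    intro r hr
    refine g.root_induction (P := fun r => ∀ t : F, g.xG r t ∈ S.map (D.group F).subtype) ?_ ?_ hr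
    · exact fun i hi t => ⟨_, hp ⟨i, hi⟩ t, rfl⟩
    · intro i hi s hs' ih t
      obtain ⟨y, hy, he⟩ := ih ((g.eta i s : F) * t)
      refine ⟨ns g (g.sroot ⟨i, hi⟩) 1 * y * (ns g (g.sroot ⟨i, hi⟩) 1)⁻¹,
        mul_mem (mul_mem (hn _) hy) (inv_mem (hn _)), ?_⟩
      rw [map_mul, map_mul, map_inv, he]
      show g.nG (D.simple i) 1 * g.xG s ((g.eta i s : F) * t) * (g.nG (D.simple i) 1)⁻¹ = _
      rw [g.nG_conj_xG hi hs', ← mul_assoc]
      rcases g.eta_sign hi hs' with h | h <;> simp [h]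
  refine eq_top_iff.2 fun x _ => ?_
  obtain ⟨y, hy, he⟩ := g.group_le key x.2
  obtain rfl : y = x := Subtype.ext he
  exact hy

/-- An automorphism is determined by its values at fundamental root elements. -/
theorem aut_ext {φ ψ : ↥(D.group F) ≃* ↥(D.group F)}
    (hp : ∀ i t, φ (xs g (g.sroot i) t) = ψ (xs g (g.sroot i) t))
    (hm : ∀ i t, φ (xs g (g.nroot (g.sroot i)) t) = ψ (xs g (g.nroot (g.sroot i)) t)) : φ = ψ := by
  refine MulEquiv.toMonoidHom_injective (MonoidHom.eq_of_eqOn_dense (closure_simple g) ?_)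
  rintro x (⟨i, t, rfl⟩ | ⟨i, t, rfl⟩)
  · exact hp i t
  · exact hm i t

/-! ### Characters -/

/-- The character with fundamental values `c`. -/
noncomputable def charOf (c : Fin D.rank → Fˣ) (r : ℕ) : Fˣ :=
  ∏ j : Fin D.rank, c j ^ g.co r j

theorem isRootCharacter_charOf (hc : HasComm D) (c : Fin D.rank → Fˣ) :
    D.IsRootCharacter (charOf g c) := by
  refine ⟨fun r hr => ?_, fun r s k hr hs' h => ?_⟩
  · simp only [charOf, ← Finset.prod_inv_distrib]
    refine Finset.prod_congr rfl fun j _ => ?_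
    rw [g.co_neg hr j.2, _root_.zpow_neg]
  · simp only [charOf, ← Finset.prod_mul_distrib]
    refine Finset.prod_congr rfl fun j _ => ?_
    rw [g.chainRoot_co hc hr hs' (by simp) h j.2, Nat.cast_one, one_mul, _root_.zpow_add]

theorem charOf_sroot (c : Fin D.rank → Fˣ) (i : Fin D.rank) :
    charOf g c (g.sroot i : ℕ) = c i := by
  show ∏ j : Fin D.rank, c j ^ g.co (D.simple i) j = c i
  rw [Finset.prod_eq_single i (fun j _ hj => by
    rw [g.co_simple i.2 j.2, if_neg fun e => hj (Fin.ext e.symm), zpow_zero])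
    (by simp), g.co_simple i.2 i.2, if_pos rfl, zpow_one]

/-- The diagonal automorphism of a character. -/
noncomputable def diagAut (hch : chainsOK D = true) {χ : ℕ → Fˣ} (hχ : D.IsRootCharacter χ) :
    ↥(D.group F) ≃* ↥(D.group F) where
  toFun x := ⟨diagG D χ * x * (diagG D χ)⁻¹, diagG_mem_normalizer_group g hch hχ x.2⟩
  invFun x := ⟨(diagG D χ)⁻¹ * x * diagG D χ, by
    have := diagG_mem_normalizer_group g hch (isRootCharacter_inv hχ) x.2
    rwa [← diagG_inv, inv_inv] at this⟩
  left_inv x := Subtype.ext (show (diagG D χ)⁻¹ * (diagG D χ * x * (diagG D χ)⁻¹) * diagG D χ =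
    (x : GL D.Idx F) by group)
  right_inv x := Subtype.ext (show diagG D χ * ((diagG D χ)⁻¹ * x * diagG D χ) * (diagG D χ)⁻¹ =
    (x : GL D.Idx F) by group)
  map_mul' x y := Subtype.ext (show diagG D χ * ((x : GL D.Idx F) * y) * (diagG D χ)⁻¹ =
    diagG D χ * x * (diagG D χ)⁻¹ * (diagG D χ * y * (diagG D χ)⁻¹) by group)

theorem diagAut_xs (hch : chainsOK D = true) {χ : ℕ → Fˣ} (hχ : D.IsRootCharacter χ)
    (r : Fin D.nroots) (t : F) :
    diagAut g hch hχ (xs g r t) = xs g r ((χ r : F) * t) :=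
  Subtype.ext (diagG_conj_xG g hch hχ r.2 t)

theorem isDiagonalAut_diagAut (hch : chainsOK D = true) {χ : ℕ → Fˣ} (hχ : D.IsRootCharacter χ) :
    D.IsDiagonalAut (diagAut g hch hχ) := by
  refine ⟨χ, hχ, fun x => ?_⟩
  show ((diagG D χ * (x : GL D.Idx F) * (diagG D χ)⁻¹ : GL D.Idx F) : Matrix D.Idx D.Idx F) = _
  rw [Units.val_mul, Units.val_mul, diagG_inv, coe_diagG, coe_diagG]

/-- Every diagonal automorphism is conjugation by its diagonal matrix. -/
theorem exists_char_of_isDiagonalAut (hch : chainsOK D = true)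
    {φ : ↥(D.group F) ≃* ↥(D.group F)} (hφ : D.IsDiagonalAut φ) :
    ∃ (χ : ℕ → Fˣ) (hχ : D.IsRootCharacter χ), φ = diagAut g hch hχ := by
  obtain ⟨χ, hχ, h⟩ := hφ
  refine ⟨χ, hχ, MulEquiv.ext fun x => Subtype.ext (Units.ext ?_)⟩
  rw [h x]
  show _ = ((diagG D χ * (x : GL D.Idx F) * (diagG D χ)⁻¹ : GL D.Idx F) : Matrix D.Idx D.Idx F)
  rw [Units.val_mul, Units.val_mul, diagG_inv, coe_diagG, coe_diagG]

/-! ### The longest element -/

/-- A word of the longest element. -/
noncomputable def w0word : List (Fin D.rank) := g.exists_longest.choose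

/-- The longest element. -/
noncomputable def w0 : Equiv.Perm (Fin D.nroots) := g.wperm (w0word g)

theorem w0_neg {a : Fin D.nroots} (ha : half D ≤ a.val) : (w0 g a).val < half D :=
  g.exists_longest.choose_spec a ha

theorem w0_pos {a : Fin D.nroots} (ha : a.val < half D) : half D ≤ (w0 g a).val := by
  have h := w0_neg g ((g.nroot_pos_iff a).2 ha)
  rw [w0, g.wperm_nroot] at h
  by_contra hc
  have := (g.nroot_pos_iff (g.wperm (w0word g) a)).2 (by rw [← w0]; omega)
  rw [← w0] at *
  omega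

theorem w0_mul_self : w0 g * w0 g = 1 :=
  g.eq_one_of_pos (mul_mem (g.wperm_mem _) (g.wperm_mem _)) fun a ha => by
    rw [Equiv.Perm.mul_apply]; exact w0_pos g (w0_neg g ha)

theorem w0_w0 (a : Fin D.nroots) : w0 g (w0 g a) = a := by
  rw [← Equiv.Perm.mul_apply, w0_mul_self]; rfl

theorem w0_nroot (a : Fin D.nroots) : w0 g (g.nroot a) = g.nroot (w0 g a) := g.wperm_nroot _ a

/-- The longest element sends fundamental roots to negatives of fundamental roots. -/
theorem exists_w0_sroot (i : Fin D.rank) : ∃ j, w0 g (g.nroot (g.sroot i)) = g.sroot j := by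
  set w := w0 g * g.rperm i * w0 g with hw
  set s := w0 g (g.nroot (g.sroot i)) with hs
  have hwmem : w ∈ g.weyl :=
    mul_mem (mul_mem (g.wperm_mem _) (g.wS i).2) (g.wperm_mem _)
  have honly : ∀ a : Fin D.nroots, half D ≤ a.val → a ≠ s → half D ≤ (w a).val := by
    intro a ha hne
    simp only [hw, Equiv.Perm.mul_apply]
    refine w0_pos g (g.rperm_neg i (w0_neg g ha) fun h => hne ?_)
    rw [hs, ← h, w0_w0]
  have hsneg : (w s).val < half D := by
    simp only [hw, Equiv.Perm.mul_apply, hs, w0_w0, g.rperm_nroot, g.rperm_sroot, g.nroot_nroot]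
    exact w0_neg g (g.sroot_pos i)
  obtain ⟨l, hl⟩ := g.exists_wperm hwmem
  by_contra hno
  push Not at hno
  have h1 : ∀ q : Fin D.rank, half D ≤ (g.wperm l (g.sroot q)).val := fun q => by
    rw [hl]; exact honly _ (g.sroot_pos q) fun e => hno q e.symm
  have hspos : half D ≤ s.val := w0_pos g (g.nroot_sroot_neg i)
  have := g.pos_of_simples (J := {j | j < D.rank}) l (fun q _ => h1 q) hspos
    (fun q hq hqJ => absurd hq hqJ)
  rw [hl] at this
  omega

/-- The element representing the longest element. -/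
noncomputable def n0 : ↥(D.group F) :=
  ⟨g.wordN (w0word g), g.monomial_le_group (g.wordN_mem _)⟩

theorem acts_n0 : g.Acts ((n0 g : ↥(D.group F)) : GL D.Idx F) (w0 g) := g.acts_wordN _

end

end CfsgLib.KnownA.Chev
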