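import Cfsg.Agent.Lib.Chev.CardGroup
import Cfsg.Agent.Lib.Chev.Simple
import Cfsg.Agent.Lib.Chev.CommGood
import Cfsg.Agent.Lib.Chev.Good
import Cfsg.Agent.Lib.KnownA.ChevChar

/-!
Root characters as elements of the general linear group, and the Sylow subgroup `U`.
-/

set_option autoImplicit false

namespace CfsgLib.KnownA.Chev

open Cfsg.Lie CfsgLib.Chev CfsgLib.KnownA.ChevChar

variable {D : ChevalleyDatum} {F : Type*} [Field F]

theorem chainsOK_of_mem {D : ChevalleyDatum}
    (hD : D ∈ [chevG2, chevB2, chevD4, chevF4, chevE6, chevE7, chevE8]) : chainsOK D = true := by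
  simp only [List.mem_cons, List.not_mem_nil, or_false] at hD
  rcases hD with rfl | rfl | rfl | rfl | rfl | rfl | rfl
  exacts [chainsOK_G2, chainsOK_B2, chainsOK_D4, chainsOK_F4, chainsOK_E6, chainsOK_E7, chainsOK_E8]

theorem charDiag_mul (χ ψ : ℕ → Fˣ) :
    D.charDiag F χ * D.charDiag F ψ = D.charDiag F (fun r => χ r * ψ r) := by
  simp only [ChevalleyDatum.charDiag, Matrix.diagonal_mul_diagonal]
  congr 1
  funext a
  rcases a with i | r <;> simp

theorem charDiag_one : D.charDiag F (fun _ => 1) = 1 := by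
  simp only [ChevalleyDatum.charDiag]
  rw [← Matrix.diagonal_one]
  congr 1
  funext a
  rcases a with i | r <;> simp

/-- The diagonal matrix of `χ` as an element of the general linear group. -/
noncomputable def diagG (D : ChevalleyDatum) {F : Type*} [Field F] (χ : ℕ → Fˣ) : GL D.Idx F where
  val := D.charDiag F χ
  inv := D.charDiag F (fun r => (χ r)⁻¹)
  val_inv := by rw [charDiag_mul]; simp only [mul_inv_cancel]; exact charDiag_one
  inv_val := by rw [charDiag_mul]; simp only [inv_mul_cancel]; exact charDiag_one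

theorem coe_diagG (χ : ℕ → Fˣ) : (diagG D χ : Matrix D.Idx D.Idx F) = D.charDiag F χ := rfl

theorem diagG_inv (χ : ℕ → Fˣ) : (diagG D χ)⁻¹ = diagG D (fun r => (χ r)⁻¹) := Units.ext rfl

theorem diagG_mul (χ ψ : ℕ → Fˣ) : diagG D χ * diagG D ψ = diagG D (fun r => χ r * ψ r) :=
  Units.ext (charDiag_mul χ ψ)

theorem isRootCharacter_inv {χ : ℕ → Fˣ} (hχ : D.IsRootCharacter χ) :
    D.IsRootCharacter (fun r => (χ r)⁻¹) :=
  ⟨fun r hr => by simp [hχ.1 r hr], fun r s k hr hs h => by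
    simp [hχ.2 r s k hr hs h, mul_comm]⟩

theorem isRootCharacter_mul {χ ψ : ℕ → Fˣ} (hχ : D.IsRootCharacter χ) (hψ : D.IsRootCharacter ψ) :
    D.IsRootCharacter (fun r => χ r * ψ r) :=
  ⟨fun r hr => by simp [hχ.1 r hr, hψ.1 r hr, mul_comm], fun r s k hr hs h => by
    simp only [hχ.2 r s k hr hs h, hψ.2 r s k hr hs h, mul_mul_mul_comm]⟩

/-- An element conjugating `B` into itself lies in `B`. -/
theorem mem_B_of_conj_le {G : Type*} [Group G] (P : Cfsg.BNPair G) {x : G}
    (h : ∀ b ∈ P.B, x * b * x⁻¹ ∈ P.B) : x ∈ P.B := by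
  obtain ⟨n, hn, hxn⟩ := BN.exists_mem_cell P x
  obtain ⟨b₁, h₁, b₂, h₂, rfl⟩ := (BN.mem_cell P).1 hxn
  refine P.B.mul_mem (P.B.mul_mem h₁ (BN.mem_of_conj_le P le_rfl hn fun b hb => ?_).1) h₂
  have h' := h (b₂⁻¹ * b * b₂) (P.B.mul_mem (P.B.mul_mem (P.B.inv_mem h₂) hb) h₂)
  have h'' := P.B.mul_mem (P.B.mul_mem (P.B.inv_mem h₁) h') h₁
  simpa [mul_assoc] using h''

variable (g : Good D)
include g

theorem diagG_conj_xG (hch : chainsOK D = true) {χ : ℕ → Fˣ} (hχ : D.IsRootCharacter χ) {r : ℕ}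
    (hr : r < D.nroots) (t : F) :
    diagG D χ * g.xG r t * (diagG D χ)⁻¹ = g.xG r ((χ r : F) * t) := by
  refine Units.ext ?_
  rw [Units.val_mul, Units.val_mul, diagG_inv, coe_diagG, coe_diagG, g.coe_xG, g.coe_xG]
  exact charDiag_x D hch χ hχ r hr t

theorem diagG_conj_rootGen (hch : chainsOK D = true) {χ : ℕ → Fˣ} (hχ : D.IsRootCharacter χ)
    (S : Set ℕ) {y : GL D.Idx F} (hy : y ∈ rootGen D F S) :
    diagG D χ * y * (diagG D χ)⁻¹ ∈ rootGen D F S := by
  have : rootGen D F S ≤ (rootGen D F S).comap (MulAut.conj (diagG D χ)).toMonoidHom :=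
    g.rootGen_le fun r hS hr t => by
      show diagG D χ * g.xG r t * (diagG D χ)⁻¹ ∈ rootGen D F S
      rw [diagG_conj_xG g hch hχ hr]
      exact g.mem_rootGen hr hS _
  exact this hy

theorem diagG_mem_normalizer_group (hch : chainsOK D = true) {χ : ℕ → Fˣ}
    (hχ : D.IsRootCharacter χ) {y : GL D.Idx F} (hy : y ∈ D.group F) :
    diagG D χ * y * (diagG D χ)⁻¹ ∈ D.group F := by
  have : D.group F ≤ (D.group F).comap (MulAut.conj (diagG D χ)).toMonoidHom :=
    g.group_le fun r hr t => by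
      show diagG D χ * g.xG r t * (diagG D χ)⁻¹ ∈ D.group F
      rw [diagG_conj_xG g hch hχ hr]
      exact g.xG_mem_group hr _
  exact this hy

/-- An element of `G` normalising `U` and `V` lies in `H`. -/
theorem mem_diagonal_of_normalizes (hc : HasComm D) {x : GL D.Idx F} (hx : x ∈ D.group F)
    (hU : ∀ u ∈ D.borelSubgroup F, x * u * x⁻¹ ∈ D.borelSubgroup F)
    (hV : ∀ u ∈ D.negUnipotent F ⊔ D.diagonalSubgroup F,
      x * u * x⁻¹ ∈ D.negUnipotent F ⊔ D.diagonalSubgroup F) :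
    x ∈ D.diagonalSubgroup F := by
  have key : ∀ y : GL D.Idx F, ∀ hy : y ∈ D.group F,
      (∀ u ∈ D.borelSubgroup F, y * u * y⁻¹ ∈ D.borelSubgroup F) → y ∈ D.borelSubgroup F := by
    intro y hy h
    exact mem_B_of_conj_le (g.bnPair hc) (x := (⟨y, hy⟩ : ↥(D.group F))) fun z hz =>
      h (z : GL D.Idx F) hz
  obtain ⟨n, hn, hmap⟩ := g.exists_map_pos_eq_neg (F := F)
  have hnG := g.monomial_le_group hn
  have hB : ∀ u : GL D.Idx F, n * u * n⁻¹ ∈ D.negUnipotent F ⊔ D.diagonalSubgroup F ↔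
      u ∈ D.borelSubgroup F := by
    have hmapB : (D.borelSubgroup F).map (MulAut.conj n).toMonoidHom =
        D.negUnipotent F ⊔ D.diagonalSubgroup F := by
      rw [ChevalleyDatum.borelSubgroup, Subgroup.map_sup, hmap]
      congr 1
      refine le_antisymm (Subgroup.map_le_iff_le_comap.2 fun h hh => g.diag_conj hn hh) ?_
      intro h hh
      refine ⟨n⁻¹ * h * n, ?_, show n * (n⁻¹ * h * n) * n⁻¹ = h by group⟩
      simpa using g.diag_conj (inv_mem hn) hh
    intro u
    rw [← hmapB]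
    exact ⟨fun ⟨w, hw, he⟩ => by
      have : w = u := mul_left_cancel (mul_right_cancel he)
      exact this ▸ hw, fun hu => Subgroup.mem_map_of_mem _ hu⟩
  have h2 : x ∈ D.negUnipotent F ⊔ D.diagonalSubgroup F := by
    have := key (n⁻¹ * x * n) (mul_mem (mul_mem (inv_mem hnG) hx) hnG) fun u hu => by
      rw [← hB]
      have h3 := hV _ ((hB u).2 hu)
      have e : n * (n⁻¹ * x * n * u * (n⁻¹ * x * n)⁻¹) * n⁻¹ = x * (n * u * n⁻¹) * x⁻¹ := by group
      rwa [e]
    rw [← hB] at this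
    simpa [mul_assoc] using this
  rw [← g.borel_inf_negBorel]
  exact ⟨key x hx hU, h2⟩

theorem mem_diagonal_of_charDiag (hc : HasComm D) (hch : chainsOK D = true) {χ : ℕ → Fˣ}
    (hχ : D.IsRootCharacter χ) {x : GL D.Idx F} (hx : x ∈ D.group F)
    (hxχ : (x : Matrix D.Idx D.Idx F) = D.charDiag F χ) : x ∈ D.diagonalSubgroup F := by
  obtain rfl : x = diagG D χ := Units.ext hxχ
  have hH : ∀ h ∈ D.diagonalSubgroup F, diagG D χ * h * (diagG D χ)⁻¹ = h := by
    intro h hh
    rw [g.diagonal_eq_range] at hh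
    obtain ⟨c, rfl⟩ := hh
    rw [mul_inv_eq_iff_eq_mul]
    refine Units.ext ?_
    rw [Units.val_mul, Units.val_mul, coe_diagG, torHom_apply, ChevalleyDatum.charDiag,
      Matrix.diagonal_mul_diagonal, Matrix.diagonal_mul_diagonal]
    simp only [mul_comm]
  refine mem_diagonal_of_normalizes g hc hx (fun u hu => ?_) (fun u hu => ?_)
  · obtain ⟨v, hv, h, hh, rfl⟩ := g.mem_borel.1 hu
    rw [show diagG D χ * (v * h) * (diagG D χ)⁻¹ =
      (diagG D χ * v * (diagG D χ)⁻¹) * (diagG D χ * h * (diagG D χ)⁻¹) by group, hH h hh]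
    refine mul_mem (Subgroup.mem_sup_left ?_) (Subgroup.mem_sup_right hh)
    rw [g.posUnipotent_eq] at hv ⊢
    exact diagG_conj_rootGen g hch hχ _ hv
  · obtain ⟨v, hv, h, hh, rfl⟩ := g.mem_negBorel.1 hu
    rw [show diagG D χ * (v * h) * (diagG D χ)⁻¹ =
      (diagG D χ * v * (diagG D χ)⁻¹) * (diagG D χ * h * (diagG D χ)⁻¹) by group, hH h hh]
    refine mul_mem (Subgroup.mem_sup_left ?_) (Subgroup.mem_sup_right hh)
    rw [g.negUnipotent_eq] at hv ⊢
    exact diagG_conj_rootGen g hch hχ _ hv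

/-! ### The Sylow subgroup -/

variable [Fintype F]

theorem weylSum_modEq (p : ℕ) [CharP F p] [Fact p.Prime] :
    g.weylSum {i | i < D.rank} (Fintype.card F) ≡ 1 [MOD p] := by
  classical
  obtain ⟨n, -, hn⟩ := FiniteField.card F p
  rw [Good.weylSum, ← g.weyl_eq_wJ, ← Finset.sum_erase_add _ _
    (Finset.mem_filter.2 ⟨Finset.mem_univ _, one_mem g.weyl⟩), g.ninv_one, pow_zero]
  have h0 : ∀ w ∈ (Finset.univ.filter fun w => w ∈ g.weyl).erase 1,
      p ∣ Fintype.card F ^ ninv D w := by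
    intro w hw
    simp only [Finset.mem_erase, Finset.mem_filter, Finset.mem_univ, true_and] at hw
    have hne : ninv D w ≠ 0 := by
      intro h
      refine hw.1 (g.eq_one_of_pos hw.2 fun a ha => ?_)
      rw [ninv, Finset.card_eq_zero, Finset.filter_eq_empty_iff] at h
      by_contra hc'
      exact h (Finset.mem_univ a) ⟨ha, not_le.1 hc'⟩
    exact dvd_pow (hn ▸ dvd_pow_self p n.ne_zero) hne
  obtain ⟨k, hk⟩ := Finset.dvd_sum h0
  rw [hk]
  exact Nat.modEq_iff_dvd.2 ⟨-(k : ℤ), by push_cast; ring⟩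

theorem diagonal_coprime (p : ℕ) [CharP F p] [Fact p.Prime] :
    ¬ p ∣ Nat.card (D.diagonalSubgroup F) := by
  classical
  obtain ⟨n, -, hn⟩ := FiniteField.card F p
  rw [g.diagonal_eq_range]
  intro h
  have h2 := h.trans (Subgroup.card_range_dvd (torHom D F))
  rw [Nat.card_pi, Finset.prod_const, Nat.card_units, Nat.card_eq_fintype_card] at h2
  have h3 := (Fact.out : p.Prime).dvd_of_dvd_pow h2
  have h4 : p ∣ Fintype.card F := hn ▸ dvd_pow_self p n.ne_zero
  have h1 : 1 ≤ Fintype.card F := Fintype.card_pos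
  have h5 : p ∣ Fintype.card F - (Fintype.card F - 1) := Nat.dvd_sub h4 h3
  rw [Nat.sub_sub_self h1, Nat.dvd_one] at h5
  exact (Fact.out : p.Prime).ne_one h5

theorem exists_sylow_posUnipotent (hc : HasComm D) (p : ℕ) [CharP F p] [Fact p.Prime] :
    ∃ P : Sylow p ↥(D.group F),
      (P : Subgroup ↥(D.group F)) = (D.posUnipotent F).subgroupOf (D.group F) := by
  classical
  have hle := g.posUnipotent_le_group (F := F)
  have hcardU : Nat.card ((D.posUnipotent F).subgroupOf (D.group F)) =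
      Fintype.card F ^ (D.nroots / 2) := by
    rw [Nat.card_congr (Subgroup.subgroupOfEquivOfLe hle).toEquiv, g.card_posUnipotent hc]
  obtain ⟨n, -, hn⟩ := FiniteField.card F p
  have hp : IsPGroup p ((D.posUnipotent F).subgroupOf (D.group F)) :=
    IsPGroup.of_card (n := n * (D.nroots / 2)) (by rw [hcardU, hn, pow_mul])
  have hidx : ¬ p ∣ ((D.posUnipotent F).subgroupOf (D.group F)).index := by
    have h1 := Subgroup.card_mul_index ((D.posUnipotent F).subgroupOf (D.group F))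
    rw [g.card_group hc, g.card_borel hc, hcardU, mul_assoc] at h1
    have hpos : 0 < Fintype.card F ^ (D.nroots / 2) := pow_pos Fintype.card_pos _
    rw [Nat.eq_of_mul_eq_mul_left hpos h1]
    intro h
    rcases (Nat.Prime.dvd_mul Fact.out).1 h with h | h
    · exact diagonal_coprime g p h
    · have := ((weylSum_modEq g p).dvd_iff dvd_rfl).1 h
      exact (Fact.out : p.Prime).ne_one (Nat.dvd_one.1 this)
  exact ⟨IsPGroup.toSylow hp hidx, IsPGroup.toSylow_coe hp hidx⟩

end CfsgLib.KnownA.Chev
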