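import Cfsg.Agent.Lib.KnownA.Chev.Decompose

/-!
The three kinds of automorphisms as maps of the fundamental root subgroups; composition,
uniqueness of the node permutation.
-/

set_option autoImplicit false

namespace CfsgLib.KnownA.Chev

open Cfsg.Lie CfsgLib.Chev CfsgLib.KnownA.ChevChar

variable {D : ChevalleyDatum} {F : Type*} [Field F]

theorem graphExp_self (c i : ℕ) : D.graphExp c i i = 1 := by
  simp [ChevalleyDatum.graphExp]

theorem graphExp_pos (i j : ℕ) [Finite F] : 0 < D.graphExp (ringChar F) i j := by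
  simp only [ChevalleyDatum.graphExp]
  haveI : CharP F (ringChar F) := ringChar.charP F
  split
  · exact (CharP.char_is_prime F (ringChar F)).pos
  · exact Nat.one_pos

theorem graphExp_pow_injective (i j : ℕ) [Finite F] :
    Function.Injective fun t : F => t ^ D.graphExp (ringChar F) i j := by
  simp only [ChevalleyDatum.graphExp]
  haveI : CharP F (ringChar F) := ringChar.charP F
  split
  · haveI : Fact (ringChar F).Prime := ⟨CharP.char_is_prime F _⟩
    exact frobenius_inj F (ringChar F)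
  · intro a b h; simpa using h

section

variable (g : Good D)
include g

theorem graph_xs {γ : ↥(D.group F) ≃* ↥(D.group F)} (h : D.IsGraphAut γ) :
    ∃ π : Equiv.Perm (Fin D.rank), D.IsDiagramSymmetry π ∧ ∀ i t,
      γ (xs g (g.sroot i) t) = xs g (g.sroot (π i)) (t ^ D.graphExp (ringChar F) i (π i)) ∧
      γ (xs g (g.nroot (g.sroot i)) t) =
        xs g (g.nroot (g.sroot (π i))) (t ^ D.graphExp (ringChar F) i (π i)) := by
  obtain ⟨π, hπ, hγ⟩ := h
  exact ⟨π, hπ, fun i t => ⟨Subtype.ext (g.eq_xG ((hγ (xs g (g.sroot i) t) i t).1 rfl)),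
    Subtype.ext (g.eq_xG ((hγ (xs g (g.nroot (g.sroot i)) t) i t).2 rfl))⟩⟩

theorem field_xs {φ : ↥(D.group F) ≃* ↥(D.group F)} (h : D.IsFieldAut φ) :
    ∃ σ : F ≃+* F, ∀ r t, φ (xs g r t) = xs g r (σ t) := by
  obtain ⟨σ, hσ⟩ := h
  exact ⟨σ, fun r t => Subtype.ext (g.eq_xG (hσ (xs g r t) r t r.2 rfl))⟩

theorem isFieldAut_of_xs {φ : ↥(D.group F) ≃* ↥(D.group F)} (σ : F ≃+* F)
    (h : ∀ r t, φ (xs g r t) = xs g r (σ t)) : D.IsFieldAut φ := by
  refine ⟨σ, fun x r t hr hx => ?_⟩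
  obtain rfl : x = xs g ⟨r, hr⟩ t := Subtype.ext (g.eq_xG hx)
  rw [h]; rfl

theorem diag_xs (hch : chainsOK D = true) {φ : ↥(D.group F) ≃* ↥(D.group F)}
    (h : D.IsDiagonalAut φ) :
    ∃ χ : ℕ → Fˣ, D.IsRootCharacter χ ∧ ∀ (r : Fin D.nroots) (t : F),
      φ (xs g r t) = xs g r ((χ r : F) * t) := by
  obtain ⟨χ, hχ, rfl⟩ := exists_char_of_isDiagonalAut g hch h
  exact ⟨χ, hχ, diagAut_xs g hch hχ⟩

/-- A field automorphism commutes with a graph automorphism. -/
theorem field_graph_commute {f γ : ↥(D.group F) ≃* ↥(D.group F)} (hf : D.IsFieldAut f)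
    (hγ : D.IsGraphAut γ) : γ.trans f = f.trans γ := by
  obtain ⟨σ, hσ⟩ := field_xs g hf
  obtain ⟨π, -, hπ⟩ := graph_xs g hγ
  refine aut_ext g (fun i t => ?_) (fun i t => ?_)
  · rw [MulEquiv.trans_apply, MulEquiv.trans_apply, (hπ i t).1, hσ, hσ, (hπ i _).1, map_pow]
  · rw [MulEquiv.trans_apply, MulEquiv.trans_apply, (hπ i t).2, hσ, hσ, (hπ i _).2, map_pow]

variable [Finite F]

/-- The permutation of nodes carried by an automorphism fixing `U` and `V`. -/
def Permutes (θ : ↥(D.group F) ≃* ↥(D.group F)) (π : Equiv.Perm (Fin D.rank)) : Prop :=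
  ∃ a b : Fin D.rank → F → F, SimpleMap g θ.toMonoidHom π a b

theorem simpleMap_of_xs {θ : ↥(D.group F) ≃* ↥(D.group F)} {π : Equiv.Perm (Fin D.rank)}
    {a b : Fin D.rank → F → F}
    (hp : ∀ i t, θ (xs g (g.sroot i) t) = xs g (g.sroot (π i)) (a i t))
    (hn : ∀ i t, θ (xs g (g.nroot (g.sroot i)) t) = xs g (g.nroot (g.sroot (π i))) (b i t)) :
    SimpleMap g θ.toMonoidHom π a b :=
  ⟨θ.injective, hp, hn, fun i => Finite.injective_iff_surjective.1 fun s t h =>
    xs_inj g (r := g.sroot i) (θ.injective (by rw [hp, hp, h]))⟩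

theorem graph_simpleMap {γ : ↥(D.group F) ≃* ↥(D.group F)} {π : Equiv.Perm (Fin D.rank)}
    (h : ∀ i t, γ (xs g (g.sroot i) t) = xs g (g.sroot (π i)) (t ^ D.graphExp (ringChar F) i (π i)) ∧
      γ (xs g (g.nroot (g.sroot i)) t) =
        xs g (g.nroot (g.sroot (π i))) (t ^ D.graphExp (ringChar F) i (π i))) :
    SimpleMap g γ.toMonoidHom π (fun i t => t ^ D.graphExp (ringChar F) i (π i))
      (fun i t => t ^ D.graphExp (ringChar F) i (π i)) :=
  simpleMap_of_xs g (fun i t => (h i t).1) (fun i t => (h i t).2)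

theorem Permutes.trans {θ θ' : ↥(D.group F) ≃* ↥(D.group F)} {π π' : Equiv.Perm (Fin D.rank)}
    (h : Permutes g θ π) (h' : Permutes g θ' π') : Permutes g (θ'.trans θ) (π * π') := by
  obtain ⟨a, b, h⟩ := h
  obtain ⟨a', b', h'⟩ := h'
  refine ⟨fun i t => a (π' i) (a' i t), fun i t => b (π' i) (b' i t),
    simpleMap_of_xs g (fun i t => ?_) (fun i t => ?_)⟩
  · show θ.toMonoidHom (θ'.toMonoidHom _) = _
    rw [h'.pos, h.pos]; rfl
  · show θ.toMonoidHom (θ'.toMonoidHom _) = _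
    rw [h'.neg, h.neg]; rfl

theorem Permutes.fixUV {θ : ↥(D.group F) ≃* ↥(D.group F)} {π : Equiv.Perm (Fin D.rank)}
    (h : Permutes g θ π) : FixUV g θ := by
  obtain ⟨a, b, h⟩ := h
  have onto : ∀ K : Subgroup ↥(D.group F), (∀ x ∈ K, θ x ∈ K) → ∀ x, θ x ∈ K → x ∈ K := by
    intro K hK x hx
    haveI : Finite ↥(D.group F) := Finite.of_injective (fun y : ↥(D.group F) => (y : GL D.Idx F))
      Subtype.val_injective
    obtain ⟨⟨y, hy⟩, he⟩ := Finite.injective_iff_surjective.1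
      (show Function.Injective fun y : ↥K => (⟨θ y, hK y y.2⟩ : ↥K) from fun u v e =>
        Subtype.ext (θ.injective (congrArg Subtype.val e))) ⟨θ x, hx⟩
    exact θ.injective (congrArg Subtype.val he) ▸ hy
  exact ⟨fun x => ⟨onto _ (fun _ hx => h.map_pos hx) x, fun hx => h.map_pos hx⟩,
    fun x => ⟨onto _ (fun _ hx => h.map_neg hx) x, fun hx => h.map_neg hx⟩⟩

theorem Permutes.perm_unique {θ : ↥(D.group F) ≃* ↥(D.group F)} {π π' : Equiv.Perm (Fin D.rank)}
    (h : Permutes g θ π) (h' : Permutes g θ π') : π = π' := by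
  obtain ⟨a, b, h⟩ := h
  obtain ⟨a', b', h'⟩ := h'
  refine Equiv.ext fun i => g.sroot_injective ?_
  exact root_eq_of_xs g (h.a_ne_zero i one_ne_zero) ((h.pos i 1).symm.trans (h'.pos i 1))

theorem permutes_graph {γ : ↥(D.group F) ≃* ↥(D.group F)} (h : D.IsGraphAut γ) :
    ∃ π, D.IsDiagramSymmetry π ∧ Permutes g γ π := by
  obtain ⟨π, hπ, h⟩ := graph_xs g h
  exact ⟨π, hπ, _, _, graph_simpleMap g h⟩

theorem permutes_field {φ : ↥(D.group F) ≃* ↥(D.group F)} (h : D.IsFieldAut φ) :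
    Permutes g φ 1 := by
  obtain ⟨σ, hσ⟩ := field_xs g h
  exact ⟨fun _ t => σ t, fun _ t => σ t, simpleMap_of_xs g (fun i t => hσ _ t) (fun i t => hσ _ t)⟩

theorem permutes_diag (hch : chainsOK D = true) {φ : ↥(D.group F) ≃* ↥(D.group F)}
    (h : D.IsDiagonalAut φ) : Permutes g φ 1 := by
  obtain ⟨χ, -, hχ⟩ := diag_xs g hch h
  exact ⟨fun i t => (χ (g.sroot i) : F) * t, fun i t => (χ (g.nroot (g.sroot i)) : F) * t,
    simpleMap_of_xs g (fun i t => hχ _ t) (fun i t => hχ _ t)⟩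

theorem FixUV.trans {θ θ' : ↥(D.group F) ≃* ↥(D.group F)} (h : FixUV g θ) (h' : FixUV g θ') :
    FixUV g (θ'.trans θ) :=
  ⟨fun x => (h.memU _).trans (h'.memU x), fun x => (h.memV _).trans (h'.memV x)⟩

theorem mem_Hs_of_fixUV (hc : HasComm D) {x : ↥(D.group F)} (h : FixUV g (MulAut.conj x)) :
    x ∈ Hs g F := by
  have hB : x ∈ Bs g F := (mem_Bs_iff g hc).2 fun u hu => (h.memU u).2 hu
  have hB' : (n0 g)⁻¹ * x * n0 g ∈ Bs g F :=
    mem_Bs_of_conj_n0 g hc fun v hv => (h.memV v).2 hv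
  obtain ⟨u, hu, t, ht, he⟩ := g.mem_borel.1 hB
  let u0 : ↥(D.group F) := ⟨u, g.posUnipotent_le_group hu⟩
  let t0 : ↥(D.group F) := ⟨t, g.diagonal_le_group ht⟩
  have hx : x = u0 * t0 := Subtype.ext he.symm
  have hu0 : u0 ∈ Us g F := hu
  have ht' : (n0 g)⁻¹ * t0 * n0 g ∈ Hs g F := by
    have := g.diag_conj (inv_mem (g.wordN_mem (F := F) (w0word g))) ht
    rwa [inv_inv] at this
  have h1 : (n0 g)⁻¹ * u0 * n0 g ∈ Vs g F := (n0_conj_mem_Us g).1 (by simpa [mul_assoc] using hu0)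
  have h2 : (n0 g)⁻¹ * u0 * n0 g ∈ Bs g F := by
    have := mul_mem hB' (inv_mem (Hs_le_Bs g ht'))
    rw [hx] at this
    simpa [mul_assoc] using this
  have h3 := Bs_inf_Vs g h2 h1
  have h4 : u0 = 1 := by
    have := congrArg (fun z => n0 g * z * (n0 g)⁻¹) h3
    simpa [mul_assoc] using this
  rw [hx, h4, one_mul]
  exact ht

theorem torus_xs {x : ↥(D.group F)} (hx : x ∈ Hs g F) :
    ∃ c : Fin D.rank → Fˣ, ∀ (r : Fin D.nroots) (t : F), MulAut.conj x (xs g r t) =
      xs g r (((∏ i : Fin D.rank, c i ^ D.cartan i r : Fˣ) : F) * t) := by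
  have hx' : (x : GL D.Idx F) ∈ D.diagonalSubgroup F := hx
  rw [g.diagonal_eq_range] at hx'
  obtain ⟨c, hc⟩ := hx'
  refine ⟨c, fun r t => Subtype.ext ?_⟩
  show (x : GL D.Idx F) * g.xG r t * (x : GL D.Idx F)⁻¹ = _
  rw [← hc]
  exact g.torHom_conj_xG c r.2 t

theorem permutes_conj_Hs {x : ↥(D.group F)} (hx : x ∈ Hs g F) : Permutes g (MulAut.conj x) 1 := by
  obtain ⟨c, hc⟩ := torus_xs g hx
  exact ⟨_, _, simpleMap_of_xs g (fun i t => hc _ t) (fun i t => hc _ t)⟩

omit [Finite F] in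
/-- For a triple or double bond exchanged with its opposite, the characteristic is the bond number. -/
theorem ringChar_of_exchanged (hD : D ∈ [chevG2, chevB2, chevD4, chevF4, chevE6, chevE7, chevE8])
    [Finite F] {θ : ↥(D.group F) →* ↥(D.group F)} {π : Equiv.Perm (Fin D.rank)}
    {a b : Fin D.rank → F → F} (hθ : SimpleMap g θ π a b) (h1 : ∀ i, a i 1 = 1)
    {i j : Fin D.rank} {k : ℕ} (hk : k = 2 ∨ k = 3) (hA : D.cartan i (D.simple j) = -1)
    (hA' : D.cartan (π i) (D.simple (π j)) = -(k : ℤ)) (hG : k = 3 → (i : ℕ) = 1 ∧ (j : ℕ) = 0) :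
    ringChar F = k := by
  obtain ⟨f, hf⟩ := hθ.exists_fieldAuts h1
  have hfk : ∀ c : F, f j c = f i c ^ k := by
    intro c
    by_cases hc : c = 0
    · subst hc
      rw [map_zero, map_zero, zero_pow (by omega)]
    · have h := hθ.torus_rel h1 i j (Units.mk0 c hc) 1
      rw [h1, mul_one, mul_one, hA, _root_.zpow_neg_one, ← hf, Units.val_inv_eq_inv_val,
        map_inv₀, hA', _root_.zpow_neg, zpow_natCast, Units.val_inv_eq_inv_val,
        Units.val_pow_eq_pow_val, inv_inj] at h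
      simpa [SimpleMap.au, hf] using h
  have hφ : ∀ c, ((f j).symm.trans (f i)) c ^ k = c := fun c => by
    show f i ((f j).symm c) ^ k = c
    rw [← hfk, RingEquiv.apply_symm_apply]
  rcases char_of_sq_root hk hφ with h | ⟨rfl, hp2, -⟩
  · exact h
  · exfalso
    obtain ⟨rfl, hi0, hj1⟩ := eq_G2_of_triple hD
      (show D.cartan (π i) (D.simple (π j)) = -3 by simpa using hA')
    haveI : CharP F 2 := ringChar.of_eq hp2
    obtain ⟨hi, hj⟩ := hG rfl
    exact not_swap_G2 hθ h1 j i hj hi (Fin.ext (by omega))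

end

end CfsgLib.KnownA.Chev
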