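import Cfsg.Agent.Lib.KnownA.Chev.PosGen
import Cfsg.Agent.Lib.KnownA.Chev.Gen
import Cfsg.Agent.Lib.Chev.Parabolic
import Cfsg.Agent.Lib.Chev.SuppTables
import Cfsg.Agent.Lib.Transfer.ClassTwo

/-!
Subgroups of `U` weakly closed in `U` are unipotent radicals of standard parabolic subgroups.
-/

set_option autoImplicit false

namespace CfsgLib.KnownA.Chev

open Cfsg.Lie CfsgLib.Chev
open scoped commutatorElement

/-- The greatest common divisor of the minors of two columns of the Cartan matrix. -/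
def minorGcd (D : ChevalleyDatum) (i k : ℕ) : ℕ :=
  ((List.range D.rank).product (List.range D.rank)).foldr (fun ab m => Nat.gcd
    ((D.cartan ab.2 (D.simple k) * D.cartan ab.1 (D.simple i) -
      D.cartan ab.1 (D.simple k) * D.cartan ab.2 (D.simple i)).natAbs) m) 0

/-- All minors have greatest common divisor dividing `d`. -/
def minorsOK (D : ChevalleyDatum) (d : ℕ) : Bool :=
  (List.range D.rank).all fun i => (List.range D.rank).all fun k =>
    i == k || decide (minorGcd D i k ∣ d)

theorem minorsG2 : minorsOK chevG2 2 = true := by decide +kernel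
theorem minorsB2 : minorsOK chevB2 2 = true := by decide +kernel
theorem minorsD4 : minorsOK chevD4 2 = true := by decide +kernel
theorem minorsF4 : minorsOK chevF4 2 = true := by decide +kernel
theorem minorsE6 : minorsOK chevE6 1 = true := by decide +kernel
theorem minorsE7 : minorsOK chevE7 1 = true := by decide +kernel
theorem minorsE8 : minorsOK chevE8 1 = true := by decide +kernel

theorem dvd_foldr_gcd {α : Type*} (f : α → ℕ) {n : ℕ} :
    ∀ L : List α, (∀ x ∈ L, n ∣ f x) → n ∣ L.foldr (fun x m => Nat.gcd (f x) m) 0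
  | [], _ => dvd_zero n
  | a :: L, h => Nat.dvd_gcd (h a List.mem_cons_self)
      (dvd_foldr_gcd f L fun x hx => h x (List.mem_cons_of_mem _ hx))

variable {D : ChevalleyDatum} {F : Type*} [Field F] (g : Good D)
include g

/-- The coordinate of an element of `U` at a fundamental root. -/
def comp (i : Fin D.rank) (u : GL D.Idx F) : F :=
  (u : Matrix D.Idx D.Idx F) (Sum.inl i) (Sum.inr (g.nroot (g.sroot i)))

theorem comp_one (i : Fin D.rank) : comp g i (1 : GL D.Idx F) = 0 := by
  simp [comp]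

theorem comp_xG (i : Fin D.rank) {r : ℕ} (hr : half D ≤ r) (hrn : r < D.nroots) (t : F) :
    comp g i (g.xG r t) = if r = D.simple i then t else 0 := by
  split
  · subst r
    show D.x F (D.simple i) t (Sum.inl i) (Sum.inr ⟨D.neg (D.simple i), _⟩) = t
    rw [g.x_coroot_entry (g.simple_lt i.2), g.corootCo_simple i.2 i.2]
    simp
  · rename_i hne
    show D.x F r t (Sum.inl i) (Sum.inr (g.nroot (g.sroot i))) = 0
    have hs1 : (g.nroot (g.sroot i)) ≠ ⟨r, hrn⟩ := fun h => by
      have := g.nroot_sroot_neg i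
      rw [h] at this
      simp at this
      omega
    have hs2 : (g.nroot (g.sroot i)).val ≠ D.negIdx.getD r 0 := fun h => hne (by
      have h' : D.neg (D.simple i) = D.neg r := h
      rw [← g.neg_neg hrn, ← h', g.neg_neg (g.simple_lt i.2)])
    simp only [ChevalleyDatum.x, dif_pos hrn, ChevalleyDatum.xMat, Matrix.of_apply, if_neg hs1,
      if_neg hs2]

theorem U_above (hse : SuppEq D) {u : GL D.Idx F} (hu : u ∈ D.posUnipotent F) :
    Above (g.outB (∅ : Set ℕ)) 0 (u : Matrix D.Idx D.Idx F) := by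
  refine g.radical_above hse ∅ ?_
  suffices h : D.posUnipotent F = D.unipotentRadical F (∅ : Set ℕ) from h ▸ hu
  rw [g.unipotentRadical_eq hse, g.posUnipotent_eq]
  refine le_antisymm (g.rootGen_mono fun r hr hrn => ⟨hrn, hr, fun h => ?_⟩)
    (g.rootGen_mono fun r hr _ => hr.2.1)
  obtain ⟨q, hq, hne⟩ : ∃ q < D.rank, g.co r q ≠ 0 := by
    by_contra hno
    push Not at hno
    have h5 := g.wt_pos hr hrn
    rw [g.wt_eq, Finset.sum_eq_zero fun j hj => by rw [hno j (Finset.mem_range.1 hj), zero_mul]] at h5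
    exact lt_irrefl _ h5
  exact hne (h q hq (Set.notMem_empty q))

theorem comp_mul (hse : SuppEq D) (i : Fin D.rank) {u v : GL D.Idx F}
    (hu : u ∈ D.posUnipotent F) (hv : v ∈ D.posUnipotent F) :
    comp g i (u * v) = comp g i u + comp g i v := by
  classical
  set a : D.Idx := Sum.inl i
  set b : D.Idx := Sum.inr (g.nroot (g.sroot i))
  have hab : a ≠ b := by simp [a, b]
  have hA := U_above g hse hu
  have hB := U_above g hse hv
  have hW : g.outB (∅ : Set ℕ) a - g.outB (∅ : Set ℕ) b = 1 := by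
    simp only [Good.outB, a, b, Sum.elim_inl, Sum.elim_inr, Pi.zero_apply, Good.outWt,
      Set.mem_empty_iff_false, if_false]
    rw [Finset.sum_eq_single (i : ℕ)]
    · show 0 - g.co (D.neg (D.simple i)) i = 1
      rw [g.co_neg (g.simple_lt i.2) i.2, g.co_simple i.2 i.2, if_pos rfl]
      norm_num
    · intro q hq hqi
      show g.co (D.neg (D.simple i)) q = 0
      rw [g.co_neg (g.simple_lt i.2) (Finset.mem_range.1 hq), g.co_simple i.2 (Finset.mem_range.1 hq),
        if_neg (Ne.symm hqi)]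
      simp
    · simp
  show ((u * v : GL D.Idx F) : Matrix D.Idx D.Idx F) a b = _
  rw [Units.val_mul, Matrix.mul_apply, ← Finset.sum_subset (Finset.subset_univ {b, a})]
  · rw [Finset.sum_pair hab.symm, (hB b b).1 rfl, (hA a a).1 rfl, mul_one, one_mul]
    rfl
  · intro k _ hk
    simp only [Finset.mem_insert, Finset.mem_singleton, not_or] at hk
    by_contra hne
    have h1 := (hA a k).2 (Ne.symm hk.2) (left_ne_zero_of_mul hne)
    have h2 := (hB k b).2 hk.1 (right_ne_zero_of_mul hne)
    omega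

theorem comp_inv (hse : SuppEq D) (i : Fin D.rank) {u : GL D.Idx F} (hu : u ∈ D.posUnipotent F) :
    comp g i u⁻¹ = - comp g i u := by
  have := comp_mul g hse i (inv_mem hu) hu
  rw [inv_mul_cancel, comp_one] at this
  exact eq_neg_of_add_eq_zero_left this.symm

theorem comp_posExcept (hse : SuppEq D) (i : Fin D.rank) {u : GL D.Idx F}
    (hu : u ∈ rootGen D F (g.posExcept i)) : comp g i u = 0 := by
  have hle := g.posExcept_le_pos (F := F) i
  induction hu using Subgroup.closure_induction with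
  | mem y hy =>
    obtain ⟨r, t, hS, hr, hy⟩ := hy
    rw [g.eq_xG hy, comp_xG g i hS.1 hr, if_neg hS.2]
  | one => exact comp_one g i
  | mul y z hy hz py pz => rw [comp_mul g hse i (hle hy) (hle hz), py, pz, add_zero]
  | inv y hy py => rw [comp_inv g hse i (hle hy), py, neg_zero]

/-- The value of a torus element at a fundamental root. -/
def torVal (i : Fin D.rank) (c : Fin D.rank → Fˣ) : Fˣ :=
  ∏ k : Fin D.rank, c k ^ D.cartan k (D.simple i)

theorem comp_conj (hse : SuppEq D) (i : Fin D.rank) (c : Fin D.rank → Fˣ) {u : GL D.Idx F}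
    (hu : u ∈ D.posUnipotent F) :
    comp g i (torHom D F c * u * (torHom D F c)⁻¹) = (torVal i c : F) * comp g i u := by
  have hconj : ∀ y ∈ D.posUnipotent F,
      torHom D F c * y * (torHom D F c)⁻¹ ∈ D.posUnipotent F := fun y hy =>
    (Subgroup.mem_normalizer_iff.1 (g.diagonal_le_normalizer_pos (g.torHom_mem c)) y).1 hy
  induction hu using Subgroup.closure_induction with
  | mem y hy =>
    obtain ⟨r, t, hr, hy⟩ := hy
    obtain ⟨h1, h2⟩ := (g.isPosRoot_iff r).1 hr
    rw [g.eq_xG hy, g.torHom_conj_xG c h2, comp_xG g i h1 h2, comp_xG g i h1 h2]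
    split
    · subst r; rfl
    · rw [mul_zero]
  | one => rw [mul_one, mul_inv_cancel, comp_one, mul_zero]
  | mul y z hy hz py pz =>
    rw [show torHom D F c * (y * z) * (torHom D F c)⁻¹ =
      torHom D F c * y * (torHom D F c)⁻¹ * (torHom D F c * z * (torHom D F c)⁻¹) by group,
      comp_mul g hse i (hconj y hy) (hconj z hz), py, pz, comp_mul g hse i hy hz, mul_add]
  | inv y hy py =>
    rw [show torHom D F c * y⁻¹ * (torHom D F c)⁻¹ = (torHom D F c * y * (torHom D F c)⁻¹)⁻¹ by group,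
      comp_inv g hse i (hconj y hy), py, comp_inv g hse i hy, mul_neg]

/-- Two fundamental roots are separated by the torus. -/
theorem exists_separating [Fintype F] {d : ℕ} (hm : minorsOK D d = true)
    (hd : ¬ (Fintype.card F - 1) ∣ d) {i k : Fin D.rank} (hik : i ≠ k) :
    ∃ c : Fin D.rank → Fˣ, torVal k c = 1 ∧ torVal i c ≠ 1 := by
  classical
  obtain ⟨ω, hω⟩ := IsCyclic.exists_generator (α := Fˣ)
  have hord : orderOf ω = Fintype.card F - 1 := by
    rw [orderOf_eq_card_of_forall_mem_zpowers hω, Nat.card_units, Nat.card_eq_fintype_card]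
  by_contra hno
  push Not at hno
  simp only [minorsOK, List.all_eq_true, List.mem_range, Bool.or_eq_true, beq_iff_eq,
    decide_eq_true_eq] at hm
  refine hd (dvd_trans ?_ ((hm i i.2 k k.2).resolve_left fun h => hik (Fin.ext h)))
  refine dvd_foldr_gcd _ _ fun ab hab => ?_
  obtain ⟨ha, hb⟩ := List.pair_mem_product.1 (show (ab.1, ab.2) ∈ _ from hab)
  set A : Fin D.rank := ⟨ab.1, List.mem_range.1 ha⟩
  set B : Fin D.rank := ⟨ab.2, List.mem_range.1 hb⟩
  let c : Fin D.rank → Fˣ := fun l =>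
    (if l = A then ω ^ D.cartan B (D.simple k) else 1) *
      (if l = B then ω ^ (- D.cartan A (D.simple k)) else 1)
  have hval : ∀ j : Fin D.rank, torVal j c = ω ^ (D.cartan B (D.simple k) * D.cartan A (D.simple j) -
      D.cartan A (D.simple k) * D.cartan B (D.simple j)) := by
    intro j
    have e : ∀ (x : Fin D.rank) (P : Prop) [Decidable P] (u : Fˣ),
        (if P then u else 1) ^ D.cartan x (D.simple j) =
          if P then u ^ D.cartan x (D.simple j) else 1 := fun x P _ u => by
      split <;> simp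
    simp only [torVal, c, mul_zpow, Finset.prod_mul_distrib, e,
      Finset.prod_ite_eq', Finset.mem_univ, if_true, ← _root_.zpow_mul, ← _root_.zpow_add]
    congr 1
    ring
  have h1 := hno c (by rw [hval]; simp [mul_comm])
  rw [hval, ← orderOf_dvd_iff_zpow_eq_one, hord, Int.natCast_dvd] at h1
  exact h1

variable [Fintype F]

theorem commutator_step (hse : SuppEq D) {X : Subgroup (GL D.Idx F)} (hXU : X ≤ D.posUnipotent F)
    (hH : ∀ c, ∀ x ∈ X, torHom D F c * x * (torHom D F c)⁻¹ ∈ X)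
    (c : Fin D.rank → Fˣ) {x : GL D.Idx F} (hx : x ∈ X) :
    torHom D F c * x * (torHom D F c)⁻¹ * x⁻¹ ∈ X ∧
      ∀ j, comp g j (torHom D F c * x * (torHom D F c)⁻¹ * x⁻¹) =
        ((torVal j c : F) - 1) * comp g j x := by
  refine ⟨mul_mem (hH c x hx) (inv_mem hx), fun j => ?_⟩
  rw [comp_mul g hse j (hXU (hH c x hx)) (inv_mem (hXU hx)), comp_conj g hse j c (hXU hx),
    comp_inv g hse j (hXU hx)]
  ring

/-- An element whose only coordinate at the fundamental roots is the `i`-th one. -/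
theorem exists_only_at (hse : SuppEq D) {d : ℕ} (hm : minorsOK D d = true)
    (hd : ¬ (Fintype.card F - 1) ∣ d)
    {X : Subgroup (GL D.Idx F)} (hXU : X ≤ D.posUnipotent F)
    (hH : ∀ c, ∀ x ∈ X, torHom D F c * x * (torHom D F c)⁻¹ ∈ X)
    {i : Fin D.rank} {x : GL D.Idx F} (hx : x ∈ X) (hxi : comp g i x ≠ 0) (t : F) :
    ∃ y ∈ X, comp g i y = t ∧ ∀ k, k ≠ i → comp g k y = 0 := by
  classical
  have step : ∀ S : Finset (Fin D.rank), i ∉ S →
      ∃ y ∈ X, comp g i y ≠ 0 ∧ ∀ k ∈ S, comp g k y = 0 := by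
    intro S
    induction S using Finset.induction with
    | empty => exact fun _ => ⟨x, hx, hxi, by simp⟩
    | insert k S hk ih =>
      intro hiS
      simp only [Finset.mem_insert, not_or] at hiS
      obtain ⟨y, hy, hyi, hyS⟩ := ih hiS.2
      obtain ⟨c, hck, hci⟩ := exists_separating g (F := F) hm hd hiS.1
      obtain ⟨hmem, hco⟩ := commutator_step g hse hXU hH c hy
      refine ⟨_, hmem, ?_, fun l hl => ?_⟩
      · rw [hco]
        refine mul_ne_zero (sub_ne_zero.2 fun h => hci (Units.ext h)) hyi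
      · rw [hco]
        rcases Finset.mem_insert.1 hl with rfl | hl
        · rw [hck]; simp
        · rw [hyS l hl, mul_zero]
  obtain ⟨y, hy, hyi, hyS⟩ := step (Finset.univ.erase i) (by simp)
  let M : AddSubgroup F :=
    { carrier := {a | ∃ z ∈ X, comp g i z = a * comp g i y ∧ ∀ k, k ≠ i → comp g k z = 0}
      zero_mem' := ⟨1, one_mem X, by rw [comp_one, zero_mul], fun k _ => comp_one g k⟩
      add_mem' := by
        rintro a b ⟨z, hz, hza, hzk⟩ ⟨w, hw, hwb, hwk⟩
        exact ⟨z * w, mul_mem hz hw, by rw [comp_mul g hse i (hXU hz) (hXU hw), hza, hwb]; ring,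
          fun k hk => by rw [comp_mul g hse k (hXU hz) (hXU hw), hzk k hk, hwk k hk, add_zero]⟩
      neg_mem' := by
        rintro a ⟨z, hz, hza, hzk⟩
        exact ⟨z⁻¹, inv_mem hz, by rw [comp_inv g hse i (hXU hz), hza]; ring,
          fun k hk => by rw [comp_inv g hse k (hXU hz), hzk k hk, neg_zero]⟩ }
  have hsq : ∀ a : F, a ^ 2 ∈ M := by
    intro a
    by_cases ha : a = 0
    · subst ha; rw [zero_pow two_ne_zero]; exact M.zero_mem
    set c : Fin D.rank → Fˣ := Pi.mulSingle i (Units.mk0 a ha)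
    refine ⟨torHom D F c * y * (torHom D F c)⁻¹, hH c y hy, ?_, fun k hk => ?_⟩
    · rw [comp_conj g hse i c (hXU hy)]
      congr 1
      rw [torVal, Finset.prod_eq_single i (fun l _ hl => by simp [c, Pi.mulSingle_eq_of_ne hl])
        (by simp)]
      simp [c, g.cartan_simple i.2, zpow_ofNat]
    · rw [comp_conj g hse k c (hXU hy), hyS k (by simp [hk]), mul_zero]
  have hall : ∀ a : F, a ∈ M := by
    intro a
    by_cases h : (2 : F) = 0
    · have hinj : Function.Injective fun u : F => u ^ 2 := fun u v huv => by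
        have huv' : u ^ 2 = v ^ 2 := huv
        have h0 : (u - v) ^ 2 = 0 := by linear_combination huv' - (u * v - v ^ 2) * h
        exact sub_eq_zero.1 (pow_eq_zero_iff two_ne_zero |>.1 h0)
      obtain ⟨u, rfl⟩ := Finite.injective_iff_surjective.1 hinj a
      exact hsq u
    · rw [show a = ((a + 1) / 2) ^ 2 - ((a - 1) / 2) ^ 2 by field_simp; ring]
      exact M.sub_mem (hsq _) (hsq _)
  obtain ⟨z, hz, hzi, hzk⟩ := hall (t / comp g i y)
  exact ⟨z, hz, by rw [hzi, div_mul_cancel₀ _ hyi], hzk⟩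

omit [Fintype F] in
/-- Modulo the derived group an element of `U` is given by its fundamental coordinates. -/
theorem abelianization_eq (hse : SuppEq D) (hns : ∀ r, half D ≤ r → r < D.nroots →
      (∀ i < D.rank, r ≠ D.simple i) → ∀ t : F, g.xG r t ∈ ⁅D.posUnipotent F, D.posUnipotent F⁆)
    (u : ↥(D.posUnipotent F)) :
    Abelianization.of u = ∏ i : Fin D.rank, Abelianization.of
      (⟨g.xG (D.simple i) (comp g i (u : GL D.Idx F)),
        g.xG_mem_posUnipotent ((g.isPosRoot_iff _).2 ⟨g.simple_pos i.2, g.simple_lt i.2⟩) _⟩ :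
        ↥(D.posUnipotent F)) := by
  classical
  revert u
  set U := D.posUnipotent F
  intro u
  let e : Fin D.rank → F → Abelianization ↥U := fun i t => Abelianization.of
    (⟨g.xG (D.simple i) t, g.xG_mem_posUnipotent
      ((g.isPosRoot_iff _).2 ⟨g.simple_pos i.2, g.simple_lt i.2⟩) _⟩ : ↥U)
  have hadd : ∀ i s t, e i (s + t) = e i s * e i t := fun i s t => by
    simp only [e, ← map_mul]
    congr 1
    exact Subtype.ext (g.xG_add _ s t).symm
  let ψ : ↥U →* Abelianization ↥U := MonoidHom.mk' (fun u => ∏ i, e i (comp g i (u : GL D.Idx F)))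
    fun u v => by
      simp only [Subgroup.coe_mul, comp_mul g hse _ u.2 v.2, hadd, Finset.prod_mul_distrib]
  show Abelianization.of u = ψ u
  suffices h : ∀ (w : GL D.Idx F) (hw : w ∈ U), Abelianization.of (⟨w, hw⟩ : ↥U) = ψ ⟨w, hw⟩ from
    h u u.2
  intro w hw
  induction hw using Subgroup.closure_induction with
  | mem y hy =>
    obtain ⟨r, t, hr, hy⟩ := hy
    obtain rfl := g.eq_xG hy
    obtain ⟨h1, h2⟩ := (g.isPosRoot_iff r).1 hr
    show _ = ∏ i, e i (comp g i (g.xG r t))
    by_cases hs : ∃ i : Fin D.rank, r = D.simple i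
    · obtain ⟨i, rfl⟩ := hs
      rw [Finset.prod_eq_single i]
      · rw [comp_xG g i h1 h2, if_pos rfl]
      · intro k _ hk
        rw [comp_xG g k h1 h2, if_neg fun h => hk (Fin.ext (g.simple_injective i.2 k.2 h)).symm]
        have := hadd k 0 0
        rw [add_zero] at this
        exact left_eq_mul.1 this
      · simp
    · rw [Finset.prod_eq_one fun k _ => by
        rw [comp_xG g k h1 h2, if_neg fun h => hs ⟨k, h⟩]
        have := hadd k 0 0
        rw [add_zero] at this
        exact left_eq_mul.1 this]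
      rw [← MonoidHom.mem_ker, Abelianization.ker_of]
      have hmem := hns r h1 h2 (fun i hi h => hs ⟨⟨i, hi⟩, h⟩) t
      rw [← Subgroup.map_subtype_commutator] at hmem
      obtain ⟨y, hy', he⟩ := hmem
      exact (Subtype.ext he : y = ⟨g.xG r t, _⟩) ▸ hy'
  | one =>
    show Abelianization.of (1 : ↥U) = ψ 1
    rw [map_one, map_one]
  | mul y z hy hz py pz =>
    show Abelianization.of ((⟨y, hy⟩ : ↥U) * ⟨z, hz⟩) = ψ (⟨y, hy⟩ * ⟨z, hz⟩)
    rw [map_mul, map_mul, py, pz]
  | inv y hy py =>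
    show Abelianization.of ((⟨y, hy⟩ : ↥U)⁻¹) = ψ ⟨y, hy⟩⁻¹
    rw [map_inv, map_inv, py]

/-- The theorem on weakly closed subgroups. -/
theorem weakly_closed_eq_radical (hc : HasComm D) (hse : SuppEq D) {d : ℕ}
    (hm : minorsOK D d = true) (hd : ¬ (Fintype.card F - 1) ∣ d)
    (hns : ∀ r, half D ≤ r → r < D.nroots → (∀ i < D.rank, r ≠ D.simple i) →
      ∀ t : F, g.xG r t ∈ ⁅D.posUnipotent F, D.posUnipotent F⁆)
    (X : Subgroup (GL D.Idx F)) (hXU : X ≤ D.posUnipotent F)
    (hwc : ∀ z ∈ D.group F, X.map (MulAut.conj z).toMonoidHom ≤ D.posUnipotent F →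
      X.map (MulAut.conj z).toMonoidHom = X) :
    ∃ J : Set ℕ, (∀ j ∈ J, j < D.rank) ∧ X = D.unipotentRadical F J := by
  classical
  set U := D.posUnipotent F
  have hnormB : ∀ b ∈ D.borelSubgroup F, ∀ x ∈ X, b * x * b⁻¹ ∈ X := by
    intro b hb x hx
    have h := hwc b (g.borel_le_group hb) (by
      rintro _ ⟨y, hy, rfl⟩
      exact (Subgroup.mem_normalizer_iff.1 ((sup_le Subgroup.le_normalizer g.diagonal_le_normalizer_pos :
        D.borelSubgroup F ≤ _) hb) _).1 (hXU hy))
    exact h ▸ Subgroup.mem_map_of_mem _ hx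
  have hH : ∀ c, ∀ x ∈ X, torHom D F c * x * (torHom D F c)⁻¹ ∈ X := fun c x hx =>
    hnormB _ (Subgroup.mem_sup_right (g.torHom_mem c)) x hx
  let J : Set ℕ := {j | ∃ hj : j < D.rank,
    X.map (MulAut.conj (g.nI ⟨j, hj⟩ : GL D.Idx F)).toMonoidHom = X}
  refine ⟨J, fun j hj => hj.1, ?_⟩
  have hnJ : ∀ l : List (Fin D.rank), (∀ i ∈ l, (i : ℕ) ∈ J) →
      X.map (MulAut.conj (g.wordN l : GL D.Idx F)).toMonoidHom = X := by
    intro l
    induction l with
    | nil =>
      intro _
      rw [g.wordN_nil, map_one]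
      exact Subgroup.map_id X
    | cons i l ih =>
      intro hl
      obtain ⟨_, hi⟩ := hl i List.mem_cons_self
      rw [g.wordN_cons, map_mul]
      show X.map ((MulAut.conj (g.nI i : GL D.Idx F)).toMonoidHom.comp
        (MulAut.conj (g.wordN l : GL D.Idx F)).toMonoidHom) = X
      rw [← Subgroup.map_map, ih fun k hk => hl k (List.mem_cons_of_mem _ hk)]
      exact hi
  -- `X ≤ U_J`
  have hle : X ≤ D.unipotentRadical F J := by
    obtain ⟨l, hlJ, hl⟩ := g.exists_longest_J J
    have hfix := hnJ l hlJ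
    intro x hx
    obtain ⟨a, ha, b, hb, rfl⟩ := g.pos_split hc (g.wperm l)⁻¹ (hXU hx)
    obtain ⟨y, hy, hye⟩ : a * b ∈ X.map (MulAut.conj (g.wordN l : GL D.Idx F)).toMonoidHom := by
      rw [hfix]; exact hx
    have hact := g.acts_inv (g.acts_wordN (F := F) l)
    have h1 := g.conj_plus_le hact ha
    have h2 := g.conj_minus_le hact hb
    rw [inv_inv] at h1 h2
    have h3 : (g.wordN l)⁻¹ * b * g.wordN l ∈ D.borelSubgroup F ⊓ D.negUnipotent F := by
      refine Subgroup.mem_inf.2 ⟨Subgroup.mem_sup_left ?_, h2⟩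
      have e : (g.wordN l)⁻¹ * b * g.wordN l = ((g.wordN l)⁻¹ * a * g.wordN l)⁻¹ * y := by
        have hye' : g.wordN l * y * (g.wordN l)⁻¹ = a * b := hye
        calc (g.wordN l)⁻¹ * b * g.wordN l
            = (g.wordN l)⁻¹ * a⁻¹ * (a * b) * g.wordN l := by group
          _ = _ := by rw [← hye']; group
      rw [e]
      exact mul_mem (inv_mem h1) (hXU hy)
    rw [g.borel_inf_neg, Subgroup.mem_bot] at h3
    have hb1 : b = 1 := by
      have := congrArg (fun z => g.wordN l * z * (g.wordN l)⁻¹) h3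
      simpa [mul_assoc] using this
    rw [hb1, mul_one, g.unipotentRadical_eq hse]
    exact g.rootGen_mono (fun r hr _ => by
      obtain ⟨h, hp, hq⟩ := hr
      exact ⟨h, hp, fun hs => absurd (hl ⟨r, h⟩ hp hs) (not_lt.2 hq)⟩) ha
  refine le_antisymm hle ?_
  -- all coordinates outside `J` occur
  have hocc : ∀ i : Fin D.rank, (i : ℕ) ∉ J → ∃ x ∈ X, comp g i x ≠ 0 := by
    intro i hi
    by_contra hno
    push Not at hno
    refine hi ⟨i.2, hwc _ (g.monomial_le_group (g.nI_mem i)) ?_⟩
    rintro _ ⟨x, hx, rfl⟩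
    have hx' : x ∈ rootGen D F (g.posExcept i) ⊔ D.rootSubgroup F (D.simple i) :=
      (g.posExcept_sup (F := F) i.2).symm ▸ hXU hx
    rw [← SetLike.mem_coe, Subgroup.coe_mul_of_right_le_normalizer_left _ _
      (le_sup_left.trans (g.simple_le_normalizer_posExcept hc i.2))] at hx'
    obtain ⟨v, hv, y, hy, rfl⟩ := Set.mem_mul.1 hx'
    obtain ⟨t, rfl⟩ := g.mem_rootSubgroup.1 hy
    have h0 := hno _ hx
    rw [comp_mul g hse i (g.posExcept_le_pos i hv)
      (g.xG_mem_posUnipotent ((g.isPosRoot_iff _).2 ⟨g.simple_pos i.2, g.simple_lt i.2⟩) t),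
      comp_posExcept g hse i hv, comp_xG g i (g.simple_pos i.2) (g.simple_lt i.2), if_pos rfl,
      zero_add] at h0
    subst h0
    rw [g.xG_zero, mul_one]
    exact g.posExcept_le_pos i (g.nI_conj_posExcept i (Subgroup.mem_map_of_mem _ hv))
  haveI : Finite (GL D.Idx F) := inferInstance
  set L0 := rootGen D F {r | ∃ j : Fin D.rank, (j : ℕ) ∈ J ∧ r = D.simple j}
  have hL0U : L0 ≤ U := g.rootGen_le fun r hr hrn t => by
    obtain ⟨j, -, rfl⟩ := hr
    exact g.xG_mem_posUnipotent ((g.isPosRoot_iff _).2 ⟨g.simple_pos j.2, hrn⟩) t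
  have htop : (X ⊔ L0).subgroupOf U = ⊤ := by
    obtain ⟨p, hp⟩ := CharP.exists F
    haveI : Fact p.Prime := ⟨CharP.char_is_prime F p⟩
    obtain ⟨n, -, hn⟩ := FiniteField.card F p
    have hpU : IsPGroup p ↥U := IsPGroup.of_card (n := n * (D.nroots / 2))
      (by rw [g.card_posUnipotent hc, hn, pow_mul])
    refine frattini_nongenerating (top_le_iff.1 fun u _ => ?_)
    have hgen : ∀ (i : Fin D.rank) (t : F)
        (h : g.xG (D.simple i) t ∈ U), (⟨_, h⟩ : ↥U) ∈ (X ⊔ L0).subgroupOf U ⊔ commutator ↥U := by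
      intro i t h
      by_cases hi : (i : ℕ) ∈ J
      · exact Subgroup.mem_sup_left (Subgroup.mem_subgroupOf.2 (Subgroup.mem_sup_right
          (g.mem_rootGen (S := {r | ∃ j : Fin D.rank, (j : ℕ) ∈ J ∧ r = D.simple j}) (g.simple_lt i.2)
            ⟨i, hi, rfl⟩ t)))
      · obtain ⟨x, hx, hxi⟩ := hocc i hi
        obtain ⟨y, hy, hyi, hyk⟩ := exists_only_at g hse hm hd hXU hH hx hxi t
        have hab := abelianization_eq g hse hns (⟨y, hXU hy⟩ : ↥U)
        rw [Finset.prod_eq_single i (fun k _ hk => by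
          simp only [hyk k hk, g.xG_zero]
          exact map_one Abelianization.of) (by simp)] at hab
        simp only [hyi] at hab
        have hk : (⟨y, hXU hy⟩ : ↥U)⁻¹ * ⟨g.xG (D.simple i) t, h⟩ ∈ commutator ↥U := by
          rw [← Abelianization.ker_of, MonoidHom.mem_ker, map_mul, map_inv, hab, inv_mul_cancel]
        rw [show (⟨g.xG (D.simple i) t, h⟩ : ↥U) = ⟨y, hXU hy⟩ *
          ((⟨y, hXU hy⟩ : ↥U)⁻¹ * ⟨g.xG (D.simple i) t, h⟩) by group]
        exact mul_mem (Subgroup.mem_sup_left (Subgroup.mem_subgroupOf.2 (Subgroup.mem_sup_left hy)))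
          (Subgroup.mem_sup_right hk)
    refine sup_le_sup_left (CfsgLib.Transfer.commutator_le_frattini_pgroup hpU) _ ?_
    have hu := abelianization_eq g hse hns u
    have hmem : Abelianization.of u ∈
        ((X ⊔ L0).subgroupOf U ⊔ commutator ↥U).map Abelianization.of := by
      rw [hu]
      exact Subgroup.prod_mem _ fun i _ => Subgroup.mem_map_of_mem _ (hgen i _ _)
    obtain ⟨z, hz, hzu⟩ := hmem
    have hk : z⁻¹ * u ∈ commutator ↥U := by
      rw [← Abelianization.ker_of, MonoidHom.mem_ker, map_mul, map_inv, hzu, inv_mul_cancel]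
    have := mul_mem hz (Subgroup.mem_sup_right hk)
    rwa [mul_inv_cancel_left] at this
  intro y hy
  have hyU : y ∈ U := (Subgroup.closure_mono (fun z ⟨r, t, hr, _, hz⟩ => ⟨r, t, hr, hz⟩) :
    D.unipotentRadical F J ≤ U) hy
  have hy' : (⟨y, hyU⟩ : ↥U) ∈ (X ⊔ L0).subgroupOf U := htop ▸ Subgroup.mem_top _
  have hy2 : y ∈ X ⊔ L0 := hy'
  have hnorm : L0 ≤ Subgroup.normalizer (X : Set (GL D.Idx F)) := by
    intro z hz
    rw [Subgroup.mem_normalizer_iff]
    refine fun x => ⟨fun hx => hnormB z (Subgroup.mem_sup_left (hL0U hz)) x hx, fun hx => ?_⟩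
    have := hnormB z⁻¹ (Subgroup.mem_sup_left (inv_mem (hL0U hz))) _ hx
    simpa [mul_assoc] using this
  rw [← SetLike.mem_coe, Subgroup.coe_mul_of_right_le_normalizer_left _ _ hnorm] at hy2
  obtain ⟨x, hx, l, hl, rfl⟩ := Set.mem_mul.1 hy2
  have hl1 : l ∈ D.unipotentRadical F J ⊓ D.leviSubgroup F J := by
    refine Subgroup.mem_inf.2 ⟨?_, ?_⟩
    · have := mul_mem (inv_mem (hle hx)) hy
      rwa [inv_mul_cancel_left] at this
    · refine Subgroup.mem_sup_right ?_
      refine (g.rootGen_le (K := Subgroup.closure _) fun r hr hrn t => ?_) hl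
      obtain ⟨j, hj, hr⟩ := hr
      refine Subgroup.subset_closure ⟨r, t, (g.inRootSub_iff hse J r).2 ⟨hrn, ?_⟩, rfl⟩
      have := g.suppIn_sroot j hj
      subst hr
      exact this
  rw [g.radical_inf_levi hse, Subgroup.mem_bot] at hl1
  rw [hl1, mul_one]
  exact hx

end CfsgLib.KnownA.Chev
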