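import Cfsg.Agent.Lib.Chev.Weyl
import Cfsg.Agent.Lib.Chev.Good
import Cfsg.Agent.Lib.Chev.WeylJ
import Cfsg.Prelude.Def_ChevAutomorphisms

/-!
Finite facts about the Dynkin diagrams: long and short nodes, orders of products of two
fundamental reflections.
-/

set_option autoImplicit false

namespace CfsgLib.KnownA.Chev

open Cfsg.Lie CfsgLib.Chev

/-- The order of the product of two reflections with `k` bonds. -/
def bondOrd (k : ℤ) : ℕ :=
  if k = 0 then 2 else if k = 1 then 3 else if k = 2 then 4 else 6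

/-- Lengths of adjacent fundamental roots. -/
def EdgeFacts (D : ChevalleyDatum) (i j : ℕ) : Prop :=
  (D.cartan i (D.simple j) = 0 ↔ D.cartan j (D.simple i) = 0) ∧
  (D.cartan i (D.simple j) ≠ 0 →
    (D.cartan i (D.simple j) = -1 ∧ D.cartan j (D.simple i) = -1 ∧
        D.isLong (D.simple i) = D.isLong (D.simple j)) ∨
      (D.cartan i (D.simple j) = -1 ∧
        (D.cartan j (D.simple i) = -2 ∨ D.cartan j (D.simple i) = -3) ∧
        D.isLong (D.simple i) = true ∧ D.isLong (D.simple j) = false) ∨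
      (D.cartan j (D.simple i) = -1 ∧
        (D.cartan i (D.simple j) = -2 ∨ D.cartan i (D.simple j) = -3) ∧
        D.isLong (D.simple j) = true ∧ D.isLong (D.simple i) = false))

instance (D : ChevalleyDatum) (i j : ℕ) : Decidable (EdgeFacts D i j) :=
  inferInstanceAs (Decidable (_ ∧ _))

/-- The diagram check. -/
def diagOK (D : ChevalleyDatum) : Bool :=
  (List.range D.rank).all fun i => (List.range D.rank).all fun j =>
    i == j || decide (EdgeFacts D i j)

theorem diagOK_G2 : diagOK chevG2 = true := by decide +kernel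
theorem diagOK_B2 : diagOK chevB2 = true := by decide +kernel
theorem diagOK_D4 : diagOK chevD4 = true := by decide +kernel
theorem diagOK_F4 : diagOK chevF4 = true := by decide +kernel
theorem diagOK_E6 : diagOK chevE6 = true := by decide +kernel
theorem diagOK_E7 : diagOK chevE7 = true := by decide +kernel
theorem diagOK_E8 : diagOK chevE8 = true := by decide +kernel

theorem diagOK_of_mem {D : ChevalleyDatum}
    (hD : D ∈ [chevG2, chevB2, chevD4, chevF4, chevE6, chevE7, chevE8]) : diagOK D = true := by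
  simp only [List.mem_cons, List.not_mem_nil, or_false] at hD
  rcases hD with rfl | rfl | rfl | rfl | rfl | rfl | rfl
  exacts [diagOK_G2, diagOK_B2, diagOK_D4, diagOK_F4, diagOK_E6, diagOK_E7, diagOK_E8]

variable {D : ChevalleyDatum}

theorem diag_facts (h : diagOK D = true) {i j : Fin D.rank} (hij : i ≠ j) : EdgeFacts D i j := by
  simp only [diagOK, List.all_eq_true, List.mem_range, Bool.or_eq_true, beq_iff_eq,
    decide_eq_true_eq] at h
  rcases h i i.2 j j.2 with h' | h'
  · exact absurd (Fin.ext h') hij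
  · exact h'

/-- The effect of two reflections on two coordinates and two pairings, iterated. -/
def rot (A B : ℤ) : ℕ → ℤ × ℤ × ℤ × ℤ → ℤ × ℤ × ℤ × ℤ
  | 0, v => v
  | m + 1, v =>
    let (x, y, c, d) := rot A B m v
    (x - (c - A * d), y - d, -(c - A * d), -d - B * (c - A * d))

theorem rot_facts {A B : ℤ}
    (h : (A = 0 ∧ B = 0) ∨ (A = -1 ∧ B = -1) ∨ (A = -1 ∧ B = -2) ∨ (A = -2 ∧ B = -1) ∨
      (A = -1 ∧ B = -3) ∨ (A = -3 ∧ B = -1))
    {m : ℕ} (hm : m ∈ ([2, 3, 4, 6] : List ℕ)) :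
    (bondOrd (A * B) ∣ m → ∀ v, rot A B m v = v) ∧
      (¬ bondOrd (A * B) ∣ m → rot A B m (1, 0, 2, B) ≠ (1, 0, 2, B)) := by
  simp only [List.mem_cons, List.not_mem_nil, or_false] at hm
  rcases h with ⟨rfl, rfl⟩ | ⟨rfl, rfl⟩ | ⟨rfl, rfl⟩ | ⟨rfl, rfl⟩ | ⟨rfl, rfl⟩ | ⟨rfl, rfl⟩ <;>
    rcases hm with rfl | rfl | rfl | rfl <;>
    refine ⟨fun hd v => ?_, fun hd => ?_⟩ <;>
    first
    | (obtain ⟨x, y, c, d⟩ := v; simp only [rot, Prod.mk.injEq]; refine ⟨?_, ?_, ?_, ?_⟩ <;> ring1)
    | decide +kernel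
    | (exfalso; revert hd; decide +kernel)

theorem bonds_cases (h : diagOK D = true) {i j : Fin D.rank} (hij : i ≠ j) :
    let A := D.cartan i (D.simple j)
    let B := D.cartan j (D.simple i)
    (A = 0 ∧ B = 0) ∨ (A = -1 ∧ B = -1) ∨ (A = -1 ∧ B = -2) ∨ (A = -2 ∧ B = -1) ∨
      (A = -1 ∧ B = -3) ∨ (A = -3 ∧ B = -1) := by
  obtain ⟨h0, h1⟩ := diag_facts h hij
  by_cases hA : D.cartan i (D.simple j) = 0
  · exact Or.inl ⟨hA, h0.1 hA⟩
  · rcases h1 hA with ⟨a, b, -⟩ | ⟨a, b | b, -, -⟩ | ⟨b, a | a, -, -⟩ <;>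
      simp [a, b]

variable (g : Good D)
include g

/-- The word `(i j)^m`. -/
def rotWord (_g : Good D) (i j : Fin D.rank) : ℕ → List (Fin D.rank)
  | 0 => []
  | m + 1 => i :: j :: rotWord _g i j m

theorem rotWord_map (π : Fin D.rank → Fin D.rank) (i j : Fin D.rank) (m : ℕ) :
    (rotWord g i j m).map π = rotWord g (π i) (π j) m := by
  induction m with
  | zero => rfl
  | succ m ih => simp [rotWord, ih]

theorem cartan_rperm (i : Fin D.rank) (s : Fin D.nroots) (k : Fin D.rank) :
    D.cartan k (g.rperm i s) = D.cartan k s - D.cartan i s * D.cartan k (D.simple i) := by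
  rw [g.cartan_eq_sum (g.rperm i s).2 k.2, g.cartan_eq_sum s.2 k.2, g.rperm_val]
  rw [Finset.sum_congr rfl fun l hl => by
    rw [g.co_refl i.2 s.2 (Finset.mem_range.1 hl), sub_mul, ite_mul, zero_mul],
    Finset.sum_sub_distrib, Finset.sum_ite_eq, if_pos (Finset.mem_range.2 i.2)]

theorem co_rperm (i : Fin D.rank) (s : Fin D.nroots) (k : Fin D.rank) :
    g.co (g.rperm i s) k = g.co s k - if i = k then D.cartan i s else 0 := by
  rw [g.rperm_val, g.co_refl i.2 s.2 k.2]
  simp only [Fin.ext_iff]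

theorem state_rotWord {i j : Fin D.rank} (hij : i ≠ j) (m : ℕ) (s : Fin D.nroots) :
    (∀ k : Fin D.rank, k ≠ i → k ≠ j → g.co (g.wperm (rotWord g i j m) s) k = g.co s k) ∧
    (g.co (g.wperm (rotWord g i j m) s) i, g.co (g.wperm (rotWord g i j m) s) j,
      D.cartan i (g.wperm (rotWord g i j m) s), D.cartan j (g.wperm (rotWord g i j m) s)) =
      rot (D.cartan i (D.simple j)) (D.cartan j (D.simple i)) m
        (g.co s i, g.co s j, D.cartan i s, D.cartan j s) := by
  induction m with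
  | zero => exact ⟨fun _ _ _ => rfl, rfl⟩
  | succ m ih =>
    obtain ⟨ih1, ih2⟩ := ih
    set t := g.wperm (rotWord g i j m) s with ht
    have e : g.wperm (rotWord g i j (m + 1)) s = g.rperm i (g.rperm j t) := by
      simp only [rotWord, g.wperm_cons, Equiv.Perm.mul_apply, ht]
    rw [e]
    refine ⟨fun k hki hkj => ?_, ?_⟩
    · rw [co_rperm g, co_rperm g, if_neg hki.symm, if_neg hkj.symm, sub_zero, sub_zero]
      exact ih1 k hki hkj
    · simp only [rot, ← ih2]
      simp only [co_rperm g, cartan_rperm g, if_pos, if_neg hij, if_neg hij.symm, g.cartan_simple i.2,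
        g.cartan_simple j.2, sub_zero, Prod.mk.injEq]
      refine ⟨?_, ?_, ?_, ?_⟩ <;> first | trivial | ring1

theorem wperm_rotWord_eq_one (h : diagOK D = true) {i j : Fin D.rank} (hij : i ≠ j) {m : ℕ}
    (hm : m ∈ ([2, 3, 4, 6] : List ℕ)) :
    g.wperm (rotWord g i j m) = 1 ↔ bondOrd (D.bonds i j) ∣ m := by
  have hr := rot_facts (bonds_cases h hij) hm
  constructor
  · intro he
    by_contra hd
    refine hr.2 hd ?_
    have h2 := (state_rotWord g hij m (g.sroot i)).2
    rw [he, Equiv.Perm.one_apply] at h2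
    have e1 : g.co (g.sroot i : ℕ) i = 1 := (g.co_simple i.2 i.2).trans (if_pos rfl)
    have e2 : g.co (g.sroot i : ℕ) j = 0 :=
      (g.co_simple i.2 j.2).trans (if_neg fun e => hij (Fin.ext e))
    have e3 : D.cartan i (g.sroot i : ℕ) = 2 := g.cartan_simple i.2
    rw [e1, e2, e3] at h2
    exact h2.symm
  · intro hd
    refine Equiv.ext fun s => g.co_ext fun k hk => ?_
    obtain ⟨h1, h2⟩ := state_rotWord g hij m s
    rw [hr.1 hd, Prod.mk.injEq, Prod.mk.injEq] at h2
    by_cases hki : (⟨k, hk⟩ : Fin D.rank) = i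
    · subst hki; exact h2.1
    by_cases hkj : (⟨k, hk⟩ : Fin D.rank) = j
    · subst hkj; exact h2.2.1
    exact h1 ⟨k, hk⟩ hki hkj

end CfsgLib.KnownA.Chev
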