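import Cfsg.Agent.Lib.Chev.Good

/-!
Over the field with two elements the two fundamental roots of G2 cannot be exchanged:
an element of order 6 would go to an element of order 12.
-/

set_option autoImplicit false
set_option maxRecDepth 10000

namespace CfsgLib.KnownA.Chev

open Cfsg.Lie CfsgLib.Chev

/-- The matrix with the given rows of bits. -/
def bitMat (rows : List ℕ) : Matrix chevG2.Idx chevG2.Idx (ZMod 2) :=
  Matrix.of fun a b =>
    let code : chevG2.Idx → ℕ := Sum.elim (fun i : Fin chevG2.rank => i.val)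
      (fun r : Fin chevG2.nroots => 2 + r.val)
    if (rows.getD (code a) 0).testBit (code b) then 1 else 0

/-- A certificate matrix. -/
def certA0 : Matrix chevG2.Idx chevG2.Idx (ZMod 2) := bitMat [97, 130, 4, 12, 28, 44, 96, 188, 385, 738, 1921, 2433, 8065, 12288]

/-- A certificate matrix. -/
def certA1 : Matrix chevG2.Idx chevG2.Idx (ZMod 2) := bitMat [33, 131, 12, 4, 20, 100, 32, 501, 128, 1699, 640, 2176, 14976, 4096]

/-- A certificate matrix. -/
def certA2 : Matrix chevG2.Idx chevG2.Idx (ZMod 2) := bitMat [69, 343, 8, 12, 24, 72, 100, 264, 501, 1296, 1878, 2421, 9558, 14976]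

/-- A certificate matrix. -/
def certA3 : Matrix chevG2.Idx chevG2.Idx (ZMod 2) := bitMat [13, 26, 4, 8, 16, 36, 72, 132, 264, 532, 1048, 2173, 4795, 9558]

/-- A certificate matrix. -/
def certB0 : Matrix chevG2.Idx chevG2.Idx (ZMod 2) := bitMat [65, 186, 4, 12, 24, 40, 104, 184, 505, 578, 1858, 2304, 7424, 15616]

/-- A certificate matrix. -/
def certB1 : Matrix chevG2.Idx chevG2.Idx (ZMod 2) := bitMat [67, 10, 4, 188, 40, 24, 602, 8, 7499, 64, 2368, 1280, 256, 8448]

/-- A certificate matrix. -/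
def certB2 : Matrix chevG2.Idx chevG2.Idx (ZMod 2) := bitMat [531, 182, 4, 128, 164, 148, 644, 188, 4772, 602, 6673, 5131, 7499, 15435]

/-- A certificate matrix. -/
def certB3 : Matrix chevG2.Idx chevG2.Idx (ZMod 2) := bitMat [33, 54, 4, 8, 20, 36, 76, 128, 340, 644, 1067, 2229, 4772, 12015]
/-- A certificate matrix. -/
def certB4 : Matrix chevG2.Idx chevG2.Idx (ZMod 2) := bitMat [5, 2, 4, 8, 16, 32, 64, 128, 264, 512, 1040, 2080, 4224, 8198]
theorem certA_eq :
    chevG2.x (ZMod 2) 7 1 * chevG2.x (ZMod 2) 6 1 = certA0 ∧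
    certA0 * chevG2.x (ZMod 2) 5 1 = certA1 ∧
    certA1 * certA1 = certA2 ∧ certA2 * certA1 = certA3 ∧ certA3 * certA3 = 1 := by
  decide +kernel

theorem certB_eq :
    chevG2.x (ZMod 2) 6 1 * chevG2.x (ZMod 2) 7 1 = certB0 ∧
    certB0 * chevG2.x (ZMod 2) 4 1 = certB1 ∧
    certB1 * certB1 = certB2 ∧ certB2 * certB1 = certB3 ∧ certB3 * certB3 = certB4 ∧ certB4 ≠ 1 := by
  decide +kernel

theorem simple_G2 : chevG2.simple 0 = 7 ∧ chevG2.simple 1 = 6 ∧ chevG2.neg 6 = 5 ∧ chevG2.neg 7 = 4 := by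
  decide +kernel

variable {F : Type*} [Field F] [CharP F 2]

/-- The two words have different orders over every field of characteristic 2. -/
theorem g2_two_words :
    (chevG2.x F 7 1 * chevG2.x F 6 1 * chevG2.x F 5 1) ^ 6 = 1 ∧
      (chevG2.x F 6 1 * chevG2.x F 7 1 * chevG2.x F 4 1) ^ 6 ≠ 1 := by
  let f : ZMod 2 →+* F := ZMod.castHom dvd_rfl F
  have hmap : ∀ r, r < chevG2.nroots → chevG2.x F r 1 = f.mapMatrix (chevG2.x (ZMod 2) r 1) := by
    intro r hr
    rw [goodG2.x_eq_xr hr, goodG2.x_eq_xr hr, RingHom.mapMatrix_apply, xr_map, map_one]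
  have hN : chevG2.nroots = 12 := by decide +kernel
  obtain ⟨a0, a1, a2, a3, a4⟩ := certA_eq
  obtain ⟨b0, b1, b2, b3, b4, b5⟩ := certB_eq
  constructor
  · rw [hmap 7 (by omega), hmap 6 (by omega), hmap 5 (by omega), ← map_mul, ← map_mul, a0, a1,
      ← map_pow, show certA1 ^ 6 = certA3 * certA3 by rw [← a3, ← a2]; noncomm_ring, a4, map_one]
  · rw [hmap 7 (by omega), hmap 6 (by omega), hmap 4 (by omega), ← map_mul, ← map_mul, b0, b1,
      ← map_pow, show certB1 ^ 6 = certB3 * certB3 by rw [← b3, ← b2]; noncomm_ring, b4]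
    intro h
    exact b5 (Matrix.map_injective f.injective (h.trans (map_one f.mapMatrix).symm))

end CfsgLib.KnownA.Chev
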