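import Cfsg.Agent.Lib.KnownA.Chev.Perm
import Cfsg.Agent.Lib.KnownA.Chev.DiagramTables
import Cfsg.Agent.Lib.KnownA.Chev.G2Two
import Cfsg.Agent.S1080
import Cfsg.Agent.Lib.Chev.SimpleTables

/-!
Every automorphism of a finite Chevalley group is inner, diagonal, graph, field.
-/

set_option autoImplicit false

namespace CfsgLib.KnownA.Chev

open Cfsg.Lie CfsgLib.Chev CfsgLib.KnownA.ChevChar

variable {D : ChevalleyDatum} {F : Type*} [Field F]

section

variable (g : Good D)
include g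

theorem charOf_neg (c : Fin D.rank → Fˣ) (i : Fin D.rank) :
    charOf g c (g.nroot (g.sroot i) : ℕ) = (c i)⁻¹ := by
  rw [← charOf_sroot g c i]
  simp only [charOf, ← Finset.prod_inv_distrib]
  refine Finset.prod_congr rfl fun j _ => ?_
  show c j ^ g.co (D.neg (g.sroot i)) j = _
  rw [g.co_neg (g.sroot i).2 j.2, _root_.zpow_neg]

theorem diagAut_symm_xs (hch : chainsOK D = true) {χ : ℕ → Fˣ} (hχ : D.IsRootCharacter χ)
    (r : Fin D.nroots) (t : F) :
    (diagAut g hch hχ).symm (xs g r t) = xs g r (((χ r)⁻¹ : Fˣ) * t) := by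
  rw [MulEquiv.symm_apply_eq, diagAut_xs, ← mul_assoc, ← Units.val_mul, mul_inv_cancel,
    Units.val_one, one_mul]

/-- Scale so that `x_i(1)` goes to `x_{π i}(1)`. -/
theorem exists_normalised (hc : HasComm D) (hch : chainsOK D = true)
    {θ : ↥(D.group F) ≃* ↥(D.group F)} {π : Equiv.Perm (Fin D.rank)}
    {a b : Fin D.rank → F → F} (hθ : SimpleMap g θ.toMonoidHom π a b) :
    ∃ (d θ' : ↥(D.group F) ≃* ↥(D.group F)) (a' b' : Fin D.rank → F → F),
      D.IsDiagonalAut d ∧ SimpleMap g θ'.toMonoidHom π a' b' ∧ (∀ i, a' i 1 = 1) ∧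
        ∀ y, θ y = d (θ' y) := by
  set c : Fin D.rank → Fˣ := fun i => hθ.au (π.symm i) 1 with hc'
  have hχ := isRootCharacter_charOf g hc c
  refine ⟨diagAut g hch hχ, θ.trans (diagAut g hch hχ).symm,
    fun i t => (((c (π i))⁻¹ : Fˣ) : F) * a i t, fun i t => ((c (π i) : Fˣ) : F) * b i t,
    isDiagonalAut_diagAut g hch hχ, ⟨(θ.trans _).injective, fun i t => ?_, fun i t => ?_,
      fun i u => ?_⟩, fun i => ?_, fun y => ((diagAut g hch hχ).apply_symm_apply _).symm⟩
  · show (diagAut g hch hχ).symm (θ.toMonoidHom (xs g (g.sroot i) t)) = _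
    rw [hθ.pos, diagAut_symm_xs, charOf_sroot]
  · show (diagAut g hch hχ).symm (θ.toMonoidHom (xs g (g.nroot (g.sroot i)) t)) = _
    rw [hθ.neg, diagAut_symm_xs, charOf_neg, inv_inv]
  · obtain ⟨t, ht⟩ := hθ.surj i ((c (π i) : F) * u)
    refine ⟨t, ?_⟩
    show (((c (π i))⁻¹ : Fˣ) : F) * a i t = u
    rw [ht, ← mul_assoc, ← Units.val_mul, inv_mul_cancel, Units.val_one, one_mul]
  · show (((c (π i))⁻¹ : Fˣ) : F) * a i 1 = 1
    rw [hc', Units.val_inv_eq_inv_val]
    simp only [Equiv.symm_apply_apply, SimpleMap.au, Units.val_mk0, Units.val_one]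
    exact inv_mul_cancel₀ (hθ.a_ne_zero i one_ne_zero)

/-- The diagram facts give a symmetry. -/
theorem isDiagramSymmetry_of_simpleMap (hd : diagOK D = true)
    {θ : ↥(D.group F) →* ↥(D.group F)} {π : Equiv.Perm (Fin D.rank)}
    {a b : Fin D.rank → F → F} (hθ : SimpleMap g θ π a b) : D.IsDiagramSymmetry π := by
  intro i j hij
  have hij' : π i ≠ π j := fun h => hij (π.injective h)
  have key : ∀ m ∈ ([2, 3, 4, 6] : List ℕ),
      bondOrd (D.bonds (π i) (π j)) ∣ m ↔ bondOrd (D.bonds i j) ∣ m := by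
    intro m hm
    rw [← wperm_rotWord_eq_one g hd hij' hm, ← wperm_rotWord_eq_one g hd hij hm, ← rotWord_map g π]
    exact ⟨hθ.wperm_map_inj_one, hθ.wperm_map_congr_one⟩
  have val : ∀ {u v : Fin D.rank}, u ≠ v → D.bonds u v ∈ ([0, 1, 2, 3] : List ℤ) := by
    intro u v huv
    obtain ⟨h0, h⟩ := diag_facts hd huv
    rw [ChevalleyDatum.bonds]
    by_cases hA : D.cartan u (D.simple v) = 0
    · simp [hA]
    · rcases h hA with ⟨h1, h2, -⟩ | ⟨h1, h2 | h2, -, -⟩ | ⟨h1, h2 | h2, -, -⟩ <;> simp [h1, h2]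
  have h1 := val hij
  have h2 := val hij'
  have k2 := key 2 (by simp)
  have k3 := key 3 (by simp)
  have k4 := key 4 (by simp)
  simp only [List.mem_cons, List.not_mem_nil, or_false] at h1 h2
  rcases h1 with h1 | h1 | h1 | h1 <;> rcases h2 with h2 | h2 | h2 | h2 <;>
    rw [h1, h2] at k2 k3 k4 ⊢ <;> simp [bondOrd] at k2 k3 k4 ⊢

end

/-- An additive bijection respecting `c ↦ c²` semilinearly is a ring automorphism. -/
theorem exists_ringEquiv [Finite F] {a : F → F} (hbij : Function.Bijective a) (h1 : a 1 = 1)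
    (hadd : ∀ s t, a (s + t) = a s + a t) (hsq : ∀ c t : F, a (c ^ 2 * t) = a c ^ 2 * a t) :
    ∃ σ : F ≃+* F, ∀ t, σ t = a t := by
  have h2 : ∀ c, a (c ^ 2) = a c ^ 2 := fun c => by simpa [h1] using hsq c 1
  have hsub : ∀ s t, a (s - t) = a s - a t := fun s t => by
    have := hadd (s - t) t
    rw [sub_add_cancel] at this
    rw [this]; ring
  have hmul : ∀ s t, a (s * t) = a s * a t := by
    intro s t
    by_cases h : (2 : F) = 0
    · have hinj : Function.Injective fun u : F => u ^ 2 := fun u v huv => by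
        have h0 : (u - v) ^ 2 = 0 := by
          have huv' : u ^ 2 = v ^ 2 := huv
          linear_combination huv' - (u * v - v ^ 2) * h
        exact sub_eq_zero.1 (pow_eq_zero_iff two_ne_zero |>.1 h0)
      obtain ⟨u, rfl⟩ := Finite.injective_iff_surjective.1 hinj s
      rw [hsq, h2]
    · obtain ⟨u, v, rfl⟩ : ∃ u v : F, s = u ^ 2 - v ^ 2 :=
        ⟨(s + 1) / 2, (s - 1) / 2, by field_simp; ring⟩
      rw [sub_mul, hsub, hsq, hsq, hsub, h2, h2, sub_mul]
  exact ⟨RingEquiv.mk (Equiv.ofBijective a hbij) hmul hadd, fun t => rfl⟩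

variable {g : Good D}

namespace SimpleMap

variable {θ : ↥(D.group F) →* ↥(D.group F)} {π : Equiv.Perm (Fin D.rank)}
  {a b : Fin D.rank → F → F}

theorem torus_rel (hθ : SimpleMap g θ π a b) (h1 : ∀ i, a i 1 = 1) (i j : Fin D.rank) (c : Fˣ)
    (t : F) :
    a j (((c ^ D.cartan i (D.simple j) : Fˣ) : F) * t) =
      ((hθ.au i c ^ D.cartan (π i) (D.simple (π j)) : Fˣ) : F) * a j t := by
  have h := congrArg θ (hs_conj_xs g (g.sroot i) (g.sroot j) c t)
  rw [map_mul, map_mul, map_inv, hθ.map_hs, hθ.pos, hθ.pos,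
    show hθ.au i 1 = 1 from Units.ext (h1 i), div_one, hs_conj_xs] at h
  have e : ∀ u v : Fin D.rank, pair D (g.sroot u : ℕ) (g.sroot v : ℕ) = D.cartan u (D.simple v) :=
    fun u v => g.pair_simple u.2 (g.simple_lt v.2)
  rw [e, e] at h
  exact (xs_inj g h).symm

theorem exists_fieldAuts [Finite F] (hθ : SimpleMap g θ π a b) (h1 : ∀ i, a i 1 = 1) :
    ∃ f : Fin D.rank → (F ≃+* F), ∀ i t, f i t = a i t := by
  have key : ∀ i, ∃ σ : F ≃+* F, ∀ t, σ t = a i t := by
    intro i
    refine exists_ringEquiv ⟨hθ.a_injective i, hθ.surj i⟩ (h1 i) (hθ.a_add i) fun c t => ?_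
    by_cases hc : c = 0
    · simp [hc, hθ.a_zero]
    · have h := hθ.torus_rel h1 i i (Units.mk0 c hc) t
      rw [g.cartan_simple i.2, g.cartan_simple (π i).2] at h
      simpa [SimpleMap.au, Units.val_pow_eq_pow_val, zpow_ofNat] using h
  choose f hf using key
  exact ⟨f, hf⟩

end SimpleMap

/-- On the field with two elements the roots of G2 are not exchanged. -/
theorem not_swap_G2 {g : Good chevG2} [CharP F 2] {θ : ↥(chevG2.group F) →* ↥(chevG2.group F)}
    {π : Equiv.Perm (Fin chevG2.rank)} {a b : Fin chevG2.rank → F → F}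
    (hθ : SimpleMap g θ π a b) (h1 : ∀ i, a i 1 = 1) (i0 i1 : Fin chevG2.rank) (hi0 : (i0 : ℕ) = 0)
    (hi1 : (i1 : ℕ) = 1) (hπ0 : π i0 = i1) : False := by
  have hπ1 : π i1 = i0 := by
    have hne : π i1 ≠ i1 := fun h => by
      have := π.injective (h.trans hπ0.symm)
      rw [← this] at hi0
      omega
    have hlt : (π i1 : ℕ) < 2 := (π i1).2
    refine Fin.ext ?_
    rcases Nat.lt_succ_iff_lt_or_eq.1 hlt with h | h
    · omega
    · exact absurd (Fin.ext (h.trans hi1.symm)) hne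
  have hneg : (-1 : F) = 1 := by rw [CharTwo.neg_eq]
  have hb : ∀ i, b i 1 = 1 := by
    intro i
    have := hθ.b_eq i 1
    simp only [inv_one, Units.val_one, hneg] at this
    rw [this, show hθ.au i 1 = 1 from Units.ext (h1 i), inv_one, Units.val_one, hneg]
  obtain ⟨s0, s1, s2, s3⟩ := simple_G2
  have hA : (xs g (g.sroot i0) (1 : F) * xs g (g.sroot i1) 1 *
      xs g (g.nroot (g.sroot i1)) 1) ^ 6 = 1 := by
    refine Subtype.ext (Units.ext ?_)
    simp only [Subgroup.coe_pow, Subgroup.coe_mul, OneMemClass.coe_one, Units.val_pow_eq_pow_val,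
      Units.val_mul, Units.val_one, coe_xs, g.coe_xG]
    show (chevG2.x F (chevG2.simple i0) 1 * chevG2.x F (chevG2.simple i1) 1 *
      chevG2.x F (chevG2.neg (chevG2.simple i1)) 1) ^ 6 = 1
    rw [hi0, hi1, s0, s1, s2]
    exact g2_two_words.1
  have h := congrArg θ hA
  rw [map_pow, map_mul, map_mul, hθ.pos, hθ.pos, hθ.neg, h1, h1, hb, hπ0, hπ1, map_one] at h
  have h' := congrArg (fun x : ↥(chevG2.group F) =>
    ((x : GL chevG2.Idx F) : Matrix chevG2.Idx chevG2.Idx F)) h
  simp only [Subgroup.coe_pow, Subgroup.coe_mul, OneMemClass.coe_one, Units.val_pow_eq_pow_val,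
    Units.val_mul, Units.val_one, coe_xs, g.coe_xG] at h'
  change (chevG2.x F (chevG2.simple i1) 1 * chevG2.x F (chevG2.simple i0) 1 *
    chevG2.x F (chevG2.neg (chevG2.simple i0)) 1) ^ 6 = 1 at h'
  rw [hi0, hi1, s0, s1, s3] at h'
  exact g2_two_words.2 h'

/-- Triple edges and the two-element field occur only for G2. -/
theorem eq_G2_of_triple {D : ChevalleyDatum}
    (hD : D ∈ [chevG2, chevB2, chevD4, chevF4, chevE6, chevE7, chevE8]) {i j : Fin D.rank}
    (h : D.cartan i (D.simple j) = -3) : D = chevG2 ∧ (i : ℕ) = 0 ∧ (j : ℕ) = 1 := by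
  have kG : ∀ u v : Fin chevG2.rank, chevG2.cartan u (chevG2.simple v) = -3 →
      (u : ℕ) = 0 ∧ (v : ℕ) = 1 := by decide +kernel
  simp only [List.mem_cons, List.not_mem_nil, or_false] at hD
  rcases hD with rfl | rfl | rfl | rfl | rfl | rfl | rfl
  · exact ⟨rfl, kG i j h⟩
  all_goals exfalso; revert h; revert i j; decide +kernel

section

variable (hD : D ∈ [chevG2, chevB2, chevD4, chevF4, chevE6, chevE7, chevE8]) (g)
include hD g

omit hD g in
theorem char_of_sq_root {φ : F ≃+* F} {k : ℕ} (hk : k = 2 ∨ k = 3) (h : ∀ c, φ c ^ k = c) :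
    ringChar F = k ∨ (k = 3 ∧ ringChar F = 2 ∧ ∀ c : F, c = 0 ∨ c = 1) := by
  have h2 := h 2
  rw [map_ofNat] at h2
  have hp : ∀ q : ℕ, q.Prime → (q : F) = 0 → ringChar F = q := fun q hq h0 =>
    ((Nat.dvd_prime hq).1 ((ringChar.spec F q).1 h0)).resolve_left (CharP.ringChar_ne_one)
  rcases hk with rfl | rfl
  · exact Or.inl (hp 2 Nat.prime_two (by push_cast; linear_combination h2))
  · have h6 : (2 : F) * 3 = 0 := by linear_combination h2
    rcases mul_eq_zero.1 h6 with h0 | h0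
    · refine Or.inr ⟨rfl, hp 2 Nat.prime_two (by exact_mod_cast h0), fun c => ?_⟩
      obtain ⟨d, rfl⟩ : ∃ d, φ d = c := φ.surjective c |>.imp fun _ => id
      have e := h (d + 1)
      rw [map_add, map_one] at e
      have e' : φ d * (φ d + 1) = 0 := by
        linear_combination e - h d - (φ d ^ 2 + φ d) * h0
      rcases mul_eq_zero.1 e' with e1 | e1
      · exact Or.inl e1
      · refine Or.inr ?_
        linear_combination e1 - h0
    · exact Or.inl (hp 3 Nat.prime_three (by exact_mod_cast h0))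

/-- The field automorphisms at two adjacent nodes. -/
theorem link {θ : ↥(D.group F) →* ↥(D.group F)} {π : Equiv.Perm (Fin D.rank)}
    {a b : Fin D.rank → F → F} (hθ : SimpleMap g θ π a b) (h1 : ∀ i, a i 1 = 1)
    (hd : diagOK D = true) {f : Fin D.rank → (F ≃+* F)} (hf : ∀ i t, f i t = a i t)
    (σ : F → F) (i j : Fin D.rank) (hA : D.cartan i (D.simple j) = -1) :
    (∀ c, f i c = σ c ^ D.graphExp (ringChar F) i (π i)) ↔
      (∀ c, f j c = σ c ^ D.graphExp (ringChar F) j (π j)) := by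
  have hij : i ≠ j := fun h => by
    rw [h, g.cartan_simple j.2] at hA; omega
  have hij' : π i ≠ π j := fun h => hij (π.injective h)
  have hsym := isDiagramSymmetry_of_simpleMap g hd hθ i j hij
  rw [ChevalleyDatum.bonds, ChevalleyDatum.bonds, hA] at hsym
  obtain ⟨h0, e1⟩ := diag_facts hd hij
  obtain ⟨h0', e2⟩ := diag_facts hd hij'
  have hrel : ∀ c : Fˣ, ((hθ.au i c ^ D.cartan (π i) (D.simple (π j)) : Fˣ) : F) =
      (f j (c : F))⁻¹ := by
    intro c
    have h := hθ.torus_rel h1 i j c 1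
    rw [h1, mul_one, mul_one, hA, _root_.zpow_neg_one, ← hf, Units.val_inv_eq_inv_val, map_inv₀]
      at h
    exact h.symm
  have hA'ne : D.cartan (π i) (D.simple (π j)) ≠ 0 := by
    intro h0''
    rw [h0''] at hsym
    rcases e1 (by rw [hA]; omega) with ⟨-, hB, -⟩ | ⟨-, hB | hB, -, -⟩ | ⟨hB, -, -, -⟩ <;>
      rw [hB] at hsym <;> omega
  -- the exponent and the two graph exponents
  suffices hk : ∃ k : ℕ, (∀ c : F, f j c = f i c ^ k) ∧
      ((k = 1 ∧ D.graphExp (ringChar F) i (π i) = D.graphExp (ringChar F) j (π j)) ∨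
        (D.graphExp (ringChar F) i (π i) = 1 ∧ D.graphExp (ringChar F) j (π j) = k)) ∧
      Function.Injective fun c : F => c ^ k by
    obtain ⟨k, hfk, he, hinj⟩ := hk
    rcases he with ⟨rfl, he⟩ | ⟨he1, he2⟩
    · simp only [hfk, pow_one, he]
    · simp only [hfk, he1, he2, pow_one]
      exact ⟨fun h c => by rw [h], fun h c => hinj (h c)⟩
  obtain ⟨k, hk, hA'⟩ : ∃ k : ℕ, (k = 1 ∨ k = 2 ∨ k = 3) ∧
      D.cartan (π i) (D.simple (π j)) = -(k : ℤ) := by
    rcases e2 hA'ne with ⟨h', -, -⟩ | ⟨h', -, -, -⟩ | ⟨-, h' | h', -, -⟩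
    exacts [⟨1, by simp, h'⟩, ⟨1, by simp, h'⟩, ⟨2, by simp, h'⟩, ⟨3, by simp, h'⟩]
  have hfk : ∀ c : F, f j c = f i c ^ k := by
    intro c
    by_cases hc : c = 0
    · subst hc
      rw [map_zero, map_zero, zero_pow (by omega)]
    · have h := hrel (Units.mk0 c hc)
      rw [hA', _root_.zpow_neg, zpow_natCast, Units.val_inv_eq_inv_val, Units.val_pow_eq_pow_val,
        inv_inj] at h
      simpa [SimpleMap.au, hf] using h.symm
  rw [hA'] at hsym
  refine ⟨k, hfk, ?_, fun c d hcd => ?_⟩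
  · rcases e2 hA'ne with ⟨h', h'', hl'⟩ | ⟨h', h'', hl', hs''⟩ | ⟨h'', h', hl', hs''⟩
    · -- one bond
      have hk1 : k = 1 := by omega
      rw [h'', hk1] at hsym
      rcases e1 (by rw [hA]; omega) with ⟨-, -, hl⟩ | ⟨-, hB | hB, -, -⟩ | ⟨hB, hB' | hB', -, -⟩
      · exact Or.inl ⟨hk1, by simp only [ChevalleyDatum.graphExp, hl, hl']⟩
      all_goals exfalso; first | (rw [hA] at hB'; omega) | (rw [hB] at hsym; omega)
    · -- multiple bond, same orientation
      have hk1 : k = 1 := by omega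
      rcases e1 (by rw [hA]; omega) with ⟨-, hB, hl⟩ | ⟨-, -, hl, hs'⟩ | ⟨-, hB' | hB', -, -⟩
      · exfalso
        rw [hB, hk1] at hsym
        rcases h'' with h'' | h'' <;> rw [h''] at hsym <;> omega
      · exact Or.inl ⟨hk1, by simp [ChevalleyDatum.graphExp, hl, hl', hs', hs'']⟩
      all_goals exfalso; rw [hA] at hB'; omega
    · -- exchanged lengths
      rcases e1 (by rw [hA]; omega) with ⟨-, hB, hl⟩ | ⟨-, -, hl, hs'⟩ | ⟨-, hB' | hB', -, -⟩
      · exfalso
        rw [hB, h''] at hsym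
        omega
      · refine Or.inr ⟨by simp [ChevalleyDatum.graphExp, hl, hl', hs', hs''], ?_⟩
        have hexp : D.graphExp (ringChar F) j (π j) = ringChar F := by
          simp [ChevalleyDatum.graphExp, hl, hl', hs', hs'']
        rw [hexp]
        let φ : F ≃+* F := (f j).symm.trans (f i)
        have hφ : ∀ c, φ c ^ k = c := fun c => by
          show f i ((f j).symm c) ^ k = c
          rw [← hfk, RingEquiv.apply_symm_apply]
        rcases char_of_sq_root (k := k) (by omega) hφ with h' | ⟨rfl, hp2, -⟩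
        · exact h'
        · exfalso
          obtain ⟨rfl, hi0, hj1⟩ := eq_G2_of_triple hD
            (show D.cartan (π i) (D.simple (π j)) = -3 by simpa using hA')
          haveI : CharP F 2 := ringChar.of_eq hp2
          have hr : (i : ℕ) < 2 := i.2
          have hr' : (j : ℕ) < 2 := j.2
          have hi1 : (i : ℕ) = 1 := by
            by_contra hne
            have hi00 : i = π i := Fin.ext (by omega)
            rw [← hi00, hl] at hs''
            exact Bool.noConfusion hs''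
          have hj0 : (j : ℕ) = 0 := by
            by_contra hne
            exact hij (Fin.ext (by omega))
          exact not_swap_G2 hθ h1 j i hj0 hi1 (Fin.ext (by omega))
      all_goals exfalso; rw [hA] at hB'; omega
  · have := hfk
    obtain ⟨c', rfl⟩ := (f i).surjective c
    obtain ⟨d', rfl⟩ := (f i).surjective d
    have e : f j c' = f j d' := by rw [hfk, hfk]; exact hcd
    rw [(f j).injective e]

theorem exists_sigma {θ : ↥(D.group F) →* ↥(D.group F)} {π : Equiv.Perm (Fin D.rank)}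
    {a b : Fin D.rank → F → F} (hθ : SimpleMap g θ π a b) (h1 : ∀ i, a i 1 = 1)
    [Finite F] :
    ∃ σ : F ≃+* F, ∀ i t, a i t = σ t ^ D.graphExp (ringChar F) i (π i) := by
  have hd := diagOK_of_mem hD
  obtain ⟨f, hf⟩ := hθ.exists_fieldAuts h1
  obtain ⟨i0, hi0⟩ : ∃ i0 : Fin D.rank, D.graphExp (ringChar F) i0 (π i0) = 1 := by
    by_contra h
    push Not at h
    have hflag : ∀ i : Fin D.rank,
        D.isLong (D.simple (π i)) = true ∧ D.isLong (D.simple i) = false := by
      intro i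
      have := h i
      simp only [ChevalleyDatum.graphExp, ne_eq, ite_eq_right_iff, not_forall] at this
      obtain ⟨hb, -⟩ := this
      simpa [Bool.and_eq_true] using hb
    have hne : 0 < D.rank := rank_pos_of_mem hD
    have := (hflag (π ⟨0, hne⟩)).2
    rw [(hflag ⟨0, hne⟩).1] at this
    exact Bool.noConfusion this
  refine ⟨f i0, fun i t => ?_⟩
  let P : ℕ → Prop := fun n => ∀ i : Fin D.rank, (i : ℕ) = n →
    ∀ c, f i c = f i0 c ^ D.graphExp (ringChar F) i (π i)
  have hconn := dynkinConn_of_mem hD P (fun i hi j hj hne => ?_)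
  · have h0 : P i0 := fun i hi c => by rw [Fin.ext hi, hi0, pow_one]
    have h00 : P 0 := (hconn i0 i0.2).1 h0
    rw [← hf]
    exact (hconn i i.2).2 h00 i rfl t
  · by_cases hij : i = j
    · rw [hij]
    have hij' : (⟨i, hi⟩ : Fin D.rank) ≠ ⟨j, hj⟩ := fun h => hij (congrArg Fin.val h)
    obtain ⟨h0, e⟩ := diag_facts hd hij'.symm
    have hP : ∀ u : Fin D.rank, P u ↔ ∀ c, f u c = f i0 c ^ D.graphExp (ringChar F) u (π u) :=
      fun u => ⟨fun h => h u rfl, fun h u' hu' c => by rw [Fin.ext hu']; exact h c⟩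
    rw [show i = ((⟨i, hi⟩ : Fin D.rank) : ℕ) from rfl, show j = ((⟨j, hj⟩ : Fin D.rank) : ℕ) from rfl,
      hP, hP]
    rcases e hne with ⟨h', -, -⟩ | ⟨h', -, -, -⟩ | ⟨h', -, -, -⟩
    · exact (link g hD hθ h1 hd hf _ _ _ h').symm
    · exact (link g hD hθ h1 hd hf _ _ _ h').symm
    · exact link g hD hθ h1 hd hf _ _ _ h'

omit hD in
theorem exists_fieldAut (hD : D ∈ [chevG2, chevB2, chevD4, chevF4, chevE6, chevE7, chevE8])
    (σ : F ≃+* F) :
    ∃ φ : ↥(D.group F) ≃* ↥(D.group F), D.IsFieldAut φ ∧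
      ∀ r t, φ (xs g r t) = xs g r (σ t) := by
  obtain ⟨φ, hφ⟩ := Cfsg.Agent.S1080.result D hD σ
  exact ⟨φ, ⟨σ, hφ⟩, fun r t => Subtype.ext (Units.ext (hφ (xs g r t) r t r.2 rfl))⟩

/-- An automorphism fixing `U` and `V` is diagonal, graph, field. -/
theorem FixUV.decompose [Finite F] {θ : ↥(D.group F) ≃* ↥(D.group F)} (hθ : FixUV g θ) :
    ∃ d γ f : ↥(D.group F) ≃* ↥(D.group F), D.IsDiagonalAut d ∧ D.IsGraphAut γ ∧
      D.IsFieldAut f ∧ FixUV g γ ∧ ∀ y, θ y = d (γ (f y)) := by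
  have hc := hasComm_of_mem hD
  have hch := chainsOK_of_mem hD
  have hd := diagOK_of_mem hD
  obtain ⟨π, a0, b0, h0⟩ := hθ.exists_simpleMap g hc
  obtain ⟨d, θ', a, b, hdd, h', h1, hθ'⟩ := exists_normalised g hc hch h0
  obtain ⟨σ, hσ⟩ := exists_sigma g hD h' h1
  obtain ⟨f, hf, hfx⟩ := exists_fieldAut (g := g) hD σ
  have hsym : D.IsDiagramSymmetry π := isDiagramSymmetry_of_simpleMap g hd h'
  set e : Fin D.rank → ℕ := fun i => D.graphExp (ringChar F) i (π i) with he
  have hfs : ∀ r t, f.symm (xs g r t) = xs g r (σ.symm t) := fun r t => by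
    rw [MulEquiv.symm_apply_eq, hfx, RingEquiv.apply_symm_apply]
  let γ : ↥(D.group F) ≃* ↥(D.group F) := f.symm.trans θ'
  have hpos : ∀ i t, γ (xs g (g.sroot i) t) = xs g (g.sroot (π i)) (t ^ e i) := fun i t => by
    show θ'.toMonoidHom (f.symm _) = _
    rw [hfs, h'.pos, hσ, RingEquiv.apply_symm_apply]
  have hneg : ∀ i t, γ (xs g (g.nroot (g.sroot i)) t) = xs g (g.nroot (g.sroot (π i))) (t ^ e i) := by
    intro i t
    show θ'.toMonoidHom (f.symm _) = _
    rw [hfs, h'.neg]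
    congr 1
    have hodd : ∀ x : F, -((-x⁻¹ : F) ^ e i)⁻¹ = x ^ e i := by
      intro x
      haveI : CharP F (ringChar F) := ringChar.charP F
      have hn : ((-1 : F)) ^ e i = -1 := by
        simp only [he, ChevalleyDatum.graphExp]
        split
        · haveI : Fact (ringChar F).Prime := ⟨CharP.char_is_prime F _⟩
          exact neg_one_pow_char F (ringChar F)
        · exact pow_one _
      rw [neg_eq_neg_one_mul, neg_eq_neg_one_mul (x⁻¹), mul_pow, hn, neg_one_mul, neg_one_mul,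
        inv_neg, neg_neg, inv_pow, inv_inv]
    by_cases ht : t = 0
    · subst ht
      rw [map_zero, h'.b_zero, zero_pow]
      simp only [he, ChevalleyDatum.graphExp]
      haveI : CharP F (ringChar F) := ringChar.charP F
      split
      · exact (CharP.char_is_prime F (ringChar F)).ne_zero
      · exact one_ne_zero
    · obtain ⟨u, hu⟩ : ∃ u : Fˣ, -((u⁻¹ : Fˣ) : F) = σ.symm t :=
        ⟨(-Units.mk0 (σ.symm t) (by simpa using ht))⁻¹, by simp⟩
      have hu' : σ (u : F) = -t⁻¹ := by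
        have := congrArg σ hu
        rw [map_neg, RingEquiv.apply_symm_apply, Units.val_inv_eq_inv_val, map_inv₀] at this
        rw [← this, inv_neg, inv_inv, neg_neg]
      rw [← hu, h'.b_eq]
      simp only [SimpleMap.au, Units.val_inv_eq_inv_val, Units.val_mk0, hσ, hu']
      exact hodd t
  have hγS : SimpleMap g γ.toMonoidHom π (fun i t => t ^ e i) (fun i t => t ^ e i) :=
    ⟨γ.injective, hpos, hneg, fun i => Finite.injective_iff_surjective.1 fun s t h =>
      xs_inj g (γ.injective (by rw [hpos, hpos]; exact congrArg _ h))⟩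
  refine ⟨d, γ, f, hdd, ⟨π, hsym, fun x i t => ⟨fun hx => ?_, fun hx => ?_⟩⟩, hf, ?_, fun y => ?_⟩
  · obtain rfl : x = xs g (g.sroot i) t := Subtype.ext (g.eq_xG hx)
    rw [hpos]; rfl
  · obtain rfl : x = xs g (g.nroot (g.sroot i)) t := Subtype.ext (g.eq_xG hx)
    rw [hneg]; rfl
  · have onto : ∀ K : Subgroup ↥(D.group F), (∀ x ∈ K, γ x ∈ K) → ∀ x, γ x ∈ K → x ∈ K := by
      intro K hK x hx
      haveI : Finite ↥(D.group F) := Finite.of_injective (fun y : ↥(D.group F) => (y : GL D.Idx F))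
        Subtype.val_injective
      obtain ⟨⟨y, hy⟩, he⟩ := Finite.injective_iff_surjective.1
        (show Function.Injective fun y : ↥K => (⟨γ y, hK y y.2⟩ : ↥K) from fun u v h =>
          Subtype.ext (γ.injective (congrArg Subtype.val h))) ⟨γ x, hx⟩
      exact γ.injective (congrArg Subtype.val he) ▸ hy
    exact ⟨fun x => ⟨onto _ (fun _ h => hγS.map_pos h) x, fun h => hγS.map_pos h⟩,
      fun x => ⟨onto _ (fun _ h => hγS.map_neg h) x, fun h => hγS.map_neg h⟩⟩
  · rw [hθ']
    show d (θ' y) = d (θ' (f.symm (f y)))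
    rw [f.symm_apply_apply]

end

end CfsgLib.KnownA.Chev
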