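import Cfsg.Agent.Lib.KnownA.Chev.SimpleMap

/-!
An automorphism of a finite Chevalley group can be composed with an inner one to fix `U` and `V`;
one that fixes them permutes the fundamental root subgroups of both signs.
-/

set_option autoImplicit false

namespace CfsgLib.KnownA.Chev

open Cfsg.Lie CfsgLib.Chev CfsgLib.KnownA.ChevChar

variable {D : ChevalleyDatum} {F : Type*} [Field F]

section

variable (g : Good D)
include g

/-- `U` inside the group. -/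
def Us (_g : Good D) (F : Type*) [Field F] : Subgroup ↥(D.group F) :=
  (D.posUnipotent F).subgroupOf (D.group F)

/-- `V` inside the group. -/
def Vs (_g : Good D) (F : Type*) [Field F] : Subgroup ↥(D.group F) :=
  (D.negUnipotent F).subgroupOf (D.group F)

/-- `B` inside the group. -/
def Bs (_g : Good D) (F : Type*) [Field F] : Subgroup ↥(D.group F) :=
  (D.borelSubgroup F).subgroupOf (D.group F)

theorem Us_le_Bs : Us g F ≤ Bs g F := fun _ hx => Subgroup.mem_sup_left hx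

theorem Hs_le_Bs : Hs g F ≤ Bs g F := fun _ hx => Subgroup.mem_sup_right hx

theorem xs_mem_Us {r : Fin D.nroots} (hr : half D ≤ r.val) (t : F) : xs g r t ∈ Us g F :=
  g.xG_mem_posUnipotent ((g.isPosRoot_iff _).2 ⟨hr, r.2⟩) t

theorem xs_mem_Vs {r : Fin D.nroots} (hr : r.val < half D) (t : F) : xs g r t ∈ Vs g F :=
  g.xG_mem_negUnipotent ((g.isNegRoot_iff _).2 hr) t

theorem Bs_inf_Vs {x : ↥(D.group F)} (hB : x ∈ Bs g F) (hV : x ∈ Vs g F) : x = 1 := by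
  have h : (x : GL D.Idx F) ∈ D.borelSubgroup F ⊓ D.negUnipotent F := ⟨hB, hV⟩
  rw [g.borel_inf_neg, Subgroup.mem_bot] at h
  exact Subtype.ext h

/-- Conjugation by `n₀` exchanges `U` and `V`. -/
theorem n0_conj_mem_Vs {x : ↥(D.group F)} :
    n0 g * x * (n0 g)⁻¹ ∈ Vs g F ↔ x ∈ Us g F := by
  have hU : ∀ y : GL D.Idx F, y ∈ D.posUnipotent F →
      g.wordN (w0word g) * y * (g.wordN (w0word g))⁻¹ ∈ D.negUnipotent F := by
    intro y hy
    rw [g.posUnipotent_eq] at hy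
    rw [g.negUnipotent_eq]
    exact g.conj_rootGen (acts_n0 g) (S := Set.Ici (half D)) (T := Set.Iio (half D))
      (fun s hs => w0_neg g hs) (Subgroup.mem_map_of_mem _ hy)
  have hV : ∀ y : GL D.Idx F, y ∈ D.negUnipotent F →
      (g.wordN (w0word g))⁻¹ * y * g.wordN (w0word g) ∈ D.posUnipotent F := by
    intro y hy
    rw [g.negUnipotent_eq] at hy
    rw [g.posUnipotent_eq]
    have := g.conj_rootGen (g.acts_inv (acts_n0 (F := F) g)) (S := Set.Iio (half D))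
      (T := Set.Ici (half D)) (fun s hs => by
        rw [show ((w0 g)⁻¹ : Equiv.Perm (Fin D.nroots)) = w0 g from
          inv_eq_of_mul_eq_one_right (w0_mul_self g)]
        exact w0_pos g hs) (Subgroup.mem_map_of_mem _ hy)
    simpa [n0] using this
  refine ⟨fun h => ?_, hU _⟩
  have h2 : (g.wordN (w0word g))⁻¹ * ((n0 g * x * (n0 g)⁻¹ : ↥(D.group F)) : GL D.Idx F) *
      g.wordN (w0word g) ∈ D.posUnipotent F := hV _ h
  show (x : GL D.Idx F) ∈ D.posUnipotent F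
  simpa [n0, mul_assoc] using h2

theorem n0_sq_mem : n0 g * n0 g ∈ Hs g F := by
  have := g.wordN_mem_diagonal (F := F) (l := w0word g ++ w0word g)
    (by rw [g.wperm_append]; exact w0_mul_self g)
  rwa [g.wordN_append] at this

theorem Hs_conj_Us {h x : ↥(D.group F)} (hh : h ∈ Hs g F) (hx : x ∈ Us g F) :
    h * x * h⁻¹ ∈ Us g F :=
  (Subgroup.mem_normalizer_iff.1 (g.diagonal_le_normalizer_pos hh) _).1 hx

theorem Bs_conj_Us {b x : ↥(D.group F)} (hb : b ∈ Bs g F) (hx : x ∈ Us g F) :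
    b * x * b⁻¹ ∈ Us g F :=
  (Subgroup.mem_normalizer_iff.1 ((sup_le Subgroup.le_normalizer g.diagonal_le_normalizer_pos :
    D.borelSubgroup F ≤ _) hb) _).1 hx

theorem n0_conj_mem_Us {x : ↥(D.group F)} :
    n0 g * x * (n0 g)⁻¹ ∈ Us g F ↔ x ∈ Vs g F := by
  have h2 := n0_sq_mem g (F := F)
  constructor
  · intro h
    have h1 := (n0_conj_mem_Vs g).2 (Hs_conj_Us g (inv_mem h2) h)
    simpa [mul_assoc] using h1
  · intro h
    have h1 : (n0 g)⁻¹ * x * n0 g ∈ Us g F := (n0_conj_mem_Vs g).1 (by simpa [mul_assoc] using h)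
    have h3 := Hs_conj_Us g h2 h1
    simpa [mul_assoc] using h3

/-- The normalizer of `U` in the group is `B`. -/
theorem mem_Bs_iff (hc : HasComm D) {x : ↥(D.group F)} :
    x ∈ Bs g F ↔ ∀ u ∈ Us g F, x * u * x⁻¹ ∈ Us g F := by
  refine ⟨fun hx u hu => Bs_conj_Us g hx hu, fun h => ?_⟩
  obtain ⟨b, hb, n, hn, π, hπw, hπ, u, hu, he⟩ := g.exists_canonical hc x.2
  have hnB : n ∈ D.diagonalSubgroup F := by
    rw [← g.borel_inf_monomial]
    refine ⟨?_, hn⟩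
    have hπ1 : π = 1 := g.eq_one_of_pos hπw fun a ha => by
      by_contra hc'
      have hu' : u ∈ D.posUnipotent F := g.minus_le_pos _ hu
      let u0 : ↥(D.group F) := ⟨u, g.posUnipotent_le_group hu'⟩
      have hm : u0⁻¹ * xs g a 1 * u0 ∈ Us g F :=
        mul_mem (mul_mem (inv_mem hu') (xs_mem_Us g ha 1)) hu'
      have h1 := Bs_conj_Us g (b := ⟨b, g.borel_le_group hb⟩⁻¹) (inv_mem hb) (h _ hm)
      obtain ⟨c, hc2⟩ := hπ a
      have e : ((⟨b, g.borel_le_group hb⟩⁻¹ * (x * (u0⁻¹ * xs g a 1 * u0) * x⁻¹) *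
          ⟨b, g.borel_le_group hb⟩⁻¹⁻¹ : ↥(D.group F)) : GL D.Idx F) =
          g.xG (π a) ((c : F) * 1) := by
        rw [← hc2 1]
        simp only [Subgroup.coe_mul, Subgroup.coe_inv, he, u0, coe_xs]
        group
      have h2 : g.xG (π a) ((c : F) * 1) ∈ D.borelSubgroup F ⊓ D.negUnipotent F := by
        refine Subgroup.mem_inf.2 ⟨Subgroup.mem_sup_left (e ▸ h1),
          g.xG_mem_negUnipotent ((g.isNegRoot_iff _).2 (by omega)) _⟩
      rw [g.borel_inf_neg, Subgroup.mem_bot] at h2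
      have h3 := (g.x_eq_one_iff (π a).2 _).1 (congrArg Units.val h2)
      simp at h3
    subst hπ1
    have : (⟨n, hn⟩ : ↥(D.monomialSubgroup F)) ∈ (g.rootAct (F := F)).ker :=
      Subtype.ext (g.rootAct_eq hπ)
    rw [g.rootAct_ker] at this
    exact Subgroup.mem_sup_right this
  show (x : GL D.Idx F) ∈ D.borelSubgroup F
  rw [he]
  exact mul_mem (mul_mem hb (Subgroup.mem_sup_right hnB))
    (Subgroup.mem_sup_left (g.minus_le_pos _ hu))

theorem mem_Bs_of_conj_n0 (hc : HasComm D) {x : ↥(D.group F)}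
    (h : ∀ v ∈ Vs g F, x * v * x⁻¹ ∈ Vs g F) : (n0 g)⁻¹ * x * n0 g ∈ Bs g F := by
  refine (mem_Bs_iff g hc).2 fun u hu => (n0_conj_mem_Vs g).1 ?_
  have := h _ ((n0_conj_mem_Vs g).2 hu)
  simpa [mul_assoc] using this

/-- An automorphism fixes `U` and `V`. -/
structure FixUV (θ : ↥(D.group F) ≃* ↥(D.group F)) : Prop where
  memU : ∀ x, θ x ∈ Us g F ↔ x ∈ Us g F
  memV : ∀ x, θ x ∈ Vs g F ↔ x ∈ Vs g F

/-- Every automorphism is inner times one fixing `U` and `V`. -/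
theorem exists_fixUV [Fintype F] (hc : HasComm D) (p : ℕ) [CharP F p] [Fact p.Prime]
    (θ : ↥(D.group F) ≃* ↥(D.group F)) :
    ∃ (x : ↥(D.group F)) (θ' : ↥(D.group F) ≃* ↥(D.group F)), FixUV g θ' ∧
      ∀ y, θ y = x * θ' y * x⁻¹ := by
  obtain ⟨P, hP⟩ := exists_sylow_posUnipotent g hc p (F := F)
  let Q : Sylow p ↥(D.group F) := P.mapSurjective (f := θ.toMonoidHom) θ.surjective
  obtain ⟨x, hx⟩ := MulAction.exists_smul_eq ↥(D.group F) Q P
  let θ1 : ↥(D.group F) ≃* ↥(D.group F) := θ.trans (MulAut.conj x)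
  have hθ1 : ∀ y, θ1 y ∈ Us g F ↔ y ∈ Us g F := by
    intro y
    have hQ : ((x • Q : Sylow p ↥(D.group F)) : Subgroup ↥(D.group F)) = Us g F := by
      rw [hx]; exact hP
    have e : ((x • Q : Sylow p ↥(D.group F)) : Subgroup ↥(D.group F)) =
        ((P : Subgroup ↥(D.group F)).map θ.toMonoidHom).map (MulAut.conj x).toMonoidHom := rfl
    rw [e, hP, Subgroup.map_map] at hQ
    conv_lhs => rw [← hQ]
    exact Subgroup.mem_map_iff_mem (K := Us g F) (x := y)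
      (f := (MulAut.conj x).toMonoidHom.comp θ.toMonoidHom) θ1.injective
  set m := θ1 (n0 g) with hm
  obtain ⟨b, hb, n, hn, π, hπw, hπ, u, hu, he⟩ := g.exists_canonical hc m.2
  let b0 : ↥(D.group F) := ⟨b, g.borel_le_group hb⟩
  let n1 : ↥(D.group F) := ⟨n, g.monomial_le_group hn⟩
  let u0 : ↥(D.group F) := ⟨u, g.posUnipotent_le_group (g.minus_le_pos _ hu)⟩
  have hm' : m = b0 * n1 * u0 := Subtype.ext he
  have hV1 : ∀ y, θ1 y ∈ Us g F → θ1 (n0 g * y * (n0 g)⁻¹) ∈ Us g F → y = 1 := by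
    intro y hy hy'
    have h1 := (hθ1 _).1 hy'
    have h2 : n0 g * y * (n0 g)⁻¹ ∈ Vs g F := (n0_conj_mem_Vs g).2 ((hθ1 y).1 hy)
    have h3 := Bs_inf_Vs g (Us_le_Bs g h1) h2
    simpa using h3
  have hneg : ∀ a : Fin D.nroots, half D ≤ a.val → (π a).val < half D := by
    intro a ha
    by_contra hc'
    obtain ⟨c, hc2⟩ := hπ a
    have h2 : u0⁻¹ * xs g a 1 * u0 ∈ Us g F :=
      mul_mem (mul_mem (inv_mem (g.minus_le_pos _ hu)) (xs_mem_Us g ha 1)) (g.minus_le_pos _ hu)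
    have h3 := hV1 (θ1.symm (u0⁻¹ * xs g a 1 * u0)) (by rw [θ1.apply_symm_apply]; exact h2) (by
      rw [map_mul, map_mul, map_inv, θ1.apply_symm_apply, ← hm, hm']
      rw [show b0 * n1 * u0 * (u0⁻¹ * xs g a 1 * u0) * (b0 * n1 * u0)⁻¹ =
        b0 * (n1 * xs g a 1 * n1⁻¹) * b0⁻¹ by group]
      refine Bs_conj_Us g hb ?_
      show (n * g.xG a 1 * n⁻¹ : GL D.Idx F) ∈ D.posUnipotent F
      rw [hc2]
      exact g.xG_mem_posUnipotent ((g.isPosRoot_iff _).2 ⟨by omega, (π a).2⟩) _)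
    rw [MulEquiv.map_eq_one_iff, show u0⁻¹ * xs g a 1 * u0 = u0⁻¹ * xs g a 1 * (u0⁻¹)⁻¹ by group,
      conj_eq_one_iff, ← xs_zero g a] at h3
    exact one_ne_zero (xs_inj g h3)
  obtain ⟨l, hl⟩ := g.exists_wperm hπw
  have hw : π = w0 g := by
    have h1 : π * w0 g = 1 := g.eq_one_of_pos (mul_mem hπw (g.wperm_mem _)) fun a ha => by
      rw [Equiv.Perm.mul_apply]
      have h4 : (w0 g a).val < half D := w0_neg g ha
      have h5 := hneg _ ((g.nroot_pos_iff _).2 h4)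
      rw [← hl, g.wperm_nroot] at h5
      rw [← hl]
      by_contra h6
      have := (g.nroot_pos_iff (g.wperm l (w0 g a))).2 (by omega)
      omega
    rw [← mul_one π, ← w0_mul_self g, ← mul_assoc, h1, one_mul]
  have hd : n1⁻¹ * n0 g ∈ Hs g F := by
    have hmem : n⁻¹ * g.wordN (w0word g) ∈ D.monomialSubgroup F :=
      mul_mem (inv_mem hn) (g.wordN_mem _)
    have ha : g.Acts (n⁻¹ * g.wordN (w0word g)) (π⁻¹ * w0 g) := g.acts_mul (g.acts_inv hπ) (acts_n0 g)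
    rw [hw, inv_mul_cancel] at ha
    have : (⟨_, hmem⟩ : ↥(D.monomialSubgroup F)) ∈ (g.rootAct (F := F)).ker :=
      Subtype.ext (g.rootAct_eq ha)
    rw [g.rootAct_ker] at this
    exact this
  let θ2 : ↥(D.group F) ≃* ↥(D.group F) := θ1.trans (MulAut.conj b0⁻¹)
  have hθ2U : ∀ y, θ2 y ∈ Us g F ↔ y ∈ Us g F := by
    intro y
    rw [← hθ1 y]
    show b0⁻¹ * θ1 y * b0⁻¹⁻¹ ∈ Us g F ↔ _
    refine ⟨fun h => ?_, fun h => Bs_conj_Us g (inv_mem hb) h⟩
    have := Bs_conj_Us g (b := b0) hb h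
    simpa [mul_assoc] using this
  refine ⟨x⁻¹ * b0, θ2, ⟨hθ2U, fun y => ?_⟩, fun y => ?_⟩
  · have key : ∀ z, θ2 (n0 g * z * (n0 g)⁻¹) =
        n1 * u0 * (b0 * θ2 z * b0⁻¹) * (n1 * u0)⁻¹ := by
      intro z
      show b0⁻¹ * θ1 (n0 g * z * (n0 g)⁻¹) * b0⁻¹⁻¹ = _ * (b0 * (b0⁻¹ * θ1 z * b0⁻¹⁻¹) * b0⁻¹) * _
      rw [map_mul, map_mul, map_inv, ← hm, hm']
      group
    have hB : ∀ w, w ∈ Us g F ↔ u0 * (b0 * w * b0⁻¹) * u0⁻¹ ∈ Us g F := by
      intro w
      refine ⟨fun h => Bs_conj_Us g (Us_le_Bs g (g.minus_le_pos _ hu)) (Bs_conj_Us g hb h),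
        fun h => ?_⟩
      have := Bs_conj_Us g (inv_mem hb : b0⁻¹ ∈ Bs g F)
        (Bs_conj_Us g (inv_mem (Us_le_Bs g (g.minus_le_pos _ hu)) : u0⁻¹ ∈ Bs g F) h)
      simpa [mul_assoc] using this
    have hN : ∀ w, w ∈ Us g F ↔ n1 * w * n1⁻¹ ∈ Vs g F := by
      intro w
      have h1 : n1 * w * n1⁻¹ = n0 g * ((n1⁻¹ * n0 g)⁻¹ * w * (n1⁻¹ * n0 g)) * (n0 g)⁻¹ := by group
      rw [h1, n0_conj_mem_Vs]
      refine ⟨fun h => ?_, fun h => ?_⟩
      · simpa using Hs_conj_Us g (inv_mem hd) h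
      · have := Hs_conj_Us g hd h
        simpa [mul_assoc] using this
    have e : y = n0 g * ((n0 g)⁻¹ * y * n0 g) * (n0 g)⁻¹ := by group
    rw [e, key, n0_conj_mem_Vs, show ∀ w, n1 * u0 * w * (n1 * u0)⁻¹ = n1 * (u0 * w * u0⁻¹) * n1⁻¹
      from fun w => by group, ← hN, ← hB, hθ2U]
  · show θ y = x⁻¹ * b0 * (b0⁻¹ * (x * θ y * x⁻¹) * b0⁻¹⁻¹) * (x⁻¹ * b0)⁻¹
    group

end

end CfsgLib.KnownA.Chev
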