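import Cfsg.Agent.Lib.Chev.SigmaTables

/-!
A transposition of two outer nodes of D4.
-/

set_option autoImplicit false
set_option maxRecDepth 100000

namespace CfsgLib.KnownA.Chev

open Cfsg.Lie CfsgLib.Chev

/-- The symmetry [2, 1, 0, 3] of D4. -/
def rhoD4c : RhoData :=
  ⟨[0, 1, 2, 6, 7, 10, 3, 4, 8, 9, 5, 11, 12, 18, 14, 15, 19, 20, 13, 16, 17, 21, 22, 23], [0, 1, 2, 6, 7, 10, 3, 4, 8, 9, 5, 11, 12, 18, 14, 15, 19, 20, 13, 16, 17, 21, 22, 23],
    [2, 1, 0, 3], [2, 1, 0, 3]⟩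

/-- Its signs. -/
def rhoD4cSign : List ℤ := [1, 1, 1, -1, -1, 1, -1, -1, 1, 1, 1, 1, 1, 1, 1, 1, -1, -1, 1, -1, -1, 1, 1, 1]

theorem rhoD4c_ok : rhoOK chevD4 dataD4 sdataD4 rhoD4c = true := by decide +kernel

theorem rhoD4c_signed : signedOK chevD4 rhoD4c rhoD4cSign = true := by decide +kernel

theorem exists_transposition_D4 {F : Type*} [Field F] :
    ∃ α : ↥(chevD4.group F) ≃* ↥(chevD4.group F), ∀ (x : ↥(chevD4.group F)) (i : ℕ) (t : F), i < chevD4.rank →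
      (((x : GL chevD4.Idx F) : Matrix chevD4.Idx chevD4.Idx F) = chevD4.x F (chevD4.simple i) t →
        ((α x : GL chevD4.Idx F) : Matrix chevD4.Idx chevD4.Idx F) =
          chevD4.x F (chevD4.simple (([2, 1, 0, 3] : List ℕ).getD i 0)) t) ∧
      (((x : GL chevD4.Idx F) : Matrix chevD4.Idx chevD4.Idx F) = chevD4.x F (chevD4.neg (chevD4.simple i)) t →
        ((α x : GL chevD4.Idx F) : Matrix chevD4.Idx chevD4.Idx F) =
          chevD4.x F (chevD4.neg (chevD4.simple (([2, 1, 0, 3] : List ℕ).getD i 0))) t) :=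
  exists_graph_aut goodD4 checksD4 structChecksD4 rhoD4c_ok rhoD4c_signed (by decide +kernel)

end CfsgLib.KnownA.Chev
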