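import Cfsg.Agent.Lib.KnownA.Chev.Decompose

/-!
A graph automorphism of D4 or E6 sends each root element to a root element up to sign.
-/

set_option autoImplicit false

namespace CfsgLib.KnownA.Chev

open Cfsg.Lie CfsgLib.Chev CfsgLib.KnownA.ChevChar

/-- The Cartan integers are given by the bonds, and roots are determined by their coroots. -/
def laceOK (D : ChevalleyDatum) : Bool :=
  ((List.range D.rank).all fun i => (List.range D.rank).all fun j =>
    decide (D.cartan i (D.simple j) = if i = j then 2 else -D.bonds i j)) &&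
  decide (((List.range D.nroots).map fun r =>
    (List.range D.rank).map fun j => (D.coroot.getD r #[]).getD j 0).Nodup)

theorem laceOK_D4 : laceOK chevD4 = true := by decide +kernel
theorem laceOK_E6 : laceOK chevE6 = true := by decide +kernel

variable {D : ChevalleyDatum} {F : Type*} [Field F] (g : Good D)
include g

theorem graph_sign (hl : laceOK D = true) (π : Equiv.Perm (Fin D.rank))
    (hπ : D.IsDiagramSymmetry π) {θ : ↥(D.group F) →* ↥(D.group F)}
    (hθ : SimpleMap g θ π (fun _ t => t) (fun _ t => t)) (r : Fin D.nroots) :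
    ∃ ε : F, (ε = 1 ∨ ε = -1) ∧ ∃ r' : Fin D.nroots, (r' : ℕ) = D.permRoot π r ∧
      ∀ t, θ (xs g r t) = xs g r' (ε * t) := by
  rw [laceOK, Bool.and_eq_true] at hl
  obtain ⟨hl1, hl2⟩ := hl
  simp only [List.all_eq_true, List.mem_range, decide_eq_true_eq] at hl1
  have hnd := of_decide_eq_true hl2
  have hcar : ∀ i j : Fin D.rank, D.cartan (π i) (D.simple (π j)) = D.cartan i (D.simple j) := by
    intro i j
    rw [hl1 _ (π i).2 _ (π j).2, hl1 _ i.2 _ j.2]
    by_cases h : i = j
    · simp [h]
    · rw [if_neg (fun e => h (π.injective (Fin.ext e))), if_neg (fun e => h (Fin.ext e)), hπ i j h]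
  suffices H : ∀ s, s < D.nroots → ∀ hs : s < D.nroots, ∃ ε : F, (ε = 1 ∨ ε = -1) ∧
      ∃ r' : Fin D.nroots, (∀ j : Fin D.rank, corootCo D r' (π j) = corootCo D s j) ∧
        ∀ t, θ (xs g ⟨s, hs⟩ t) = xs g r' (ε * t) by
    obtain ⟨ε, hε, r', hco, hx⟩ := H r r.2 r.2
    refine ⟨ε, hε, r', ?_, hx⟩
    simp only [ChevalleyDatum.permRoot]
    cases hf : (List.range D.nroots).find? fun s => (List.finRange D.rank).all fun i =>
        (D.coroot.getD s #[]).getD (π i).val 0 == (D.coroot.getD (r : ℕ) #[]).getD i.val 0 with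
    | none =>
      have := List.find?_eq_none.1 hf r' (List.mem_range.2 r'.2)
      simp only [List.all_eq_true, List.mem_finRange, forall_const, beq_iff_eq] at this
      exact absurd hco this
    | some s =>
      simp only [Option.getD_some]
      obtain ⟨hs, hp⟩ : s ∈ List.range D.nroots ∧ _ := ⟨List.mem_of_find?_eq_some hf, List.find?_some hf⟩
      simp only [List.all_eq_true, List.mem_finRange, forall_const, beq_iff_eq] at hp
      refine List.inj_on_of_nodup_map hnd (List.mem_range.2 r'.2) hs ?_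
      refine List.map_congr_left fun j hj => ?_
      obtain ⟨i, hi⟩ := π.surjective ⟨j, List.mem_range.1 hj⟩
      have h1 := hco i
      have h2 := hp i
      rw [hi] at h1 h2
      exact h1.trans h2.symm
  intro s hs
  refine g.root_induction (P := fun s => ∀ hs : s < D.nroots, ∃ ε : F, (ε = 1 ∨ ε = -1) ∧
      ∃ r' : Fin D.nroots, (∀ j : Fin D.rank, corootCo D r' (π j) = corootCo D s j) ∧
        ∀ t, θ (xs g ⟨s, hs⟩ t) = xs g r' (ε * t)) ?_ ?_ hs
  · intro i hi _
    refine ⟨1, Or.inl rfl, g.sroot (π ⟨i, hi⟩), fun j => ?_, fun t => by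
      rw [one_mul]; exact hθ.pos ⟨i, hi⟩ t⟩
    show corootCo D (D.simple (π ⟨i, hi⟩)) (π j) = corootCo D (D.simple i) j
    rw [g.corootCo_simple (π ⟨i, hi⟩).2 (π j).2, g.corootCo_simple hi j.2]
    refine if_congr ⟨fun h => ?_, fun h => ?_⟩ rfl rfl
    · exact congrArg Fin.val (π.injective (Fin.ext h))
    · rw [show (⟨i, hi⟩ : Fin D.rank) = j from Fin.ext h]
  · intro i hi s hs0 ih _
    obtain ⟨ε, hε, r', hco, hx⟩ := ih hs0
    set I : Fin D.rank := ⟨i, hi⟩
    set e1 : F := (g.eta i s : F)
    set e2 : F := (g.eta (π I) r' : F)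
    have he1 : e1 = 1 ∨ e1 = -1 := by rcases g.eta_sign hi hs0 with h | h <;> simp [e1, h]
    have he2 : e2 = 1 ∨ e2 = -1 := by rcases g.eta_sign (π I).2 r'.2 with h | h <;> simp [e2, h]
    refine ⟨e2 * ε * e1, ?_, g.rperm (π I) r', fun j => ?_, fun t => ?_⟩
    · rcases he1 with h | h <;> rcases he2 with h' | h' <;> rcases hε with h'' | h'' <;>
        simp [h, h', h'']
    · rw [g.rperm_val, g.corootCo_refl (π I).2 r'.2 (π j).2, g.corootCo_refl hi hs0 j.2, hco]
      congr 1
      refine if_congr ⟨fun h => congrArg Fin.val (π.injective (Fin.ext h)),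
        fun h => by rw [show I = j from Fin.ext h]⟩ ?_ rfl
      simp only [pair, Finset.sum_range]
      rw [← Equiv.sum_comp π]
      refine Finset.sum_congr rfl fun l _ => ?_
      show corootCo D r' (π l) * D.cartan (π l) (D.simple (π I)) = corootCo D s l * D.cartan l (D.simple i)
      rw [hco, hcar]
    · have hn : θ (ns g (g.sroot I) 1) = ns g (g.sroot (π I)) 1 := by
        rw [hθ.map_ns]; congr 1; exact Units.ext rfl
      have key : xs g ⟨D.reflectRoot i s, g.refl_lt hi hs0⟩ t =
          ns g (g.sroot I) 1 * xs g ⟨s, hs0⟩ (e1 * t) * (ns g (g.sroot I) 1)⁻¹ := by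
        refine Subtype.ext ?_
        show g.xG (D.reflectRoot i s) t =
          g.nG (D.simple i) 1 * g.xG s (e1 * t) * (g.nG (D.simple i) 1)⁻¹
        rw [g.nG_conj_xG hi hs0, ← mul_assoc]
        rcases g.eta_sign hi hs0 with h | h <;> simp [e1, h]
      rw [key, map_mul, map_mul, map_inv, hn, hx]
      refine Subtype.ext ?_
      show g.nG (D.simple (π I)) 1 * g.xG (r' : ℕ) _ * (g.nG (D.simple (π I)) 1)⁻¹ = _
      rw [g.nG_conj_xG (π I).2 r'.2, coe_xs, g.rperm_val]
      congr 1
      ring

end CfsgLib.KnownA.Chev
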