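import Cfsg.Agent.Lib.KnownA.Chev.Kinds
import Cfsg.Agent.Lib.Chev.CartanSmith
import Cfsg.Prelude.Def_KGroupFacts

/-!
The outer automorphism group of a finite Chevalley group.
-/

set_option autoImplicit false

namespace CfsgLib.KnownA.Chev

open Cfsg.Lie CfsgLib.Chev CfsgLib.KnownA.ChevChar

variable {D : ChevalleyDatum} {F : Type*} [Field F] [Finite F]

theorem mem_Inn {G : Type*} [Group G] {φ : MulAut G} : φ ∈ Cfsg.Inn G ↔ ∃ x, MulAut.conj x = φ :=
  Iff.rfl

theorem graphExp_ne_zero (i j : ℕ) : D.graphExp (ringChar F) i j ≠ 0 :=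
  (graphExp_pos (D := D) (F := F) i j).ne'

variable (hD : D ∈ [chevG2, chevB2, chevD4, chevF4, chevE6, chevE7, chevE8])
include hD

/-- The diagonal automorphisms, parametrised by their fundamental values. -/
noncomputable def diagHom : (Fin D.rank → Fˣ) →* MulAut ↥(D.group F) where
  toFun c := diagAut (good_of_mem hD) (chainsOK_of_mem hD)
    (isRootCharacter_charOf (good_of_mem hD) (hasComm_of_mem hD) c)
  map_one' := aut_ext (good_of_mem hD) (fun i t => by rw [diagAut_xs, charOf_sroot]; simp)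
    (fun i t => by rw [diagAut_xs, charOf_neg]; simp)
  map_mul' c d := aut_ext (good_of_mem hD)
    (fun i t => by
      rw [MulAut.mul_apply, diagAut_xs, diagAut_xs, diagAut_xs, charOf_sroot, charOf_sroot,
        charOf_sroot]
      simp [mul_assoc])
    (fun i t => by
      rw [MulAut.mul_apply, diagAut_xs, diagAut_xs, diagAut_xs, charOf_neg, charOf_neg, charOf_neg]
      congr 1
      rw [Pi.mul_apply, mul_inv, Units.val_mul]
      ring)

theorem diagHom_pos (c : Fin D.rank → Fˣ) (i : Fin D.rank) (t : F) :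
    diagHom hD c (xs (good_of_mem hD) ((good_of_mem hD).sroot i) t) =
      xs (good_of_mem hD) ((good_of_mem hD).sroot i) ((c i : F) * t) := by
  show diagAut (good_of_mem hD) (chainsOK_of_mem hD)
    (isRootCharacter_charOf (good_of_mem hD) (hasComm_of_mem hD) c) _ = _
  rw [diagAut_xs, charOf_sroot]

theorem diagHom_neg (c : Fin D.rank → Fˣ) (i : Fin D.rank) (t : F) :
    diagHom hD c (xs (good_of_mem hD) ((good_of_mem hD).nroot ((good_of_mem hD).sroot i)) t) =
      xs (good_of_mem hD) ((good_of_mem hD).nroot ((good_of_mem hD).sroot i))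
        (((c i)⁻¹ : Fˣ) * t) := by
  show diagAut (good_of_mem hD) (chainsOK_of_mem hD)
    (isRootCharacter_charOf (good_of_mem hD) (hasComm_of_mem hD) c) _ = _
  rw [diagAut_xs, charOf_neg]

theorem isDiagonalAut_iff {φ : MulAut ↥(D.group F)} :
    D.IsDiagonalAut φ ↔ φ ∈ (diagHom (F := F) hD).range := by
  constructor
  · intro h
    obtain ⟨χ, hχ, hx⟩ := diag_xs (good_of_mem hD) (chainsOK_of_mem hD) h
    refine ⟨fun i => χ (((good_of_mem hD).sroot i : Fin D.nroots) : ℕ), aut_ext (good_of_mem hD)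
      (fun i t => ?_) (fun i t => ?_)⟩
    · rw [diagHom_pos, hx]
    · rw [diagHom_neg, hx]
      congr 3
      exact (hχ.1 _ ((good_of_mem hD).sroot i).2).symm
  · rintro ⟨c, rfl⟩
    exact isDiagonalAut_diagAut (good_of_mem hD) (chainsOK_of_mem hD)
      (isRootCharacter_charOf (good_of_mem hD) (hasComm_of_mem hD) c)

/-- The field automorphisms. -/
noncomputable def fieldHom : (F ≃+* F) →* MulAut ↥(D.group F) where
  toFun σ := (exists_fieldAut (g := good_of_mem hD) hD σ).choose
  map_one' := aut_ext (good_of_mem hD)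
    (fun i t => (exists_fieldAut (g := good_of_mem hD) hD (1 : F ≃+* F)).choose_spec.2 _ t)
    (fun i t => (exists_fieldAut (g := good_of_mem hD) hD (1 : F ≃+* F)).choose_spec.2 _ t)
  map_mul' σ τ := by
    have h1 := (exists_fieldAut (g := good_of_mem hD) hD (σ * τ)).choose_spec.2
    have h2 := (exists_fieldAut (g := good_of_mem hD) hD σ).choose_spec.2
    have h3 := (exists_fieldAut (g := good_of_mem hD) hD τ).choose_spec.2
    refine aut_ext (good_of_mem hD) (fun i t => ?_) (fun i t => ?_) <;>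
      rw [MulAut.mul_apply, h1, h3, h2] <;> rfl

theorem fieldHom_xs (σ : F ≃+* F) (r : Fin D.nroots) (t : F) :
    fieldHom hD σ (xs (good_of_mem hD) r t) = xs (good_of_mem hD) r (σ t) :=
  (exists_fieldAut (g := good_of_mem hD) hD σ).choose_spec.2 r t

theorem isFieldAut_iff {φ : MulAut ↥(D.group F)} :
    D.IsFieldAut φ ↔ φ ∈ (fieldHom (F := F) hD).range := by
  constructor
  · intro h
    obtain ⟨σ, hσ⟩ := field_xs (good_of_mem hD) h
    exact ⟨σ, aut_ext (good_of_mem hD) (fun i t => by rw [fieldHom_xs, hσ])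
      (fun i t => by rw [fieldHom_xs, hσ])⟩
  · rintro ⟨σ, rfl⟩
    exact (exists_fieldAut (g := good_of_mem hD) hD σ).choose_spec.1

theorem closure_diagonal :
    Subgroup.closure {φ : MulAut ↥(D.group F) | D.IsDiagonalAut φ} = (diagHom (F := F) hD).range := by
  rw [← Subgroup.closure_eq (diagHom (F := F) hD).range]
  congr 1
  ext φ
  exact isDiagonalAut_iff hD

theorem closure_field :
    Subgroup.closure {φ : MulAut ↥(D.group F) | D.IsFieldAut φ} = (fieldHom (F := F) hD).range := by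
  rw [← Subgroup.closure_eq (fieldHom (F := F) hD).range]
  congr 1
  ext φ
  exact isFieldAut_iff hD

theorem permutes_diagHom (c : Fin D.rank → Fˣ) :
    Permutes (good_of_mem hD) (diagHom hD c) 1 :=
  permutes_diag _ (chainsOK_of_mem hD) ((isDiagonalAut_iff hD).2 ⟨c, rfl⟩)

theorem permutes_fieldHom (σ : F ≃+* F) :
    Permutes (good_of_mem hD) (fieldHom hD σ) 1 :=
  permutes_field _ ((isFieldAut_iff hD).2 ⟨σ, rfl⟩)

theorem exists_permutes (θ : MulAut ↥(D.group F)) :
    ∃ (x : ↥(D.group F)) (π : Equiv.Perm (Fin D.rank)),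
      Permutes (good_of_mem hD) (MulAut.conj x * θ) π := by
  have g := good_of_mem hD
  haveI := Fintype.ofFinite F
  haveI : CharP F (ringChar F) := ringChar.charP F
  haveI : Fact (ringChar F).Prime := ⟨CharP.char_is_prime F _⟩
  obtain ⟨x, θ', hθ', he⟩ := exists_fixUV g (hasComm_of_mem hD) (ringChar F) θ
  obtain ⟨π, a, b, h⟩ := hθ'.exists_simpleMap g (hasComm_of_mem hD)
  have e : MulAut.conj x⁻¹ * θ = θ' := by
    refine MulEquiv.ext fun y => ?_
    rw [MulAut.mul_apply, MulAut.conj_apply, he]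
    group
  exact ⟨x⁻¹, π, e ▸ ⟨a, b, h⟩⟩

theorem conj_permutes_eq_one {x : ↥(D.group F)} {π : Equiv.Perm (Fin D.rank)}
    (h : Permutes (good_of_mem hD) (MulAut.conj x) π) : x ∈ Hs (good_of_mem hD) F ∧ π = 1 := by
  have hx := mem_Hs_of_fixUV (good_of_mem hD) (hasComm_of_mem hD) h.fixUV
  exact ⟨hx, h.perm_unique (good_of_mem hD) (permutes_conj_Hs (good_of_mem hD) hx)⟩

theorem permutes_unique {θ : MulAut ↥(D.group F)} {x y : ↥(D.group F)}
    {π π' : Equiv.Perm (Fin D.rank)} (h : Permutes (good_of_mem hD) (MulAut.conj x * θ) π)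
    (h' : Permutes (good_of_mem hD) (MulAut.conj y * θ) π') : π = π' := by
  have hF : FixUV (good_of_mem hD) (MulAut.conj (y * x⁻¹)) := by
    have e : (MulAut.conj x * θ).symm.trans (MulAut.conj y * θ) = MulAut.conj (y * x⁻¹) := by
      show (MulAut.conj y * θ) * (MulAut.conj x * θ)⁻¹ = _
      rw [map_mul, map_inv]
      group
    rw [← e]
    exact (h'.fixUV (good_of_mem hD)).trans _ ((h.fixUV (good_of_mem hD)).symm _)
  have hx := mem_Hs_of_fixUV (good_of_mem hD) (hasComm_of_mem hD) hF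
  have h2 := (permutes_conj_Hs (good_of_mem hD) hx).trans (good_of_mem hD) h
  rw [one_mul] at h2
  refine h2.perm_unique (good_of_mem hD) ?_
  have e2 : (MulAut.conj x * θ).trans (MulAut.conj (y * x⁻¹)) = MulAut.conj y * θ := by
    show MulAut.conj (y * x⁻¹) * (MulAut.conj x * θ) = _
    rw [← mul_assoc, ← map_mul, inv_mul_cancel_right]
  rw [e2]
  exact h'

/-- The action of automorphisms on the nodes. -/
noncomputable def nodeHom : MulAut ↥(D.group F) →* Equiv.Perm (Fin D.rank) where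
  toFun θ := (exists_permutes hD θ).choose_spec.choose
  map_one' := permutes_unique hD (exists_permutes hD 1).choose_spec.choose_spec
    (x := _) (y := 1) (by
      rw [mul_one, map_one]
      have := permutes_diagHom hD (F := F) 1
      rwa [map_one] at this)
  map_mul' θ η := by
    have h1 := (exists_permutes hD θ).choose_spec.choose_spec
    have h2 := (exists_permutes hD η).choose_spec.choose_spec
    refine permutes_unique hD (exists_permutes hD (θ * η)).choose_spec.choose_spec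
      (y := (exists_permutes hD θ).choose * θ (exists_permutes hD η).choose) ?_
    have h3 := h1.trans (good_of_mem hD) h2
    have e : MulAut.conj ((exists_permutes hD θ).choose * θ (exists_permutes hD η).choose) * (θ * η) =
        MulAut.conj (exists_permutes hD θ).choose * θ *
          (MulAut.conj (exists_permutes hD η).choose * η) := by
      refine MulEquiv.ext fun y => ?_
      simp only [MulAut.mul_apply, MulAut.conj_apply, map_mul, map_inv, _root_.mul_inv_rev, mul_assoc]
    rw [e]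
    exact h3

theorem nodeHom_eq {θ : MulAut ↥(D.group F)} {x : ↥(D.group F)} {π : Equiv.Perm (Fin D.rank)}
    (h : Permutes (good_of_mem hD) (MulAut.conj x * θ) π) : nodeHom hD θ = π :=
  permutes_unique hD (exists_permutes hD θ).choose_spec.choose_spec h

theorem nodeHom_eq' {θ : MulAut ↥(D.group F)} {π : Equiv.Perm (Fin D.rank)}
    (h : Permutes (good_of_mem hD) θ π) : nodeHom hD θ = π :=
  nodeHom_eq hD (x := 1) (by rw [map_one, one_mul]; exact h)

theorem nodeHom_conj (x : ↥(D.group F)) : nodeHom hD (MulAut.conj x) = 1 :=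
  nodeHom_eq hD (x := x⁻¹) (by
    rw [← map_mul, inv_mul_cancel, map_one]
    have := permutes_diagHom hD (F := F) 1
    rwa [map_one] at this)

/-- Every automorphism is inner, diagonal, graph, field with its permutation. -/
theorem exists_factor (θ : MulAut ↥(D.group F)) :
    ∃ (x : ↥(D.group F)) (c : Fin D.rank → Fˣ) (γ : MulAut ↥(D.group F)) (σ : F ≃+* F),
      D.IsGraphAut γ ∧ Permutes (good_of_mem hD) γ (nodeHom hD θ) ∧
        θ = MulAut.conj x * diagHom hD c * γ * fieldHom hD σ := by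
  obtain ⟨x, π, h⟩ := exists_permutes hD θ
  obtain ⟨d, γ, f, hd, hγ, hf, -, hy⟩ :=
    FixUV.decompose (g := good_of_mem hD) (hD := hD) (h.fixUV (good_of_mem hD))
  obtain ⟨c, rfl⟩ := (isDiagonalAut_iff hD).1 hd
  obtain ⟨σ, rfl⟩ := (isFieldAut_iff hD).1 hf
  obtain ⟨π', -, hπ'⟩ := permutes_graph (good_of_mem hD) hγ
  have e : MulAut.conj x * θ = diagHom hD c * γ * fieldHom hD σ := MulEquiv.ext fun y => hy y
  have hπ : nodeHom hD θ = π' := by
    refine nodeHom_eq hD (x := x) ?_
    rw [e]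
    have := ((permutes_diagHom hD c).trans (good_of_mem hD) hπ').trans (good_of_mem hD)
      (permutes_fieldHom hD σ)
    rwa [one_mul, mul_one] at this
  refine ⟨x⁻¹, c, γ, σ, hγ, hπ ▸ hπ', ?_⟩
  rw [mul_assoc, mul_assoc, ← mul_assoc (diagHom hD c), ← e, ← mul_assoc, ← map_mul,
    inv_mul_cancel, map_one, one_mul]

theorem isDiagramSymmetry_nodeHom (θ : MulAut ↥(D.group F)) :
    D.IsDiagramSymmetry (nodeHom hD θ) := by
  obtain ⟨x, c, γ, σ, -, ⟨a, b, h⟩, -⟩ := exists_factor hD θ
  exact isDiagramSymmetry_of_simpleMap (good_of_mem hD) (diagOK_of_mem hD) h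

theorem graph_of_perm_one {γ : MulAut ↥(D.group F)} (hγ : D.IsGraphAut γ)
    (h : Permutes (good_of_mem hD) γ 1) : γ = 1 := by
  obtain ⟨π, -, hπ⟩ := graph_xs (good_of_mem hD) hγ
  obtain rfl : π = 1 :=
    Permutes.perm_unique (good_of_mem hD) ⟨_, _, graph_simpleMap (good_of_mem hD) hπ⟩ h
  exact aut_ext (good_of_mem hD)
    (fun i t => by rw [(hπ i t).1, Equiv.Perm.one_apply, graphExp_self, pow_one]; rfl)
    (fun i t => by rw [(hπ i t).2, Equiv.Perm.one_apply, graphExp_self, pow_one]; rfl)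

/-- The image of the diagonal automorphisms in `Out`. -/
noncomputable def Dbar : Subgroup (Cfsg.Out ↥(D.group F)) :=
  (diagHom (F := F) hD).range.map (QuotientGroup.mk' (Cfsg.Inn _))

/-- The image of the field automorphisms in `Out`. -/
noncomputable def Fbar : Subgroup (Cfsg.Out ↥(D.group F)) :=
  (fieldHom (F := F) hD).range.map (QuotientGroup.mk' (Cfsg.Inn _))

theorem mk_diag_field_inj {c c' : Fin D.rank → Fˣ} {σ σ' : F ≃+* F}
    (h : (QuotientGroup.mk (diagHom hD c * fieldHom hD σ) : Cfsg.Out ↥(D.group F)) =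
      QuotientGroup.mk (diagHom hD c' * fieldHom hD σ')) :
    σ = σ' ∧ c⁻¹ * c' ∈ (powMap (G := Fˣ) (cartanMat D)).range := by
  have g := good_of_mem hD
  set A := diagHom hD c * fieldHom hD σ with hA
  set B := diagHom hD c' * fieldHom hD σ' with hB
  obtain ⟨x, hx⟩ := mem_Inn.1 (QuotientGroup.eq.1 h)
  have e : B = A * MulAut.conj x := by rw [hx]; group
  have hpA : Permutes g A 1 := by
    have := (permutes_diagHom hD c).trans g (permutes_fieldHom hD σ)
    rwa [one_mul] at this
  have hpB : Permutes g B 1 := by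
    have := (permutes_diagHom hD c').trans g (permutes_fieldHom hD σ')
    rwa [one_mul] at this
  have hF : FixUV g (MulAut.conj x) := by
    rw [hx]
    exact (((hpA.fixUV g).symm g)).trans g (hpB.fixUV g)
  obtain ⟨d, hd⟩ := torus_xs g (mem_Hs_of_fixUV g (hasComm_of_mem hD) hF)
  have hv : ∀ i t, (c' i : F) * σ' t =
      (c i : F) * σ (((powMap (cartanMat D) d i : Fˣ) : F) * t) := by
    intro i t
    refine xs_inj g (r := g.sroot i) ?_
    have h1 := DFunLike.congr_fun e (xs g (g.sroot i) t)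
    rw [hB, hA, MulAut.mul_apply, MulAut.mul_apply, MulAut.mul_apply, fieldHom_xs, diagHom_pos, hd,
      fieldHom_xs, diagHom_pos] at h1
    exact h1
  by_cases hr : D.rank = 0
  · exact absurd hr (rank_pos_of_mem hD).ne'
  have i0 : Fin D.rank := ⟨0, Nat.pos_of_ne_zero hr⟩
  have hσ : σ = σ' := RingEquiv.ext fun t => by
    have h1 := hv i0 1
    have h2 := hv i0 t
    rw [map_one, mul_one, mul_one] at h1
    rw [h1, map_mul, mul_assoc] at h2
    exact (mul_left_cancel₀ (by simp) (mul_left_cancel₀ (Units.ne_zero _) h2)).symm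
  refine ⟨hσ, fun i => Units.map (σ : F →* F) (d i), ?_⟩
  funext i
  have h1 := hv i 1
  rw [map_one, mul_one, mul_one] at h1
  have h3 : powMap (cartanMat D) (fun j => Units.map (σ : F →* F) (d j)) i =
      Units.map (σ : F →* F) (powMap (cartanMat D) d i) := by
    simp only [powMap_apply, map_prod, map_zpow]
  rw [h3]
  refine Units.ext ?_
  rw [Pi.mul_apply, Pi.inv_apply, Units.val_mul, h1, ← mul_assoc, ← Units.val_mul, inv_mul_cancel,
    Units.val_one, one_mul]
  rfl

theorem mk_diagHom_eq_one_iff (c : Fin D.rank → Fˣ) :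
    (QuotientGroup.mk (diagHom hD c) : Cfsg.Out ↥(D.group F)) = 1 ↔
      c ∈ (powMap (G := Fˣ) (cartanMat D)).range := by
  constructor
  · intro h
    have h' := (mk_diag_field_inj hD (c := 1) (c' := c) (σ := 1) (σ' := 1)
      (by simp only [map_one, mul_one]; exact (QuotientGroup.mk_one _).trans h.symm)).2
    simpa using h'
  · rintro ⟨d, rfl⟩
    rw [QuotientGroup.eq_one_iff, mem_Inn]
    have g := good_of_mem hD
    refine ⟨⟨torHom D F d, g.diagonal_le_group (g.torHom_mem d)⟩,
      aut_ext g (fun i t => ?_) (fun i t => ?_)⟩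
    · rw [diagHom_pos]
      exact Subtype.ext (g.torHom_conj_xG d (g.sroot i).2 t)
    · rw [diagHom_neg]
      refine Subtype.ext ((g.torHom_conj_xG d (g.nroot (g.sroot i)).2 t).trans ?_)
      have e : ∀ k : Fin D.rank, D.cartan k (D.neg (D.simple i)) = - D.cartan k (D.simple i) := by
        intro k
        rw [g.cartan_eq_sum (g.neg_lt (g.simple_lt i.2)) k.2,
          g.cartan_eq_sum (g.simple_lt i.2) k.2, ← Finset.sum_neg_distrib]
        refine Finset.sum_congr rfl fun l hl => ?_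
        rw [g.co_neg (g.simple_lt i.2) (Finset.mem_range.1 hl), neg_mul]
      rw [coe_xs]
      congr 3
      simp only [powMap_apply, cartanMat, Matrix.of_apply, ← Finset.prod_inv_distrib, ← _root_.zpow_neg]
      exact Finset.prod_congr rfl fun k _ => by
        rw [show ((g.nroot (g.sroot i) : Fin D.nroots) : ℕ) = D.neg (D.simple i) from rfl, e]

theorem card_Dbar : Nat.card (Dbar (F := F) hD) * Nat.card (D.diagonalSubgroup F) =
    (Nat.card F - 1) ^ D.rank := by
  classical
  have g := good_of_mem hD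
  haveI := Fintype.ofFinite F
  let q : (Fin D.rank → Fˣ) →* Cfsg.Out ↥(D.group F) :=
    (QuotientGroup.mk' (Cfsg.Inn _)).comp (diagHom hD)
  have hq : q.ker = (powMap (G := Fˣ) (cartanMat D)).range := by
    ext c; exact mk_diagHom_eq_one_iff hD c
  have hk : (torHom D F).ker = (powMap (G := Fˣ) (cartanMat D)).ker := by
    ext c; rw [MonoidHom.mem_ker, MonoidHom.mem_ker, g.torHom_eq_one_iff]
  have hrange : Dbar (F := F) hD = q.range := by
    rw [Dbar, MonoidHom.map_range]
  have h1 := q.ker.card_mul_index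
  rw [Subgroup.index_ker, hq] at h1
  have h2 := (powMap (G := Fˣ) (cartanMat D)).ker.card_mul_index
  rw [Subgroup.index_ker] at h2
  have h3 := (torHom D F).ker.card_mul_index
  rw [Subgroup.index_ker, ← g.diagonal_eq_range, hk] at h3
  have hpos : 0 < Nat.card (powMap (G := Fˣ) (cartanMat D)).range := Nat.card_pos
  have hD' : Nat.card q.range = Nat.card (powMap (G := Fˣ) (cartanMat D)).ker :=
    Nat.eq_of_mul_eq_mul_left hpos (by rw [h1, mul_comm, h2])
  rw [hrange, hD', h3, Nat.card_pi, Finset.prod_const, Finset.card_univ, Fintype.card_fin,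
    Nat.card_units]

theorem card_Fbar : Nat.card (Fbar (F := F) hD) = Nat.card (F ≃+* F) := by
  let q : (F ≃+* F) →* Cfsg.Out ↥(D.group F) :=
    (QuotientGroup.mk' (Cfsg.Inn _)).comp (fieldHom hD)
  rw [show Fbar (F := F) hD = q.range by rw [Fbar, MonoidHom.map_range]]
  refine (Nat.card_congr (Equiv.ofInjective q fun σ σ' h => ?_)).symm
  exact (mk_diag_field_inj hD (c := 1) (c' := 1) (by simp only [map_one, one_mul]; exact h)).1

/-- The action of `Out` on the nodes. -/
noncomputable def outHom : Cfsg.Out ↥(D.group F) →* Equiv.Perm (Fin D.rank) :=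
  QuotientGroup.lift (Cfsg.Inn _) (nodeHom hD) fun φ hφ => by
    obtain ⟨x, rfl⟩ := mem_Inn.1 hφ
    exact nodeHom_conj hD x

theorem outHom_mk (θ : MulAut ↥(D.group F)) :
    outHom hD (QuotientGroup.mk θ) = nodeHom hD θ := rfl

theorem Dbar_normal : (Dbar (F := F) hD).Normal := by
  have g := good_of_mem hD
  have key : ∀ (θ : MulAut ↥(D.group F)) (c : Fin D.rank → Fˣ),
      ∃ c', θ * diagHom hD c * θ⁻¹ ∈ ({φ | ∃ x, MulAut.conj x * diagHom hD c' = φ} :
        Set (MulAut ↥(D.group F))) := by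
    intro θ c
    obtain ⟨x, c0, γ, σ, hγ, -, rfl⟩ := exists_factor hD θ
    obtain ⟨π, -, hπ⟩ := graph_xs g hγ
    let c1 : Fin D.rank → Fˣ := fun i => Units.map (σ : F →* F) (c i)
    let c2 : Fin D.rank → Fˣ :=
      fun j => c1 (π.symm j) ^ D.graphExp (ringChar F) (π.symm j) j
    have e1 : fieldHom hD σ * diagHom hD c = diagHom hD c1 * fieldHom hD σ := by
      refine aut_ext g (fun i t => ?_) (fun i t => ?_)
      · rw [MulAut.mul_apply, MulAut.mul_apply, diagHom_pos, fieldHom_xs, fieldHom_xs, diagHom_pos,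
          map_mul]; rfl
      · rw [MulAut.mul_apply, MulAut.mul_apply, diagHom_neg, fieldHom_xs, fieldHom_xs, diagHom_neg,
          map_mul]
        simp [c1]
    have e2 : γ * diagHom hD c1 = diagHom hD c2 * γ := by
      refine aut_ext g (fun i t => ?_) (fun i t => ?_)
      · rw [MulAut.mul_apply, MulAut.mul_apply, diagHom_pos, (hπ i _).1, (hπ i _).1, diagHom_pos]
        simp [c2, mul_pow]
      · rw [MulAut.mul_apply, MulAut.mul_apply, diagHom_neg, (hπ i _).2, (hπ i _).2, diagHom_neg]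
        simp [c2, mul_pow, inv_pow]
    have e3 : γ * fieldHom hD σ * diagHom hD c * (γ * fieldHom hD σ)⁻¹ = diagHom hD c2 := by
      rw [mul_assoc γ, e1, ← mul_assoc, e2]
      group
    set u := diagHom hD (c0 * c2 * c0⁻¹)
    have e4 : MulAut.conj x * diagHom hD c0 * γ * fieldHom hD σ * diagHom hD c *
        (MulAut.conj x * diagHom hD c0 * γ * fieldHom hD σ)⁻¹ =
        MulAut.conj x * u * (MulAut.conj x)⁻¹ := by
      simp only [u, map_mul, map_inv, ← e3]
      group
    refine ⟨c0 * c2 * c0⁻¹, x * u x⁻¹, ?_⟩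
    rw [e4]
    refine MulEquiv.ext fun y => ?_
    simp only [u, MulAut.mul_apply, MulAut.conj_apply, MulAut.inv_def, MulAut.conj_symm_apply,
      map_mul, map_inv, _root_.mul_inv_rev, mul_assoc, inv_inv]
  refine ⟨?_⟩
  rintro _ ⟨_, ⟨c, rfl⟩, rfl⟩ o
  obtain ⟨θ, rfl⟩ := QuotientGroup.mk'_surjective _ o
  obtain ⟨c', x, hx⟩ := key θ c
  refine ⟨diagHom hD c', ⟨c', rfl⟩, ?_⟩
  rw [← map_inv, ← map_mul, ← map_mul, ← hx, map_mul,
    show QuotientGroup.mk' (Cfsg.Inn _) (MulAut.conj x) = 1 from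
      (QuotientGroup.eq_one_iff _).2 ⟨x, rfl⟩, one_mul]

theorem Dbar_isMulCommutative : IsMulCommutative ↥(Dbar (F := F) hD) := by
  refine ⟨⟨?_⟩⟩
  rintro ⟨_, _, ⟨c, rfl⟩, rfl⟩ ⟨_, _, ⟨d, rfl⟩, rfl⟩
  refine Subtype.ext ?_
  show QuotientGroup.mk' _ _ * QuotientGroup.mk' _ _ = QuotientGroup.mk' _ _ * QuotientGroup.mk' _ _
  rw [← map_mul, ← map_mul, ← map_mul, ← map_mul, mul_comm c d]

theorem sup_eq_ker : Dbar (F := F) hD ⊔ Fbar hD = (outHom hD).ker := by
  refine le_antisymm (sup_le ?_ ?_) fun o ho => ?_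
  · rintro _ ⟨_, ⟨c, rfl⟩, rfl⟩
    exact nodeHom_eq' hD (permutes_diagHom hD c)
  · rintro _ ⟨_, ⟨σ, rfl⟩, rfl⟩
    exact nodeHom_eq' hD (permutes_fieldHom hD σ)
  · obtain ⟨θ, rfl⟩ := QuotientGroup.mk'_surjective _ o
    obtain ⟨x, c, γ, σ, hγ, hp, he⟩ := exists_factor hD θ
    rw [show nodeHom hD θ = 1 from ho] at hp
    rw [graph_of_perm_one hD hγ hp, mul_one] at he
    rw [he, map_mul, map_mul, show QuotientGroup.mk' (Cfsg.Inn _) (MulAut.conj x) = 1 from
      (QuotientGroup.eq_one_iff _).2 ⟨x, rfl⟩, one_mul]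
    exact mul_mem (Subgroup.mem_sup_left ⟨_, ⟨c, rfl⟩, rfl⟩)
      (Subgroup.mem_sup_right ⟨_, ⟨σ, rfl⟩, rfl⟩)

theorem card_ker_outHom :
    Nat.card (outHom (F := F) hD).ker = Nat.card (Dbar (F := F) hD) * Nat.card (Fbar (F := F) hD) := by
  haveI := Dbar_normal (F := F) hD
  rw [← sup_eq_ker, ← Nat.card_prod]
  refine (Nat.card_congr (Equiv.ofBijective
    (fun p : ↥(Dbar (F := F) hD) × ↥(Fbar (F := F) hD) =>
      (⟨p.1.1 * p.2.1, mul_mem (Subgroup.mem_sup_left p.1.2) (Subgroup.mem_sup_right p.2.2)⟩ :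
        ↥(Dbar (F := F) hD ⊔ Fbar hD))) ⟨?_, ?_⟩)).symm
  · rintro ⟨⟨a, a', ⟨c, rfl⟩, rfl⟩, ⟨b, b', ⟨σ, rfl⟩, rfl⟩⟩
      ⟨⟨u, u', ⟨c', rfl⟩, rfl⟩, ⟨v, v', ⟨σ', rfl⟩, rfl⟩⟩ h
    have h' := congrArg Subtype.val h
    simp only [← map_mul] at h'
    obtain ⟨rfl, -⟩ := mk_diag_field_inj hD h'
    rw [map_mul, map_mul] at h'
    exact Prod.ext (Subtype.ext (mul_right_cancel h')) rfl
  · rintro ⟨o, ho⟩
    rw [Subgroup.sup_eq_closure_mul] at *
    have ho' : o ∈ ((Dbar (F := F) hD ⊔ Fbar hD : Subgroup _) : Set _) := by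
      rw [Subgroup.sup_eq_closure_mul]; exact ho
    rw [Subgroup.normal_mul] at ho'
    obtain ⟨a, ha, b, hb, rfl⟩ := ho'
    exact ⟨⟨⟨a, ha⟩, ⟨b, hb⟩⟩, rfl⟩

theorem card_out : Nat.card (Cfsg.Out ↥(D.group F)) =
    Nat.card (Dbar (F := F) hD) * Nat.card (Fbar (F := F) hD) * Nat.card (outHom (F := F) hD).range := by
  rw [← card_ker_outHom, ← Subgroup.index_ker, Subgroup.card_mul_index]

/-- The permutations of nodes that occur are those of graph automorphisms. -/
theorem mem_range_outHom_iff {π : Equiv.Perm (Fin D.rank)} :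
    π ∈ (outHom (F := F) hD).range ↔
      ∃ γ : MulAut ↥(D.group F), D.IsGraphAut γ ∧ Permutes (good_of_mem hD) γ π := by
  constructor
  · rintro ⟨o, rfl⟩
    obtain ⟨θ, rfl⟩ := QuotientGroup.mk'_surjective _ o
    obtain ⟨-, -, γ, -, hγ, hp, -⟩ := exists_factor hD θ
    exact ⟨γ, hγ, hp⟩
  · rintro ⟨γ, -, hp⟩
    exact ⟨QuotientGroup.mk γ, nodeHom_eq' hD hp⟩

end CfsgLib.KnownA.Chev
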