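import Cfsg.Agent.Lib.KnownA.Chev.OutGroup
import Cfsg.Agent.Lib.KnownA.Chev.GraphD4
import Cfsg.Agent.Lib.Chev.SigmaIsoAut
import Cfsg.Agent.Lib.Chev.OrderTables

/-!
The symmetries of the seven diagrams and the orders of the outer automorphism groups.
-/

set_option autoImplicit false
set_option maxRecDepth 10000

namespace CfsgLib.KnownA.Chev

open Cfsg.Lie CfsgLib.Chev CfsgLib.KnownA.ChevChar

/-! ### Automorphisms of a finite field -/

section Field

variable {F : Type*} [Field F] [Fintype F] {p f : ℕ} [Fact p.Prime] [CharP F p]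

theorem exists_ringAut_hom (hF : Fintype.card F = p ^ f) :
    Nat.card (F ≃+* F) = f := by
  letI : Algebra (ZMod p) F := ZMod.algebra F p
  let e : (F ≃ₐ[ZMod p] F) → (F ≃+* F) := fun a => a.toRingEquiv
  have hbij : Function.Bijective e := by
    refine ⟨fun a b h => AlgEquiv.ext fun x => DFunLike.congr_fun h x, fun σ => ?_⟩
    refine ⟨AlgEquiv.ofRingEquiv (f := σ) fun x => ?_, RingEquiv.ext fun x => rfl⟩
    exact DFunLike.congr_fun
      (Subsingleton.elim ((σ : F →+* F).comp (algebraMap (ZMod p) F)) (algebraMap (ZMod p) F)) x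
  rw [← Nat.card_eq_of_bijective e hbij, IsGalois.card_aut_eq_finrank]
  have h := Module.card_eq_pow_finrank (K := ZMod p) (V := F)
  rw [ZMod.card, hF] at h
  exact (Nat.pow_right_injective (Fact.out : p.Prime).two_le h).symm

end Field

theorem isCyclic_ringAut {F : Type*} [Field F] [Finite F] (p : ℕ) [Fact p.Prime] [CharP F p] :
    IsCyclic (F ≃+* F) := by
  letI : Algebra (ZMod p) F := ZMod.algebra F p
  let e : (F ≃ₐ[ZMod p] F) →* (F ≃+* F) :=
    { toFun := fun a => a.toRingEquiv, map_one' := rfl, map_mul' := fun a b => rfl }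
  refine isCyclic_of_surjective e fun σ => ?_
  refine ⟨AlgEquiv.ofRingEquiv (f := σ) fun x => ?_, RingEquiv.ext fun x => rfl⟩
  exact DFunLike.congr_fun
    (Subsingleton.elim ((σ : F →+* F).comp (algebraMap (ZMod p) F)) (algebraMap (ZMod p) F)) x


/-! ### Symmetries of the diagrams -/

/-- The partial symmetries of length `k`. -/
def exts (D : ChevalleyDatum) : ℕ → List (List ℕ)
  | 0 => [[]]
  | k + 1 => (exts D k).flatMap fun L =>
      ((List.range D.rank).filter fun v =>
        !L.contains v && (List.range k).all fun l =>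
          decide (D.bonds (L.getD l 0) v = D.bonds l k)).map fun v => L ++ [v]

theorem mem_exts {D : ChevalleyDatum} {π : Equiv.Perm (Fin D.rank)} (hπ : D.IsDiagramSymmetry π) :
    List.ofFn (fun i => (π i : ℕ)) ∈ exts D D.rank := by
  suffices h : ∀ k ≤ D.rank, (List.ofFn fun i => (π i : ℕ)).take k ∈ exts D k by
    have h' := h D.rank le_rfl
    rwa [List.take_of_length_le (by simp)] at h'
  intro k
  induction k with
  | zero => intro _; simp [exts]
  | succ k ih =>
    intro hk
    simp only [exts, List.mem_flatMap, List.mem_map, List.mem_filter, List.mem_range]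
    refine ⟨_, ih (by omega), (π ⟨k, hk⟩ : ℕ), ⟨(π ⟨k, hk⟩).2, ?_⟩, ?_⟩
    · simp only [Bool.and_eq_true, Bool.not_eq_true', List.all_eq_true, List.mem_range,
        decide_eq_true_eq]
      refine ⟨?_, fun l hl => ?_⟩
      · rw [← Bool.not_eq_true, List.contains_iff_mem, List.mem_take_iff_getElem]
        rintro ⟨l, hl, he⟩
        simp only [List.getElem_ofFn] at he
        have := congrArg Fin.val (π.injective (Fin.ext he))
        simp only [List.length_ofFn] at hl
        simp at this
        omega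
      · have h2 := hπ ⟨l, by omega⟩ ⟨k, hk⟩ (by simp; omega)
        rw [List.getD_eq_getElem _ _ (by simp; omega), List.getElem_take, List.getElem_ofFn]
        exact h2
    · rw [List.take_succ_eq_append_getElem (by simpa using hk), List.getElem_ofFn]

theorem card_le_exts {D : ChevalleyDatum} {K : Subgroup (Equiv.Perm (Fin D.rank))}
    (hK : ∀ π ∈ K, D.IsDiagramSymmetry π) : Nat.card K ≤ (exts D D.rank).length := by
  classical
  have hinj : Function.Injective fun π : ↥K => List.ofFn fun i => ((π.1 i : Fin D.rank) : ℕ) :=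
    fun a b h => Subtype.ext (Equiv.ext fun i => Fin.ext (congrFun (List.ofFn_injective h) i))
  calc Nat.card K = (Finset.univ.image
        fun π : ↥K => List.ofFn fun i => ((π.1 i : Fin D.rank) : ℕ)).card := by
          rw [Finset.card_image_of_injective _ hinj, Finset.card_univ, Nat.card_eq_fintype_card]
    _ ≤ (exts D D.rank).toFinset.card := Finset.card_le_card fun x hx => by
          simp only [Finset.mem_image, Finset.mem_univ, true_and] at hx
          obtain ⟨π, rfl⟩ := hx
          exact List.mem_toFinset.2 (mem_exts (hK π.1 π.2))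
    _ ≤ _ := List.toFinset_card_le _

theorem exts_G2 : exts chevG2 chevG2.rank = [[0, 1], [1, 0]] := by decide +kernel
theorem exts_B2 : exts chevB2 chevB2.rank = [[0, 1], [1, 0]] := by decide +kernel
theorem exts_F4 : exts chevF4 chevF4.rank = [[0, 1, 2, 3], [3, 2, 1, 0]] := by decide +kernel
theorem exts_D4 : (exts chevD4 chevD4.rank).length = 6 := by decide +kernel
theorem exts_E6 : (exts chevE6 chevE6.rank).length = 2 := by decide +kernel
theorem exts_E7 : (exts chevE7 chevE7.rank).length = 1 := by decide +kernel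
theorem exts_E8 : (exts chevE8 chevE8.rank).length = 1 := by decide +kernel

variable {D : ChevalleyDatum} {F : Type*} [Field F]

theorem card_range_le [Finite F] (hD : D ∈ [chevG2, chevB2, chevD4, chevF4, chevE6, chevE7, chevE8]) :
    Nat.card (outHom (F := F) hD).range ≤ (exts D D.rank).length := by
  refine card_le_exts fun π hπ => ?_
  obtain ⟨o, rfl⟩ := hπ
  obtain ⟨θ, rfl⟩ := QuotientGroup.mk'_surjective _ o
  exact isDiagramSymmetry_nodeHom hD θ

/-- A list of images gives an element of the range. -/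
theorem exists_mem_range [Finite F] (hD : D ∈ [chevG2, chevB2, chevD4, chevF4, chevE6, chevE7, chevE8])
    (v : Fin D.rank → Fin D.rank) (e : Fin D.rank → ℕ) (hv : Function.Injective v)
    (α : MulAut ↥(D.group F))
    (hα : ∀ (x : ↥(D.group F)) (i : Fin D.rank) (t : F),
      (((x : GL D.Idx F) : Matrix D.Idx D.Idx F) = D.x F (D.simple i) t →
        ((α x : GL D.Idx F) : Matrix D.Idx D.Idx F) = D.x F (D.simple (v i)) (t ^ e i)) ∧
      (((x : GL D.Idx F) : Matrix D.Idx D.Idx F) = D.x F (D.neg (D.simple i)) t →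
        ((α x : GL D.Idx F) : Matrix D.Idx D.Idx F) = D.x F (D.neg (D.simple (v i))) (t ^ e i))) :
    ∃ π ∈ (outHom (F := F) hD).range, ∀ i, π i = v i := by
  have g := good_of_mem hD
  let π : Equiv.Perm (Fin D.rank) := Equiv.ofBijective v ⟨hv, Finite.injective_iff_surjective.1 hv⟩
  have hp : Permutes g α π := by
    refine ⟨fun i t => t ^ e i, fun i t => t ^ e i, simpleMap_of_xs g (fun i t => ?_) (fun i t => ?_)⟩
    · exact Subtype.ext (g.eq_xG ((hα (xs g (g.sroot i) t) i t).1 rfl))
    · exact Subtype.ext (g.eq_xG ((hα (xs g (g.nroot (g.sroot i)) t) i t).2 rfl))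
  exact ⟨π, ⟨QuotientGroup.mk α, nodeHom_eq' hD hp⟩, fun i => rfl⟩

theorem two_le_card_range [Finite F] (hD : D ∈ [chevG2, chevB2, chevD4, chevF4, chevE6, chevE7, chevE8])
    {π : Equiv.Perm (Fin D.rank)} (hπ : π ∈ (outHom (F := F) hD).range) {i : Fin D.rank}
    (hi : π i ≠ i) : 2 ≤ Nat.card (outHom (F := F) hD).range := by
  haveI : Nontrivial ↥(outHom (F := F) hD).range :=
    ⟨⟨π, hπ⟩, 1, fun h => hi (by rw [show π = 1 from congrArg Subtype.val h]; rfl)⟩
  exact Finite.one_lt_card

theorem card_range_eq_one_of_bound [Finite F]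
    (hD : D ∈ [chevG2, chevB2, chevD4, chevF4, chevE6, chevE7, chevE8])
    (h : ∀ π ∈ (outHom (F := F) hD).range, π = 1) : Nat.card (outHom (F := F) hD).range = 1 := by
  rw [Subgroup.card_eq_one, eq_bot_iff]
  exact fun π hπ => Subgroup.mem_bot.2 (h π hπ)

/-- An exchange of lengths fixes the characteristic. -/
theorem ringChar_of_range [Finite F] (hD : D ∈ [chevG2, chevB2, chevD4, chevF4, chevE6, chevE7, chevE8])
    {π : Equiv.Perm (Fin D.rank)} (hπ : π ∈ (outHom (F := F) hD).range) {i j : Fin D.rank} {k : ℕ}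
    (hk : k = 2 ∨ k = 3) (hA : D.cartan i (D.simple j) = -1)
    (hA' : D.cartan (π i) (D.simple (π j)) = -(k : ℤ)) (hG : k = 3 → (i : ℕ) = 1 ∧ (j : ℕ) = 0) :
    ringChar F = k := by
  obtain ⟨γ, hγ, hp⟩ := (mem_range_outHom_iff hD).1 hπ
  obtain ⟨π', -, hπ'⟩ := graph_xs (good_of_mem hD) hγ
  obtain rfl : π' = π :=
    Permutes.perm_unique (good_of_mem hD) ⟨_, _, graph_simpleMap (good_of_mem hD) hπ'⟩ hp
  exact ringChar_of_exchanged (good_of_mem hD) hD (graph_simpleMap (good_of_mem hD) hπ')
    (fun i => one_pow _) hk hA hA' hG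

theorem card_out_eq [Fintype F] {p f : ℕ} [Fact p.Prime] [CharP F p] (hF : Fintype.card F = p ^ f)
    (hD : D ∈ [chevG2, chevB2, chevD4, chevF4, chevE6, chevE7, chevE8]) {d : ℕ}
    (hd : d * Nat.card (D.diagonalSubgroup F) = (Fintype.card F - 1) ^ D.rank) :
    Nat.card (Cfsg.Out ↥(D.group F)) = d * f * Nat.card (outHom (F := F) hD).range := by
  have h := card_Dbar (F := F) hD
  rw [Nat.card_eq_fintype_card (α := F), ← hd] at h
  rw [card_out hD, Nat.eq_of_mul_eq_mul_right Nat.card_pos h, card_Fbar, exists_ringAut_hom hF]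

theorem perm_eq_one_of_exts {π : Equiv.Perm (Fin D.rank)} (h : ∀ i : Fin D.rank, (π i : ℕ) = i) :
    π = 1 := Equiv.ext fun i => Fin.ext (h i)

theorem card_range_G2 [Fintype F] {p : ℕ} [Fact p.Prime] [CharP F p]
    (hD : chevG2 ∈ [chevG2, chevB2, chevD4, chevF4, chevE6, chevE7, chevE8]) :
    Nat.card (outHom (F := F) hD).range = if p = 3 then 2 else 1 := by
  have hle : Nat.card (outHom (F := F) hD).range ≤ 2 := by
    refine (card_range_le hD).trans ?_
    rw [exts_G2]; rfl
  split
  · subst p
    refine le_antisymm hle ?_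
    have hperf : ∀ x : F, ∃ y : F, y ^ 3 = x := fun x =>
      ⟨(frobeniusEquiv F 3).symm x, frobenius_apply_frobeniusEquiv_symm F 3 x⟩
    obtain ⟨α, hα⟩ := graphAut3 hperf
    let v : Fin chevG2.rank → Fin chevG2.rank := fun i => ⟨1 - i, by
      show 1 - (i : ℕ) < 2
      omega⟩
    have hs : chevG2.simple 0 = g2a ∧ chevG2.simple 1 = g2b ∧ chevG2.neg (chevG2.simple 0) = g2ma ∧
        chevG2.neg (chevG2.simple 1) = g2mb := by decide +kernel
    obtain ⟨π, hπ, hv⟩ := exists_mem_range hD v (fun i => if (i : ℕ) = 0 then 3 else 1)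
      (fun a b h => by
        have := congrArg Fin.val h
        have ha : (a : ℕ) < 2 := a.2
        have hb : (b : ℕ) < 2 := b.2
        exact Fin.ext (by simp only [v] at this; omega)) α (fun x i t => by
        obtain ⟨h1, h2, h3, h4⟩ := hα x t
        obtain ⟨s0, s1, s2, s3⟩ := hs
        have hi : (i : ℕ) = 0 ∨ (i : ℕ) = 1 := by
          have : (i : ℕ) < 2 := i.2
          omega
        rcases hi with hi | hi
        · simp only [v, hi, s0, s1, s2, s3, if_pos, Nat.sub_zero]
          exact ⟨h1, h3⟩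
        · simp only [v, hi, s0, s1, s2, s3, Nat.sub_self, one_ne_zero, if_false, pow_one]
          exact ⟨h2, h4⟩)
    refine two_le_card_range hD hπ (i := ⟨0, by decide +kernel⟩) ?_
    rw [hv]
    simp [v]
  · refine card_range_eq_one_of_bound hD fun π hπ => ?_
    obtain ⟨γ, hγ, hp⟩ := (mem_range_outHom_iff hD).1 hπ
    have hsym : chevG2.IsDiagramSymmetry π := by
      obtain ⟨a, b, h⟩ := hp
      exact isDiagramSymmetry_of_simpleMap (good_of_mem hD) (diagOK_of_mem hD) h
    have hm := mem_exts hsym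
    rw [exts_G2] at hm
    rcases List.mem_cons.1 hm with hm | hm
    · refine perm_eq_one_of_exts fun i => ?_
      have := congrArg (fun L => L.getD (i : ℕ) 0) hm
      simp only [List.getD_eq_getElem?_getD, List.getElem?_ofFn, Fin.is_lt, dif_pos,
        Option.getD_some] at this
      rw [this]
      have hi : (i : ℕ) < 2 := i.2
      rcases Nat.lt_succ_iff_lt_or_eq.1 hi with h | h
      · simp [show (i : ℕ) = 0 by omega]
      · simp [h]
    · exfalso
      rw [List.mem_singleton] at hm
      have e : ∀ (k : ℕ) (hk : k < chevG2.rank), (π ⟨k, hk⟩ : ℕ) = ([1, 0] : List ℕ).getD k 0 := by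
        intro k hk
        have := congrArg (fun L => L.getD k 0) hm
        simpa [List.getD_eq_getElem?_getD, List.getElem?_ofFn, hk] using this
      have h0 := e 0 (by decide +kernel)
      have h1 := e 1 (by decide +kernel)
      have h3 := ringChar_of_range hD hπ (i := ⟨1, by decide +kernel⟩) (j := ⟨0, by decide +kernel⟩)
        (k := 3) (Or.inr rfl) (by decide +kernel) (by rw [h0, h1]; decide +kernel) (fun _ => ⟨rfl, rfl⟩)
      rw [ringChar.eq F p] at h3
      exact absurd h3 ‹_›

theorem card_range_F4 [Fintype F] {p : ℕ} [Fact p.Prime] [CharP F p]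
    (hD : chevF4 ∈ [chevG2, chevB2, chevD4, chevF4, chevE6, chevE7, chevE8]) :
    Nat.card (outHom (F := F) hD).range = Nat.gcd 2 p := by
  by_cases hp2 : p = 2
  · subst hp2
    refine le_antisymm ((card_range_le hD).trans (by rw [exts_F4]; rfl)) ?_
    have hperf : ∀ x : F, ∃ y : F, y ^ 2 = x := fun x =>
      ⟨(frobeniusEquiv F 2).symm x, frobenius_apply_frobeniusEquiv_symm F 2 x⟩
    obtain ⟨α, hα⟩ := graphAut2 hperf (chevF4, [(3, 2), (2, 2), (1, 1), (0, 1)]) (by simp)
    let v : Fin chevF4.rank → Fin chevF4.rank := fun i => ⟨3 - i, by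
      show 3 - (i : ℕ) < 4
      omega⟩
    have hv' : ∀ i : Fin chevF4.rank,
        (([(3, 2), (2, 2), (1, 1), (0, 1)] : List (ℕ × ℕ)).getD i (0, 1)).1 = (v i : ℕ) := by
      decide +kernel
    obtain ⟨π, hπ, hv⟩ := exists_mem_range hD v
      (fun i => (([(3, 2), (2, 2), (1, 1), (0, 1)] : List (ℕ × ℕ)).getD i (0, 1)).2)
      (by decide +kernel) α (fun x i t => by
        have := hα x i t i.2
        simp only [hv'] at this
        exact this)
    refine two_le_card_range hD hπ (i := ⟨0, by decide +kernel⟩) ?_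
    rw [hv]
    simp [v]
  · rw [Nat.Coprime.gcd_eq_one ((Nat.coprime_primes Nat.prime_two Fact.out).2 (Ne.symm hp2))]
    refine card_range_eq_one_of_bound hD fun π hπ => ?_
    obtain ⟨γ, hγ, hp⟩ := (mem_range_outHom_iff hD).1 hπ
    have hsym : chevF4.IsDiagramSymmetry π := by
      obtain ⟨a, b, h⟩ := hp
      exact isDiagramSymmetry_of_simpleMap (good_of_mem hD) (diagOK_of_mem hD) h
    have hm := mem_exts hsym
    rw [exts_F4, List.mem_cons, List.mem_singleton] at hm
    have hget : ∀ L : List ℕ, List.ofFn (fun i => (π i : ℕ)) = L →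
        ∀ (k : ℕ) (hk : k < chevF4.rank), (π ⟨k, hk⟩ : ℕ) = L.getD k 0 := by
      intro L hL k hk
      have := congrArg (fun M => M.getD k 0) hL
      simpa [List.getD_eq_getElem?_getD, List.getElem?_ofFn, hk] using this
    rcases hm with hm | hm
    · refine perm_eq_one_of_exts fun i => ?_
      rw [hget _ hm i i.2]
      exact (show ∀ i : Fin chevF4.rank, ([0, 1, 2, 3] : List ℕ).getD i 0 = i by decide +kernel) i
    · exfalso
      have h3 := ringChar_of_range hD hπ (i := ⟨2, by decide +kernel⟩) (j := ⟨1, by decide +kernel⟩)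
        (k := 2) (Or.inl rfl) (by decide +kernel)
        (by rw [hget _ hm 2 (by decide +kernel), hget _ hm 1 (by decide +kernel)]; decide +kernel)
        (fun h => absurd h (by omega))
      rw [ringChar.eq F p] at h3
      exact hp2 h3

theorem card_range_E6 [Finite F]
    (hD : chevE6 ∈ [chevG2, chevB2, chevD4, chevF4, chevE6, chevE7, chevE8]) :
    Nat.card (outHom (F := F) hD).range = 2 := by
  refine le_antisymm ((card_range_le hD).trans exts_E6.le) ?_
  obtain ⟨α, hα⟩ := exists_graph_aut (F := F) goodE6 checksE6 structChecksE6 rhoE6_ok rhoE6_signed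
    (by decide +kernel)
  have hlt : ∀ i : Fin chevE6.rank, rhoE6.pi.getD i 0 < chevE6.rank := by decide +kernel
  let v : Fin chevE6.rank → Fin chevE6.rank := fun i => ⟨_, hlt i⟩
  have hinj : ∀ a b : Fin chevE6.rank, rhoE6.pi.getD a 0 = rhoE6.pi.getD b 0 → a = b := by
    decide +kernel
  obtain ⟨π, hπ, hv⟩ := exists_mem_range hD v (fun _ => 1)
    (fun a b h => hinj a b (congrArg Fin.val h)) α (fun x i t => by
    have := hα x i t i.2
    simpa only [pow_one] using this)
  refine two_le_card_range hD hπ (i := ⟨0, by decide +kernel⟩) ?_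
  rw [hv]
  refine fun h => absurd (congrArg Fin.val h) ?_
  show ¬ rhoE6.pi.getD 0 0 = 0
  decide +kernel

theorem noncomm_range_D4 [Finite F]
    (hD : chevD4 ∈ [chevG2, chevB2, chevD4, chevF4, chevE6, chevE7, chevE8]) :
    Nat.card (outHom (F := F) hD).range = 6 ∧
      ∃ a ∈ (outHom (F := F) hD).range, ∃ b ∈ (outHom (F := F) hD).range, a * b ≠ b * a := by
  obtain ⟨α, hα⟩ := exists_graph_aut (F := F) goodD4 checksD4 structChecksD4 rhoD4_ok rhoD4_signed
    (by decide +kernel)
  obtain ⟨β, hβ⟩ := exists_transposition_D4 (F := F)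
  have hl1 : ∀ i : Fin chevD4.rank, rhoD4.pi.getD i 0 < chevD4.rank := by decide +kernel
  have hl2 : ∀ i : Fin chevD4.rank, ([2, 1, 0, 3] : List ℕ).getD i 0 < chevD4.rank := by decide +kernel
  obtain ⟨a, ha, hva⟩ := exists_mem_range hD (fun i => ⟨_, hl1 i⟩) (fun _ => 1)
    (fun a b h => (show ∀ a b : Fin chevD4.rank, rhoD4.pi.getD a 0 = rhoD4.pi.getD b 0 → a = b by
      decide +kernel) a b (congrArg Fin.val h)) α
    (fun x i t => by simpa only [pow_one] using hα x i t i.2)
  obtain ⟨b, hb, hvb⟩ := exists_mem_range hD (fun i => ⟨_, hl2 i⟩) (fun _ => 1)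
    (fun a b h => (show ∀ a b : Fin chevD4.rank,
      ([2, 1, 0, 3] : List ℕ).getD a 0 = ([2, 1, 0, 3] : List ℕ).getD b 0 → a = b by
      decide +kernel) a b (congrArg Fin.val h)) β
    (fun x i t => by simpa only [pow_one] using hβ x i t i.2)
  have hne : a * b ≠ b * a := fun h => by
    have := congrArg Fin.val (DFunLike.congr_fun h (⟨0, by decide +kernel⟩ : Fin chevD4.rank))
    simp only [Equiv.Perm.mul_apply, hva, hvb] at this
    revert this
    decide +kernel
  refine ⟨le_antisymm ((card_range_le hD).trans exts_D4.le) ?_, a, ha, b, hb, hne⟩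
  by_contra hlt
  set K := (outHom (F := F) hD).range
  have ha2 : a ≠ 1 := fun h => hne (by rw [h, one_mul, mul_one])
  have ha3 : a ^ 3 = 1 := by
    refine Equiv.ext fun i => Fin.ext ?_
    simp only [pow_succ, pow_zero, one_mul, Equiv.Perm.mul_apply, hva, Equiv.Perm.one_apply]
    revert i
    decide +kernel
  have hb2 : b ^ 2 = 1 := by
    refine Equiv.ext fun i => Fin.ext ?_
    simp only [pow_succ, pow_zero, one_mul, Equiv.Perm.mul_apply, hvb, Equiv.Perm.one_apply]
    revert i
    decide +kernel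
  have hb1 : b ≠ 1 := fun h => hne (by rw [h, one_mul, mul_one])
  have h3 : 3 ∣ Nat.card K := by
    have := orderOf_dvd_natCard (⟨a, ha⟩ : ↥K)
    rwa [show orderOf (⟨a, ha⟩ : ↥K) = orderOf a by exact Subgroup.orderOf_mk a ha,
      orderOf_eq_prime ha3 ha2] at this
  have h2 : 2 ∣ Nat.card K := by
    have := orderOf_dvd_natCard (⟨b, hb⟩ : ↥K)
    rwa [show orderOf (⟨b, hb⟩ : ↥K) = orderOf b by exact Subgroup.orderOf_mk b hb,
      orderOf_eq_prime hb2 hb1] at this
  have : 0 < Nat.card K := Nat.card_pos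
  omega

theorem range_le_one [Finite F] (hD : D ∈ [chevG2, chevB2, chevD4, chevF4, chevE6, chevE7, chevE8])
    (h : (exts D D.rank).length = 1) : Nat.card (outHom (F := F) hD).range = 1 :=
  le_antisymm ((card_range_le hD).trans h.le) Nat.card_pos

/-- The shape of `Out`. -/
theorem range_cases [Finite F] (hD : D ∈ [chevG2, chevB2, chevD4, chevF4, chevE6, chevE7, chevE8]) :
    Nat.card (outHom (F := F) hD).range = 1 ∨ Nat.card (outHom (F := F) hD).range = 2 ∨
      (Nat.card (outHom (F := F) hD).range = 6 ∧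
        ∃ a ∈ (outHom (F := F) hD).range, ∃ b ∈ (outHom (F := F) hD).range, a * b ≠ b * a) := by
  have key : (exts D D.rank).length ≤ 2 ∨ D = chevD4 := by
    have h := hD
    simp only [List.mem_cons, List.not_mem_nil, or_false] at h
    rcases h with rfl | rfl | rfl | rfl | rfl | rfl | rfl
    · left; rw [exts_G2]; rfl
    · left; rw [exts_B2]; rfl
    · right; rfl
    · left; rw [exts_F4]; rfl
    · left; rw [exts_E6]
    · left; rw [exts_E7]; omega
    · left; rw [exts_E8]; omega
  rcases key with h | rfl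
  · have h1 := (card_range_le (F := F) hD).trans h
    have h0 : 0 < Nat.card (outHom (F := F) hD).range := Nat.card_pos
    omega
  · exact Or.inr (Or.inr (noncomm_range_D4 hD))

end CfsgLib.KnownA.Chev
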