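import Cfsg.Agent.Lib.KnownA.Chev.Fix
import Cfsg.Agent.Lib.Chev.Parabolic

/-!
An automorphism fixing `U` and `V` permutes the fundamental root subgroups of both signs.
-/

set_option autoImplicit false

namespace CfsgLib.KnownA.Chev

open Cfsg.Lie CfsgLib.Chev CfsgLib.KnownA.ChevChar

variable {D : ChevalleyDatum} {F : Type*} [Field F]

section

variable (g : Good D)
include g

/-- The minimal parabolic subgroup of the node `i`. -/
noncomputable def Pm (hc : HasComm D) (F : Type*) [Field F] (i : Fin D.rank) :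
    Subgroup ↥(D.group F) :=
  (g.bnPair hc).parabolic {ns g (g.sroot i) 1}

theorem ns_mem_bnS (i : Fin D.rank) : ns g (g.sroot i) (1 : Fˣ) ∈ g.bnS F :=
  g.mem_bnS.2 ⟨i, rfl⟩

theorem exists_bnS {s : ↥(D.group F)} (hs : s ∈ g.bnS F) : ∃ i, s = ns g (g.sroot i) 1 := by
  obtain ⟨i, hi⟩ := g.mem_bnS.1 hs
  exact ⟨i, Subtype.ext hi⟩

theorem ns_inj {i j : Fin D.rank} (h : ns g (g.sroot i) (1 : Fˣ) = ns g (g.sroot j) 1) : i = j := by
  have h1 : (g.nI i : GL D.Idx F) = g.nI j := congrArg Subtype.val h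
  have h2 := g.acts_unique (g.acts_nI (F := F) i) (h1 ▸ g.acts_nI j)
  exact g.exchangeData.inj (Subtype.ext h2)

theorem Bs_le_Pm (hc : HasComm D) (i : Fin D.rank) : Bs g F ≤ Pm g hc F i :=
  BN.B_le_parabolic (g.bnPair hc) _

theorem ns_mem_Pm (hc : HasComm D) (i : Fin D.rank) : ns g (g.sroot i) 1 ∈ Pm g hc F i :=
  BN.mem_parabolic_of_mem (g.bnPair hc) rfl

theorem ns_mem_Pm_iff (hc : HasComm D) (i j : Fin D.rank) :
    ns g (g.sroot j) 1 ∈ Pm g hc F i ↔ j = i := by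
  rw [Pm, BN.mem_parabolic_iff_mem (g.bnPair hc)
    (Set.singleton_subset_iff.2 (ns_mem_bnS g i)) (ns_mem_bnS g j), Set.mem_singleton_iff]
  exact ⟨ns_inj g, fun h => h ▸ rfl⟩

theorem xs_neg_mem_Pm (hc : HasComm D) (i : Fin D.rank) (t : F) :
    xs g (g.nroot (g.sroot i)) t ∈ Pm g hc F i := by
  obtain ⟨k, hk⟩ := exists_ns_conj g i (1 : Fˣ)
  have h := hk (((k⁻¹ : Fˣ) : F) * t)
  rw [← mul_assoc, ← Units.val_mul, mul_inv_cancel, Units.val_one, one_mul] at h
  rw [← h]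
  exact mul_mem (mul_mem (ns_mem_Pm g hc i)
    (Bs_le_Pm g hc i (Us_le_Bs g (xs_mem_Us g (g.sroot_pos i) _)))) (inv_mem (ns_mem_Pm g hc i))

/-- `P_i ∩ V = X_{-i}`. -/
theorem Pm_inf_Vs (hc : HasComm D) (i : Fin D.rank) {x : ↥(D.group F)} (hP : x ∈ Pm g hc F i)
    (hV : x ∈ Vs g F) : ∃ t : F, x = xs g (g.nroot (g.sroot i)) t := by
  obtain ⟨M, hM⟩ := g.exists_minimal_parabolic (F := F) hc i
  have hle : Pm g hc F i ≤ M.subgroupOf (D.group F) := by
    refine BN.parabolic_le (g.bnPair hc) (fun y hy => ?_) ?_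
    · show (y : GL D.Idx F) ∈ (M : Set (GL D.Idx F))
      rw [hM]; exact Or.inl hy
    · rintro y rfl
      show (g.nI i : GL D.Idx F) ∈ (M : Set (GL D.Idx F))
      rw [hM]
      exact Or.inr (DoubleCoset.mem_doubleCoset_self _ _ _)
  have hx : (x : GL D.Idx F) ∈ (M : Set (GL D.Idx F)) := hle hP
  rw [hM] at hx
  rcases hx with hx | hx
  · exact ⟨0, by rw [xs_zero]; exact Bs_inf_Vs g hx hV⟩
  obtain ⟨b₁, hb₁, b₂, hb₂, he⟩ := DoubleCoset.mem_doubleCoset.1 hx
  obtain ⟨u, hu, t, h, hh, he2⟩ := g.borel_decomp hc (i := i) hb₂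
  have hbr : ∃ b : ↥(D.group F), b ∈ Bs g F ∧ ∃ s : F, x = b * ns g (g.sroot i) 1 * xs g (g.sroot i) s := by
    have hth : h⁻¹ * g.xG (D.simple i) t * h ∈ D.posUnipotent F := by
      have := (Subgroup.mem_normalizer_iff.1 (g.diagonal_le_normalizer_pos (inv_mem hh)) _).1
        (g.xG_mem_posUnipotent ((g.isPosRoot_iff _).2 ⟨g.simple_pos i.2, g.simple_lt i.2⟩) t)
      simpa using this
    obtain ⟨c, hc1⟩ := g.diagonal_conj_xG (inv_mem hh) (g.simple_lt i.2) t
    rw [inv_inv] at hc1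
    have hn1 : g.nI i * u * (g.nI i)⁻¹ ∈ D.borelSubgroup F :=
      Subgroup.mem_sup_left (g.posExcept_le_pos i
        (g.nI_conj_posExcept i (Subgroup.mem_map_of_mem _ hu)))
    refine ⟨⟨b₁ * (g.nI i * u * (g.nI i)⁻¹) * (g.nI i * h * (g.nI i)⁻¹), g.borel_le_group
      (mul_mem (mul_mem hb₁ hn1) (Subgroup.mem_sup_right (g.diag_conj (g.nI_mem i) hh)))⟩,
      mul_mem (mul_mem hb₁ hn1) (Subgroup.mem_sup_right (g.diag_conj (g.nI_mem i) hh)),
      (c : F) * t, Subtype.ext ?_⟩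
    rw [he, he2, Subgroup.coe_mul, Subgroup.coe_mul, coe_ns, coe_xs]
    show _ = _ * g.nI i * g.xG (D.simple i) _
    rw [← hc1]
    group
  obtain ⟨b, hb, s, hxs⟩ := hbr
  by_cases hs : s = 0
  · exfalso
    rw [hs, xs_zero, mul_one] at hxs
    have hu' : (n0 g)⁻¹ * x * n0 g ∈ Us g F := (n0_conj_mem_Vs g).1 (by simpa [mul_assoc] using hV)
    have e : (b : GL D.Idx F) * ((g.nI i : GL D.Idx F) * g.wordN (w0word g)) * 1 =
        1 * g.wordN (w0word g) * (((n0 g)⁻¹ * x * n0 g : ↥(D.group F)) : GL D.Idx F) := by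
      have := congrArg Subtype.val hxs
      simp only [Subgroup.coe_mul, Subgroup.coe_inv, coe_ns] at this ⊢
      rw [show ((n0 g : ↥(D.group F)) : GL D.Idx F) = g.wordN (w0word g) from rfl, this]
      show _ = 1 * g.wordN (w0word g) * ((g.wordN (w0word g))⁻¹ * (_ * g.nI i) * g.wordN (w0word g))
      group
    have h1 := g.canonical_coset hc hb (one_mem _) (mul_mem (g.nI_mem i) (g.wordN_mem _))
      (g.wordN_mem _) (one_mem _) (Us_le_Bs g hu') e
    have h2 := g.acts_unique (g.acts_mul (g.acts_inv (g.acts_mul (g.acts_nI i) (acts_n0 g)))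
      (acts_n0 g)) (g.acts_diagonal h1)
    rw [inv_mul_eq_one, mul_eq_right] at h2
    have := congrArg (fun σ : Equiv.Perm (Fin D.nroots) => σ (g.sroot i)) h2
    simp only [g.rperm_sroot, Equiv.Perm.one_apply] at this
    exact g.neg_ne (g.sroot i).2 (congrArg Fin.val this)
  · refine ⟨(Units.mk0 s hs)⁻¹, ?_⟩
    set c : Fˣ := Units.mk0 s hs
    set p := g.sroot i
    have hid : xs g (g.nroot p) ((c⁻¹ : Fˣ) : F) = xs g p (c : F) * ns g p (-c) * xs g p (c : F) := by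
      refine Subtype.ext ?_
      have := g.xG_neg_eq (p := (p : ℕ)) p.2 (-c)
      simp only [inv_neg, Units.val_neg, neg_neg] at this
      rw [Subgroup.coe_mul, Subgroup.coe_mul, coe_xs, coe_ns, coe_xs,
        show ((g.nroot p).val) = D.neg (p : ℕ) from rfl, this]
    set b' : ↥(D.group F) := b * ns g p 1 * (ns g p (-c))⁻¹ * (xs g p (c : F))⁻¹ with hb'
    have hb'B : b' ∈ Bs g F := by
      rw [hb', mul_assoc b, ns_mul_inv]
      exact mul_mem (mul_mem hb (Hs_le_Bs g (hs_mem g p _)))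
        (inv_mem (Us_le_Bs g (xs_mem_Us g (g.sroot_pos i) _)))
    have hx' : x = b' * xs g (g.nroot p) ((c⁻¹ : Fˣ) : F) := by
      rw [hxs, hb', hid, show xs g p s = xs g p (c : F) from rfl]
      group
    have hV' : b' ∈ Vs g F := by
      have := mul_mem hV (inv_mem (xs_mem_Vs g (g.nroot_sroot_neg i) ((c⁻¹ : Fˣ) : F)))
      rwa [hx', mul_inv_cancel_right] at this
    rw [hx', Bs_inf_Vs g hb'B hV', one_mul]
    simp [c]

theorem Pm_le_imp (hc : HasComm D) {i : Fin D.rank} {M : Subgroup ↥(D.group F)}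
    (hB : Bs g F ≤ M) (hM : M ≤ Pm g hc F i) : M = Bs g F ∨ M = Pm g hc F i := by
  have h := BN.eq_parabolic (g.bnPair hc) hB
  by_cases hi : ns g (g.sroot i) 1 ∈ M
  · exact Or.inr (le_antisymm hM (BN.parabolic_le (g.bnPair hc) hB (Set.singleton_subset_iff.2 hi)))
  · refine Or.inl (le_antisymm ?_ hB)
    rw [h]
    refine BN.parabolic_le (g.bnPair hc) le_rfl ?_
    rintro s ⟨hs, hsM⟩
    obtain ⟨j, rfl⟩ := exists_bnS g hs
    obtain rfl := (ns_mem_Pm_iff g hc i j).1 (hM hsM)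
    exact absurd hsM hi

theorem ns_not_mem_Bs (hc : HasComm D) (i : Fin D.rank) : ns g (g.sroot i) (1 : Fˣ) ∉ Bs g F :=
  BN.s_not_mem_B (g.bnPair hc) (ns_mem_bnS g i)

theorem FixUV.memB (hc : HasComm D) {θ : ↥(D.group F) ≃* ↥(D.group F)} (hθ : FixUV g θ)
    (x : ↥(D.group F)) : θ x ∈ Bs g F ↔ x ∈ Bs g F := by
  rw [mem_Bs_iff g hc, mem_Bs_iff g hc]
  constructor
  · intro h u hu
    rw [← hθ.memU, map_mul, map_mul, map_inv]
    exact h _ ((hθ.memU u).2 hu)
  · intro h u hu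
    obtain ⟨v, rfl⟩ := θ.surjective u
    rw [← map_inv, ← map_mul, ← map_mul, hθ.memU]
    exact h _ ((hθ.memU v).1 hu)

theorem FixUV.symm {θ : ↥(D.group F) ≃* ↥(D.group F)} (hθ : FixUV g θ) : FixUV g θ.symm :=
  ⟨fun x => by simpa using (hθ.memU (θ.symm x)).symm,
   fun x => by simpa using (hθ.memV (θ.symm x)).symm⟩

/-- Minimal parabolic subgroups are permuted. -/
theorem FixUV.exists_perm (hc : HasComm D) {θ : ↥(D.group F) ≃* ↥(D.group F)} (hθ : FixUV g θ) :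
    ∃ π : Equiv.Perm (Fin D.rank), ∀ i x, θ x ∈ Pm g hc F (π i) ↔ x ∈ Pm g hc F i := by
  have key : ∀ {θ : ↥(D.group F) ≃* ↥(D.group F)}, FixUV g θ → ∀ i,
      ∃ j, ∀ x, θ x ∈ Pm g hc F j → x ∈ Pm g hc F i := by
    intro θ hθ i
    have hB : Bs g F ≤ (Pm g hc F i).comap θ.symm.toMonoidHom := fun x hx =>
      Bs_le_Pm g hc i ((hθ.symm g).memB g hc x |>.2 hx)
    have h := BN.eq_parabolic (g.bnPair hc) hB
    by_cases hne : ∃ j, ns g (g.sroot j) 1 ∈ (Pm g hc F i).comap θ.symm.toMonoidHom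
    · obtain ⟨j, hj⟩ := hne
      refine ⟨j, fun x hx => ?_⟩
      have := BN.parabolic_le (g.bnPair hc) hB (Set.singleton_subset_iff.2 hj) hx
      simpa using this
    · exfalso
      have hle : (Pm g hc F i).comap θ.symm.toMonoidHom ≤ Bs g F := by
        rw [h]
        refine BN.parabolic_le (g.bnPair hc) le_rfl ?_
        rintro s ⟨hs, hsM⟩
        obtain ⟨j, rfl⟩ := exists_bnS g hs
        exact absurd ⟨j, hsM⟩ hne
      refine ns_not_mem_Bs g hc (F := F) i ((hθ.memB g hc _).1 (hle ?_))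
      show θ.symm (θ _) ∈ Pm g hc F i
      rw [θ.symm_apply_apply]; exact ns_mem_Pm g hc i
  choose f hf using key hθ
  choose f' hf' using key (hθ.symm g)
  have heq : ∀ i, f' (f i) = i := by
    intro i
    have hle : Pm g hc F (f' (f i)) ≤ Pm g hc F i := fun x hx => by
      have h1 : θ x ∈ Pm g hc F (f i) := hf' (f i) (θ x) (by rwa [θ.symm_apply_apply])
      exact hf i x h1
    exact (ns_mem_Pm_iff g hc i _).1 (hle (ns_mem_Pm g hc _))
  have hinj : Function.Injective f := fun a b h => by rw [← heq a, h, heq]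
  refine ⟨Equiv.ofBijective f ⟨hinj, Finite.injective_iff_surjective.1 hinj⟩, fun i x => ?_⟩
  refine ⟨hf i x, fun hx => hf' (f i) (θ x) ?_⟩
  rw [θ.symm_apply_apply, heq]
  exact hx

theorem commute_simple (hc : HasComm D) {i j : Fin D.rank} (hij : i ≠ j) (t u : F) :
    Commute (xs g (g.sroot i) t) (xs g (g.nroot (g.sroot j)) u) := by
  have hr := g.simple_lt i.2
  have hs' := g.neg_lt (g.simple_lt j.2)
  have hrs : D.simple i ≠ D.neg (D.simple j) := fun h => by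
    have h1 := g.simple_pos i.2
    have h2 := g.nroot_sroot_neg j
    have : (g.nroot (g.sroot j)).val = D.neg (D.simple j) := rfl
    omega
  have hneg : D.simple i ≠ D.neg (D.neg (D.simple j)) := by
    rw [g.neg_neg (g.simple_lt j.2)]
    exact fun h => hij (Fin.ext (g.simple_injective i.2 j.2 h))
  have h := g.xG_conj hc hr hs' hrs hneg t u
  suffices hnil : D.commTerms (D.neg (D.simple j)) (D.simple i) = [] by
    rw [hnil, List.map_nil, List.prod_nil, mul_one, mul_inv_eq_iff_eq_mul] at h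
    exact Subtype.ext h.symm
  refine List.eq_nil_iff_forall_not_mem.2 fun c hc' => ?_
  obtain ⟨h1, h2, h3, h4⟩ := g.commTerms_co hc hs' hr c hc'
  have hi := h4 i i.2
  have hj := h4 j j.2
  rw [g.co_neg (g.simple_lt j.2) i.2, g.co_simple j.2 i.2, g.co_simple i.2 i.2,
    if_neg (fun e => hij (Fin.ext e).symm), if_pos rfl] at hi
  rw [g.co_neg (g.simple_lt j.2) j.2, g.co_simple j.2 j.2, g.co_simple i.2 j.2,
    if_neg (fun e => hij (Fin.ext e)), if_pos rfl] at hj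
  by_cases hp : half D ≤ c.1
  · have := g.co_nonneg h1 hp j.2
    omega
  · have h5 := g.co_nonneg (g.neg_lt h1) ((g.nroot_pos_iff ⟨c.1, h1⟩).2 (not_le.1 hp)) i.2
    rw [g.co_neg h1 i.2] at h5
    omega

theorem not_commute_self (i : Fin D.rank) :
    ¬ Commute (xs g (g.sroot i) (1 : F)) (xs g (g.nroot (g.sroot i)) (-1)) := by
  intro h
  obtain ⟨k, hk⟩ := exists_ns_conj g i (1 : Fˣ)
  have h1 := hk 1
  have e : ns g (g.sroot i) (1 : Fˣ) * xs g (g.sroot i) 1 * (ns g (g.sroot i) 1)⁻¹ =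
      xs g (g.sroot i) 1 := by
    have hn : ns g (g.sroot i) (1 : Fˣ) =
        xs g (g.sroot i) 1 * xs g (g.nroot (g.sroot i)) (-1) * xs g (g.sroot i) 1 := by
      simp [ns]
    rw [mul_inv_eq_iff_eq_mul, hn]
    exact ((((Commute.refl _).mul_left h.symm).mul_left (Commute.refl _)).eq)
  rw [e] at h1
  exact g.neg_ne (g.sroot i).2 (congrArg Fin.val (root_eq_of_xs g one_ne_zero h1)).symm

/-- An automorphism fixing `U` and `V` permutes the fundamental root subgroups. -/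
theorem FixUV.exists_simpleMap [Finite F] (hc : HasComm D) {θ : ↥(D.group F) ≃* ↥(D.group F)}
    (hθ : FixUV g θ) :
    ∃ (π : Equiv.Perm (Fin D.rank)) (a b : Fin D.rank → F → F),
      SimpleMap g θ.toMonoidHom π a b := by
  obtain ⟨π, hπ⟩ := hθ.exists_perm g hc
  have hneg : ∀ i (t : F), ∃ u, θ (xs g (g.nroot (g.sroot i)) t) =
      xs g (g.nroot (g.sroot (π i))) u := fun i t =>
    Pm_inf_Vs g hc (π i) ((hπ i _).2 (xs_neg_mem_Pm g hc i t))
      ((hθ.memV _).2 (xs_mem_Vs g (g.nroot_sroot_neg i) t))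
  have hfix : ∀ y, θ (n0 g) * y * (θ (n0 g))⁻¹ ∈ Vs g F → y ∈ Us g F := by
    intro y hy
    obtain ⟨z, rfl⟩ := θ.surjective y
    rw [← map_inv, ← map_mul, ← map_mul, hθ.memV, n0_conj_mem_Vs] at hy
    exact (hθ.memU z).2 hy
  set m := θ (n0 g) with hm
  have hfix' : ∀ y ∈ Us g F, m * y * m⁻¹ ∈ Vs g F := by
    intro y hy
    obtain ⟨z, rfl⟩ := θ.surjective y
    rw [hm, ← map_inv, ← map_mul, ← map_mul, hθ.memV, n0_conj_mem_Vs]
    exact (hθ.memU z).1 hy
  -- conjugating by `n₀`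
  let ψ : ↥(D.group F) ≃* ↥(D.group F) :=
    ((MulAut.conj (n0 g)).trans θ).trans (MulAut.conj (n0 g)⁻¹)
  have hψ' : ∀ x, ψ x = (n0 g)⁻¹ * (m * θ x * m⁻¹) * n0 g := fun x => by
    show (n0 g)⁻¹ * θ (n0 g * x * (n0 g)⁻¹) * (n0 g)⁻¹⁻¹ = _
    rw [map_mul, map_mul, map_inv, inv_inv, hm]
  have hψ : FixUV g ψ := by
    refine ⟨fun x => ?_, fun x => ?_⟩
    · rw [← n0_conj_mem_Vs g (x := ψ x), show n0 g * ψ x * (n0 g)⁻¹ = m * θ x * m⁻¹ by
        rw [hψ']; group, ← hθ.memU]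
      exact ⟨hfix _, hfix' _⟩
    · rw [← n0_conj_mem_Us g (x := ψ x), show n0 g * ψ x * (n0 g)⁻¹ = θ (n0 g * x * (n0 g)⁻¹) by
        rw [hψ', map_mul, map_mul, map_inv, hm]; group, hθ.memU, n0_conj_mem_Us]
  obtain ⟨π', hπ'⟩ := hψ.exists_perm g hc
  choose τ hτ using fun i => exists_w0_sroot g (i : Fin D.rank)
  have hτ2 : ∀ j, ∃ i, τ i = j := by
    have hinj : Function.Injective τ := fun a b h => g.sroot_injective (by
      have := (hτ a).trans ((congrArg g.sroot h).trans (hτ b).symm)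
      have := (w0 g).injective this
      rw [← g.nroot_nroot (g.sroot a), this, g.nroot_nroot])
    exact Finite.injective_iff_surjective.1 hinj
  have hconj : ∀ (i : Fin D.rank) (t : F), ∃ u,
      n0 g * xs g (g.nroot (g.sroot i)) t * (n0 g)⁻¹ = xs g (g.sroot (τ i)) u := by
    intro i t
    obtain ⟨c, hc'⟩ := acts_n0 g (F := F) (g.nroot (g.sroot i))
    rw [← hτ]
    exact ⟨(c : F) * t, Subtype.ext (hc' t)⟩
  have hconj' : ∀ (i : Fin D.rank) (t : F), ∃ u,
      n0 g * xs g (g.nroot (g.sroot i)) u * (n0 g)⁻¹ = xs g (g.sroot (τ i)) t := by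
    intro i t
    obtain ⟨c, hc'⟩ := acts_n0 g (F := F) (g.nroot (g.sroot i))
    refine ⟨((c⁻¹ : Fˣ) : F) * t, ?_⟩
    rw [← hτ]
    refine Subtype.ext ((hc' _).trans ?_)
    rw [← mul_assoc, ← Units.val_mul, mul_inv_cancel, Units.val_one, one_mul]
    rfl
  have hpos : ∀ j, ∃ j', ∀ t : F, ∃ u, θ (xs g (g.sroot j) t) = xs g (g.sroot j') u := by
    intro j
    obtain ⟨i, rfl⟩ := hτ2 j
    refine ⟨τ (π' i), fun t => ?_⟩
    obtain ⟨s, hs'⟩ := hconj' i t
    obtain ⟨u, hu⟩ := Pm_inf_Vs g hc (π' i) ((hπ' i _).2 (xs_neg_mem_Pm g hc i s))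
      ((hψ.memV _).2 (xs_mem_Vs g (g.nroot_sroot_neg i) s))
    obtain ⟨v, hv⟩ := hconj (π' i) u
    refine ⟨v, ?_⟩
    rw [← hv, ← hu, hψ', ← hs', map_mul, map_mul, map_inv, hm]
    group
  choose π'' hp using hpos
  have hπeq : ∀ j, π'' j = π j := by
    intro j
    by_contra hne
    obtain ⟨u, hu⟩ := hp j 1
    obtain ⟨v, hv⟩ := hneg j (-1)
    refine not_commute_self g (F := F) j ?_
    have h := commute_simple g hc (F := F) hne u v
    rw [← hu, ← hv] at h
    exact θ.injective (by rw [map_mul, map_mul]; exact h.eq)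
  choose b hb using hneg
  choose a ha using fun i (t : F) => hπeq i ▸ hp i t
  refine ⟨π, a, b, θ.injective, ha, hb, fun i => Finite.injective_iff_surjective.1 fun s t h => ?_⟩
  refine xs_inj g (r := g.sroot i) (θ.injective ?_)
  rw [ha, ha, h]

end

end CfsgLib.KnownA.Chev
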