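import Cfsg.Agent.Lib.KnownA.Chev.Basic

/-!
Outside very small fields, the root elements of the non-fundamental positive roots lie in the
derived group of `U`.
-/

set_option autoImplicit false
set_option maxRecDepth 10000

namespace CfsgLib.KnownA.Chev

open Cfsg.Lie CfsgLib.Chev
open scoped commutatorElement

/-- The weight of a term of a commutator formula. -/
def termWt (w : ℤ × ℤ) (c : ℕ × ℤ × ℕ × ℕ) : ℤ := w.1 * c.2.2.1 + w.2 * c.2.2.2

/-- A witness for the root `r`: a pair of positive roots and scalings isolating `r`. -/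
def witOK (D : ChevalleyDatum) (r : ℕ) (w : ℕ × ℕ × List (ℤ × ℤ)) : Bool :=
  decide (D.nroots / 2 ≤ w.1) && decide (w.1 < D.nroots) &&
  decide (D.nroots / 2 ≤ w.2.1) && decide (w.2.1 < D.nroots) && decide (w.1 ≠ w.2.1) &&
  decide (((D.commTerms w.1 w.2.1).map Prod.fst).Nodup) &&
  (D.commTerms w.1 w.2.1).any fun t =>
    decide (t.1 = r) && decide (t.2.1 = 1 ∨ t.2.1 = -1) &&
    decide (t.2.2.1 = 1 ∨ t.2.2.2 = 1) &&
    (w.2.2.all fun v => decide (termWt v t ≠ 0 ∧ (termWt v t).natAbs ≤ 2)) &&
    (D.commTerms w.1 w.2.1).all fun o =>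
      decide (o.1 = r) || decide (r < o.1) || w.2.2.any fun v => decide (termWt v o = 0)

/-- The witnesses, and whether scalings occur. -/
def witsOK (D : ChevalleyDatum) (W : List (ℕ × ℕ × List (ℤ × ℤ))) : Bool :=
  let R := (List.range' (D.nroots / 2) (D.nroots - D.nroots / 2)).filter fun r =>
    !((List.range D.rank).map D.simple).contains r
  decide (R.length = W.length) && (R.zip W).all fun p => witOK D p.1 p.2

/-- The witnesses of G2. -/
def witsG2 : List (ℕ × ℕ × List (ℤ × ℤ)) := [(7, 6, []), (7, 6, [(1, -1)]), (6, 7, [(1, -1), (2, -1)]), (6, 10, [])]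

theorem witsG2_ok : witsOK chevG2 witsG2 = true := by decide +kernel

/-- The witnesses of B2. -/
def witsB2 : List (ℕ × ℕ × List (ℤ × ℤ)) := [(5, 4, []), (5, 4, [(1, -1)])]

theorem witsB2_ok : witsOK chevB2 witsB2 = true := by decide +kernel

/-- The witnesses of D4. -/
def witsD4 : List (ℕ × ℕ × List (ℤ × ℤ)) := [(14, 12, []), (14, 13, []), (13, 15, []), (18, 14, []), (18, 15, []), (18, 16, []), (18, 17, []), (14, 22, [])]

theorem witsD4_ok : witsOK chevD4 witsD4 = true := by decide +kernel

/-- The witnesses of F4. -/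
def witsF4 : List (ℕ × ℕ × List (ℤ × ℤ)) := [(25, 24, []), (27, 25, []), (27, 26, []), (27, 25, [(1, -1)]), (24, 30, []), (25, 31, []), (33, 27, []), (33, 28, []), (33, 29, []), (33, 30, []), (33, 31, []), (33, 32, []), (27, 39, []), (33, 30, [(1, -1)]), (24, 41, []), (25, 42, []), (33, 40, []), (30, 42, []), (25, 45, []), (24, 46, [])]

theorem witsF4_ok : witsOK chevF4 witsF4 = true := by decide +kernel

/-- The witnesses of E6. -/
def witsE6 : List (ℕ × ℕ × List (ℤ × ℤ)) := [(37, 36, []), (39, 37, []), (39, 38, []), (42, 39, []), (42, 40, []), (42, 41, []), (46, 39, []), (46, 40, []), (46, 41, []), (46, 43, []), (46, 44, []), (46, 45, []), (39, 51, []), (39, 52, []), (37, 54, []), (56, 42, []), (56, 43, []), (56, 44, []), (56, 45, []), (56, 50, []), (56, 51, []), (56, 52, []), (56, 53, []), (56, 54, []), (56, 55, []), (42, 64, []), (42, 65, []), (42, 66, []), (39, 69, []), (46, 70, [])]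

theorem witsE6_ok : witsOK chevE6 witsE6 = true := by decide +kernel

/-- The witnesses of E7. -/
def witsE7 : List (ℕ × ℕ × List (ℤ × ℤ)) := [(64, 63, []), (66, 64, []), (66, 65, []), (69, 66, []), (69, 67, []), (69, 68, []), (73, 69, []), (73, 70, []), (73, 71, []), (73, 72, []), (78, 69, []), (78, 70, []), (78, 71, []), (78, 72, []), (78, 74, []), (78, 75, []), (78, 76, []), (78, 77, []), (69, 84, []), (69, 85, []), (69, 86, []), (66, 88, []), (66, 89, []), (64, 91, []), (93, 73, []), (93, 74, []), (93, 75, []), (93, 76, []), (93, 77, []), (93, 83, []), (93, 84, []), (93, 85, []), (93, 86, []), (93, 87, []), (93, 88, []), (93, 89, []), (93, 90, []), (93, 91, []), (93, 92, []), (73, 103, []), (73, 104, []), (73, 105, []), (73, 106, []), (73, 107, []), (73, 108, []), (69, 112, []), (69, 113, []), (69, 114, []), (66, 117, []), (78, 115, []), (78, 116, []), (78, 117, []), (78, 118, []), (69, 122, []), (73, 123, []), (93, 124, [])]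

theorem witsE7_ok : witsOK chevE7 witsE7 = true := by decide +kernel

/-- The witnesses of E8. -/
def witsE8 : List (ℕ × ℕ × List (ℤ × ℤ)) := [(121, 120, []), (123, 121, []), (123, 122, []), (126, 123, []), (126, 124, []), (126, 125, []), (130, 126, []), (130, 127, []), (130, 128, []), (130, 129, []), (135, 130, []), (135, 131, []), (135, 132, []), (135, 133, []), (135, 134, []), (141, 130, []), (141, 131, []), (141, 132, []), (141, 133, []), (141, 134, []), (141, 136, []), (141, 137, []), (141, 138, []), (141, 139, []), (141, 140, []), (130, 148, []), (130, 149, []), (130, 150, []), (130, 151, []), (126, 153, []), (126, 154, []), (126, 155, []), (123, 157, []), (123, 158, []), (121, 160, []), (162, 135, []), (162, 136, []), (162, 137, []), (162, 138, []), (162, 139, []), (162, 140, []), (162, 147, []), (162, 148, []), (162, 149, []), (162, 150, []), (162, 151, []), (162, 152, []), (162, 153, []), (162, 154, []), (162, 155, []), (162, 156, []), (162, 157, []), (162, 158, []), (162, 159, []), (162, 160,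 []), (162, 161, []), (135, 174, []), (135, 175, []), (135, 176, []), (135, 177, []), (135, 178, []), (135, 179, []), (135, 180, []), (135, 181, []), (135, 182, []), (135, 183, []), (130, 188, []), (130, 189, []), (130, 190, []), (130, 191, []), (130, 192, []), (130, 193, []), (126, 197, []), (126, 198, []), (126, 199, []), (123, 202, []), (141, 194, []), (141, 195, []), (141, 196, []), (141, 197, []), (141, 198, []), (141, 199, []), (141, 200, []), (141, 201, []), (141, 202, []), (141, 203, []), (130, 210, []), (130, 211, []), (130, 212, []), (130, 213, []), (126, 217, []), (135, 214, []), (135, 215, []), (135, 216, []), (135, 217, []), (135, 218, []), (130, 223, []), (141, 224, []), (162, 219, []), (162, 220, []), (162, 221, []), (162, 222, []), (162, 223, []), (162, 224, []), (135, 231, []), (162, 225, []), (141, 232, []), (130, 234, []), (126, 235, []), (123, 236, []), (121, 237, []), (120, 238, [])]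

theorem witsE8_ok : witsOK chevE8 witsE8 = true := by decide +kernel

variable {D : ChevalleyDatum} {F : Type*} [Field F] (g : Good D)
include g

/-- Isolation of one term in an abelian quotient. -/
theorem isolate_term {A : Type*} [CommGroup A] (L : List (ℕ × ℤ × ℕ × ℕ))
    (hnd : (L.map Prod.fst).Nodup) (φ : ℕ → F → A)
    (hφ : ∀ k a b, φ k (a + b) = φ k a * φ k b) (r : ℕ)
    (hbig : ∀ o ∈ L, r < o.1 → ∀ z, φ o.1 z = 1)
    (c : F) (hc : c ≠ 0) {t : ℕ × ℤ × ℕ × ℕ} (ht : t ∈ L) (htr : t.1 = r) :
    ∀ (ws : List (ℤ × ℤ)) (co : (ℕ × ℤ × ℕ × ℕ) → F),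
      (∀ u v : F, (L.map fun o => φ o.1 (co o * u ^ o.2.2.1 * v ^ o.2.2.2)).prod = 1) →
      (∀ o ∈ L, o.1 = r ∨ r < o.1 ∨ co o = 0 ∨ ∃ w ∈ ws, termWt w o = 0) →
      ∀ u v : F, φ r (co t * (ws.map fun w => c ^ termWt w t - 1).prod *
        u ^ t.2.2.1 * v ^ t.2.2.2) = 1 := by
  intro ws
  induction ws with
  | nil =>
    intro co hrel hzero u v
    have h := hrel u v
    obtain ⟨L1, L2, rfl⟩ := List.append_of_mem ht
    have hone : ∀ o ∈ L1 ++ L2, φ o.1 (co o * u ^ o.2.2.1 * v ^ o.2.2.2) = 1 := by
      intro o ho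
      have ho' : o ∈ L1 ++ t :: L2 := by
        rcases List.mem_append.1 ho with ho | ho <;> simp [ho]
      have hne : o.1 ≠ r := by
        intro e
        have hsame : o = t := List.inj_on_of_nodup_map hnd ho' ht (e.trans htr.symm)
        subst hsame
        exact (List.nodup_middle.1 hnd.of_map).notMem ho
      rcases hzero o ho' with h' | h' | h' | ⟨w, hw, -⟩
      · exact absurd h' hne
      · exact hbig o ho' h' _
      · rw [h', zero_mul, zero_mul]
        have h0 := hφ o.1 0 0
        rw [add_zero] at h0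
        exact (left_eq_mul.1 h0)
      · exact absurd hw (List.not_mem_nil)
    rw [List.map_append, List.map_cons, List.prod_append, List.prod_cons,
      List.prod_eq_one (fun x hx => ?_), List.prod_eq_one (fun x hx => ?_), one_mul, mul_one, htr] at h
    · simpa using h
    · obtain ⟨o, ho, rfl⟩ := List.mem_map.1 hx
      exact hone o (List.mem_append_right _ ho)
    · obtain ⟨o, ho, rfl⟩ := List.mem_map.1 hx
      exact hone o (List.mem_append_left _ ho)
  | cons w ws ih =>
    intro co hrel hzero u v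
    have h := ih (fun o => co o * (c ^ termWt w o - 1)) (fun u v => ?_) (fun o ho => ?_) u v
    · rw [List.map_cons, List.prod_cons, ← mul_assoc (co t)]
      exact h
    · have h1 := hrel u v
      have h2 := hrel (c ^ w.1 * u) (c ^ w.2 * v)
      have key : ∀ o : ℕ × ℤ × ℕ × ℕ,
          φ o.1 (co o * (c ^ w.1 * u) ^ o.2.2.1 * (c ^ w.2 * v) ^ o.2.2.2) =
            φ o.1 (co o * (c ^ termWt w o - 1) * u ^ o.2.2.1 * v ^ o.2.2.2) *
              φ o.1 (co o * u ^ o.2.2.1 * v ^ o.2.2.2) := by
        intro o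
        rw [← hφ, termWt, zpow_add₀ hc, _root_.zpow_mul, _root_.zpow_mul, zpow_natCast, zpow_natCast,
          mul_pow, mul_pow]
        congr 1
        ring
      simp only [key] at h2
      rw [List.prod_map_mul, h1, mul_one] at h2
      exact h2
    · rcases hzero o ho with h' | h' | h' | ⟨w', hw', h''⟩
      · exact Or.inl h'
      · exact Or.inr (Or.inl h')
      · exact Or.inr (Or.inr (Or.inl (by simp [h'])))
      · rcases List.mem_cons.1 hw' with rfl | hw'
        · exact Or.inr (Or.inr (Or.inl (by simp [h''])))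
        · exact Or.inr (Or.inr (Or.inr ⟨w', hw', h''⟩))

/-- Non-fundamental positive root elements lie in the derived group of `U`. -/
theorem xG_mem_commutator (hc : HasComm D) {W : List (ℕ × ℕ × List (ℤ × ℤ))}
    (hW : witsOK D W = true) (hF : (∀ w ∈ W, w.2.2 = []) ∨ ∃ c : F, c ≠ 0 ∧ c ^ 2 ≠ 1)
    {r : ℕ} (hr : half D ≤ r) (hrn : r < D.nroots) (hns : ∀ i < D.rank, r ≠ D.simple i) (t : F) :
    g.xG r t ∈ ⁅D.posUnipotent F, D.posUnipotent F⁆ := by
  obtain ⟨k, hk⟩ : ∃ k, D.nroots - r = k := ⟨_, rfl⟩
  induction k using Nat.strong_induction_on generalizing r t with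
  | _ k ih => ?_
  set U := D.posUnipotent F
  have hUmem : ∀ s, half D ≤ s → s < D.nroots → ∀ z : F, g.xG s z ∈ U := fun s h1 h2 z =>
    g.xG_mem_posUnipotent ((g.isPosRoot_iff _).2 ⟨h1, h2⟩) z
  simp only [witsOK, Bool.and_eq_true, decide_eq_true_eq, List.all_eq_true] at hW
  obtain ⟨hlen, hW⟩ := hW
  have hhalf : D.nroots / 2 = half D := rfl
  set R := (List.range' (D.nroots / 2) (D.nroots - D.nroots / 2)).filter fun r =>
    !((List.range D.rank).map D.simple).contains r
  have hrR : r ∈ R := by
    refine List.mem_filter.2 ⟨List.mem_range'_1.2 ⟨by omega, by omega⟩, ?_⟩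
    simp only [Bool.not_eq_true', ← Bool.not_eq_true, List.contains_iff_mem, List.mem_map,
      List.mem_range, not_exists, not_and]
    exact fun i hi e => hns i hi e.symm
  obtain ⟨n, hn, hRn⟩ := List.getElem_of_mem hrR
  obtain ⟨⟨s, p, ws⟩, hw⟩ : ∃ w, w = W[n]'(hlen ▸ hn) := ⟨_, rfl⟩
  have hmemW : (s, p, ws) ∈ W := hw ▸ List.getElem_mem _
  have hok := hW (r, (s, p, ws)) (List.mem_iff_getElem.2
    ⟨n, by rw [List.length_zip]; omega, by rw [List.getElem_zip, hRn, hw]⟩)
  simp only [witOK, Bool.and_eq_true, decide_eq_true_eq, List.any_eq_true, List.all_eq_true,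
    Bool.or_eq_true] at hok
  obtain ⟨⟨⟨⟨⟨⟨hs1, hs2⟩, hp1⟩, hp2⟩, hsp⟩, hnd⟩, tt, htt, ⟨⟨⟨htr, hsign⟩, hij⟩, hws⟩, hall⟩ := hok
  have hs1' : half D ≤ s := by omega
  have hp1' : half D ≤ p := by omega
  have hpneg : p ≠ D.neg s := fun h => by
    have := (g.neg_neg_iff hs2).2 hs1'
    omega
  obtain ⟨c, hc0, hcd⟩ : ∃ c : F, c ≠ 0 ∧ ∀ v ∈ ws, c ^ termWt v tt - 1 ≠ 0 := by
    rcases hF with hF | ⟨c, hc0, hc2⟩
    · refine ⟨1, one_ne_zero, fun v hv => ?_⟩
      have := hF _ hmemW
      simp only at this
      rw [this] at hv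
      exact absurd hv List.not_mem_nil
    · refine ⟨c, hc0, fun v hv h => hc2 ?_⟩
      obtain ⟨h1, h2⟩ := hws v hv
      rw [sub_eq_zero] at h
      have hcases : (termWt v tt = 1 ∨ termWt v tt = -1) ∨ (termWt v tt = 2 ∨ termWt v tt = -2) := by
        omega
      rcases hcases with (e | e) | (e | e) <;> rw [e] at h
      · rw [zpow_one] at h; rw [h, one_pow]
      · rw [_root_.zpow_neg, zpow_one, inv_eq_one] at h; rw [h, one_pow]
      · rwa [zpow_two, ← pow_two] at h
      · rwa [_root_.zpow_neg, inv_eq_one, zpow_two, ← pow_two] at h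
  classical
  let φ : ℕ → F → Abelianization ↥U := fun q z => if h : g.xG q z ∈ U then Abelianization.of ⟨_, h⟩ else 1
  have hφU : ∀ q, half D ≤ q → q < D.nroots → ∀ z,
      ∀ h : g.xG q z ∈ U, φ q z = Abelianization.of ⟨g.xG q z, h⟩ := fun q _ _ z h => dif_pos h
  have hterm : ∀ o ∈ D.commTerms s p, o.1 < D.nroots ∧ half D ≤ o.1 := by
    intro o ho
    obtain ⟨h1, h2, h3, h4⟩ := g.commTerms_co hc hs2 hp2 o ho
    refine ⟨h1, ?_⟩
    rw [← g.wt_pos_iff h1, g.wt_lin h4]
    have := g.wt_pos hs1' hs2
    have := g.wt_pos hp1' hp2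
    positivity
  let φ' : ℕ → F → Abelianization ↥U := fun q z =>
    if q < D.nroots ∧ half D ≤ q then φ q z else 1
  have hφ'add : ∀ q a b, φ' q (a + b) = φ' q a * φ' q b := by
    intro q a b
    by_cases hq : q < D.nroots ∧ half D ≤ q
    · simp only [φ', if_pos hq, hφU q hq.2 hq.1 _ (hUmem q hq.2 hq.1 _)]
      rw [← map_mul]
      congr 1
      exact Subtype.ext (g.xG_add q a b).symm
    · simp only [φ', if_neg hq, mul_one]
  have hbig : ∀ o ∈ D.commTerms s p, r < o.1 → ∀ z, φ' o.1 z = 1 := by
    intro o ho hro z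
    obtain ⟨h1, h2⟩ := hterm o ho
    simp only [φ', if_pos (And.intro h1 h2), hφU _ h2 h1 _ (hUmem _ h2 h1 _)]
    obtain ⟨-, hi, hj, hco⟩ := g.commTerms_co hc hs2 hp2 o ho
    have hmem : g.xG o.1 z ∈ ⁅U, U⁆ := by
      refine ih (D.nroots - o.1) (by omega) h2 h1 (fun i hi' e => ?_) z rfl
      have hc1 := hco i hi'
      rw [e, g.co_simple hi' hi', if_pos rfl] at hc1
      have hex : ∃ j < D.rank, j ≠ i ∧ (0 < g.co s j ∨ 0 < g.co p j) := by
        by_contra hne
        push Not at hne
        have key : ∀ q, half D ≤ q → q < D.nroots → (∀ j < D.rank, j ≠ i → g.co q j ≤ 0) →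
            0 < g.co q i := by
          intro q hq1 hq2 hle
          by_contra hle'
          have h5 := g.wt_pos hq1 hq2
          rw [g.wt_eq, Finset.sum_eq_zero fun j hj => ?_] at h5
          · exact lt_irrefl _ h5
          · have hj' := Finset.mem_range.1 hj
            have : g.co q j ≤ 0 := by
              by_cases hji : j = i
              · rw [hji]; omega
              · exact hle j hj' hji
            rw [le_antisymm this (g.co_nonneg hq2 hq1 hj'), zero_mul]
        have k1 := key s hs1' hs2 fun j hj hji => (hne j hj hji).1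
        have k2 := key p hp1' hp2 fun j hj hji => (hne j hj hji).2
        nlinarith
      obtain ⟨j, hj', hji, hpos⟩ := hex
      have hc2 := hco j hj'
      rw [e, g.co_simple hi' hj', if_neg (Ne.symm hji)] at hc2
      have := g.co_nonneg hs2 hs1' hj'
      have := g.co_nonneg hp2 hp1' hj'
      rcases hpos with hpos | hpos <;> nlinarith
    rw [← MonoidHom.mem_ker, Abelianization.ker_of]
    have e : (⁅U, U⁆ : Subgroup (GL D.Idx F)) = (commutator ↥U).map U.subtype :=
      (Subgroup.map_subtype_commutator U).symm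
    rw [e] at hmem
    obtain ⟨y, hy, he⟩ := hmem
    obtain rfl : y = ⟨g.xG o.1 z, hUmem _ h2 h1 z⟩ := Subtype.ext he
    exact hy
  have hrel : ∀ u v : F, ((D.commTerms s p).map fun o =>
      φ' o.1 (((o.2.1 : ℤ) : F) * u ^ o.2.2.1 * v ^ o.2.2.2)).prod = 1 := by
    intro u v
    have h := g.xG_conj hc hp2 hs2 (Ne.symm hsp) hpneg v u
    let a : ↥U := ⟨g.xG s u, hUmem s hs1' hs2 u⟩
    let b : ↥U := ⟨g.xG p v, hUmem p hp1' hp2 v⟩
    let f : ℕ × ℤ × ℕ × ℕ → ↥U := fun o =>
      if h : half D ≤ o.1 ∧ o.1 < D.nroots then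
        ⟨g.xG o.1 ((o.2.1 : F) * u ^ o.2.2.1 * v ^ o.2.2.2), hUmem _ h.1 h.2 _⟩ else 1
    have hf : a * b * a⁻¹ = b * ((D.commTerms s p).map f).prod := by
      refine Subtype.ext ?_
      simp only [Subgroup.coe_mul, Subgroup.coe_inv, SubmonoidClass.coe_list_prod, List.map_map, a, b]
      rw [h]
      congr 2
      refine List.map_congr_left fun o ho => ?_
      simp only [Function.comp_apply, f, dif_pos (And.intro (hterm o ho).2 (hterm o ho).1)]
    have h2 := congrArg Abelianization.of hf
    rw [map_mul, map_mul, map_mul, map_inv, map_list_prod, List.map_map, mul_comm (Abelianization.of a),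
      mul_inv_cancel_right, left_eq_mul] at h2
    rw [← h2]
    congr 1
    refine List.map_congr_left fun o ho => ?_
    simp only [Function.comp_apply, φ', f, if_pos (hterm o ho),
      dif_pos (And.intro (hterm o ho).2 (hterm o ho).1),
      hφU _ (hterm o ho).2 (hterm o ho).1 _ (hUmem _ (hterm o ho).2 (hterm o ho).1 _)]
  have hkey := isolate_term g (D.commTerms s p) hnd φ' hφ'add r hbig c hc0 htt htr ws
    (fun o => ((o.2.1 : ℤ) : F)) hrel (fun o ho => by
      rcases hall o ho with (h | h) | h
      · exact Or.inl h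
      · exact Or.inr (Or.inl h)
      · exact Or.inr (Or.inr (Or.inr h)))
  set K : F := ((tt.2.1 : ℤ) : F) * (ws.map fun w => c ^ termWt w tt - 1).prod with hK
  have hKne : K ≠ 0 := by
    refine mul_ne_zero (by rcases hsign with h | h <;> simp [h]) ?_
    refine List.prod_ne_zero fun h0 => ?_
    obtain ⟨v, hv, he⟩ := List.mem_map.1 h0
    exact hcd v hv he
  have hval : φ' r t = 1 := by
    rcases hij with h1 | h1
    · have := hkey (t / K) 1
      rw [h1, pow_one, one_pow, mul_one, mul_div_cancel₀ _ hKne] at this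
      exact this
    · have := hkey 1 (t / K)
      rw [h1, pow_one, one_pow, mul_one, mul_div_cancel₀ _ hKne] at this
      exact this
  simp only [φ', if_pos (And.intro hrn hr), hφU r hr hrn t (hUmem r hr hrn t)] at hval
  rw [← MonoidHom.mem_ker, Abelianization.ker_of] at hval
  rw [← Subgroup.map_subtype_commutator]
  exact ⟨_, hval, rfl⟩

end CfsgLib.KnownA.Chev
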