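import Cfsg.Agent.Lib.KnownA.Chev.Gen

/-!
Endomorphisms of a Chevalley group permuting the fundamental root subgroups of both signs:
their effect on `n_i(t)`, `h_i(t)`, on all root subgroups, on `U` and on `V`.
-/

set_option autoImplicit false

namespace CfsgLib.KnownA.Chev

open Cfsg.Lie CfsgLib.Chev CfsgLib.KnownA.ChevChar

variable {D : ChevalleyDatum} {F : Type*} [Field F]

section

variable (g : Good D)
include g

theorem xs_inv (r : Fin D.nroots) (t : F) : (xs g r t)⁻¹ = xs g r (-t) :=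
  Subtype.ext (g.xG_inv r t)

theorem ns_inv (r : Fin D.nroots) (t : Fˣ) : (ns g r t)⁻¹ = ns g r (-t) :=
  Subtype.ext (g.nG_inv r.2 t)

theorem hs_mul (r : Fin D.nroots) (s t : Fˣ) : hs g r (s * t) = hs g r s * hs g r t :=
  Subtype.ext (by rw [Subgroup.coe_mul, coe_hs, coe_hs, coe_hs, map_mul])

theorem ns_eq (r : Fin D.nroots) (t : Fˣ) : ns g r t = hs g r t * ns g r 1 :=
  Subtype.ext (by rw [Subgroup.coe_mul, coe_hs, coe_ns, coe_ns]; exact g.nG_eq_hG_mul r.2 t)

theorem ns_mul_inv (r : Fin D.nroots) (s t : Fˣ) :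
    ns g r s * (ns g r t)⁻¹ = hs g r (s / t) := by
  rw [ns_eq g r s, ns_eq g r t]
  have : hs g r s = hs g r (s / t) * hs g r t := by rw [← hs_mul, div_mul_cancel]
  rw [this]; group

theorem acts_ns (i : Fin D.rank) (t : Fˣ) :
    g.Acts ((ns g (g.sroot i) t : ↥(D.group F)) : GL D.Idx F) (g.rperm i) := by
  rw [ns_eq, Subgroup.coe_mul, coe_hs, coe_ns]
  have := g.acts_mul (g.acts_diagonal (g.hG_mem (g.simple_lt i.2) t)) (g.acts_nI (F := F) i)
  rwa [one_mul] at this

/-- Conjugation by `n_i(t)` exchanges `X_i` and `X_{-i}`. -/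
theorem exists_ns_conj (i : Fin D.rank) (t : Fˣ) :
    ∃ k : Fˣ, ∀ e : F, ns g (g.sroot i) t * xs g (g.sroot i) e * (ns g (g.sroot i) t)⁻¹ =
      xs g (g.nroot (g.sroot i)) ((k : F) * e) := by
  obtain ⟨k, hk⟩ := acts_ns g i t (g.sroot i)
  refine ⟨k, fun e => Subtype.ext ?_⟩
  rw [← g.rperm_sroot]
  exact hk e

theorem hs_inj_sq (i : Fin D.rank) {c d : Fˣ} (h : hs g (g.sroot i) c = hs g (g.sroot i) d) :
    (c : F) ^ 2 = (d : F) ^ 2 := by
  have h1 := hs_conj_xs g (g.sroot i) (g.sroot i) c (1 : F)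
  rw [h, hs_conj_xs] at h1
  have h2 := xs_inj g h1
  rw [show pair D (g.sroot i) (g.sroot i) = 2 from
    (g.pair_simple i.2 (g.simple_lt i.2)).trans (g.cartan_simple i.2)] at h2
  simpa [mul_one] using h2.symm

/-- `x_i(D)` does not normalise `X_{-i}` unless trivial. -/
theorem eq_zero_of_conj_neg (i : Fin D.rank) {d v w : F} (hv : v ≠ 0)
    (h : xs g (g.sroot i) d * xs g (g.nroot (g.sroot i)) v * (xs g (g.sroot i) d)⁻¹ =
      xs g (g.nroot (g.sroot i)) w) : d = 0 := by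
  set p := g.sroot i
  set q := g.nroot p
  have hw : w ≠ 0 := fun hw => by
    rw [hw, xs_zero, mul_inv_eq_one, mul_eq_left, ← xs_zero g q] at h
    exact hv (xs_inj g h)
  have hdec : ∀ c : Fˣ, xs g q (-((c⁻¹ : Fˣ) : F)) =
      xs g p (-(c : F)) * ns g p c * xs g p (-(c : F)) := fun c => Subtype.ext (by
    rw [Subgroup.coe_mul, Subgroup.coe_mul, coe_ns, coe_xs, coe_xs]
    exact g.xG_neg_eq p.2 c)
  obtain ⟨c, rfl⟩ : ∃ c : Fˣ, -((c⁻¹ : Fˣ) : F) = v :=
    ⟨(-Units.mk0 v hv)⁻¹, by simp⟩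
  obtain ⟨e, rfl⟩ : ∃ c : Fˣ, -((c⁻¹ : Fˣ) : F) = w :=
    ⟨(-Units.mk0 w hw)⁻¹, by simp⟩
  rw [hdec, hdec, xs_inv, ns_eq g p c, ns_eq g p e] at h
  have h' : ((xs g p d * (xs g p (-(c : F)) * hs g p c) : ↥(D.group F)) : GL D.Idx F) *
      g.nI i * ((xs g p (-(c : F) + -d) : ↥(D.group F)) : GL D.Idx F) =
      ((xs g p (-(e : F)) * hs g p e : ↥(D.group F)) : GL D.Idx F) *
      g.nI i * ((xs g p (-(e : F)) : ↥(D.group F)) : GL D.Idx F) := by
    rw [← xs_add]
    have h2 := congrArg (Subtype.val) h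
    simp only [Subgroup.coe_mul] at h2 ⊢
    rw [show (g.nI i : GL D.Idx F) = (ns g p (1 : Fˣ) : GL D.Idx F) from rfl]
    simp only [mul_assoc] at h2 ⊢
    exact h2
  have hX : ∀ t : F, (xs g p t : GL D.Idx F) ∈ D.borelSubgroup F := fun t =>
    Subgroup.mem_sup_left (g.xG_mem_posUnipotent ((g.isPosRoot_iff _).2 ⟨g.sroot_pos i, p.2⟩) t)
  have hH : ∀ t : Fˣ, (hs g p t : GL D.Idx F) ∈ D.borelSubgroup F := fun t =>
    Subgroup.mem_sup_right (hs_mem g p t)
  have hM : ∀ t : F, (xs g p t : GL D.Idx F) ∈ rootGen D F (minusSet (g.rperm i)) := fun t =>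
    g.mem_rootGen p.2 (show (p : ℕ) ∈ minusSet (g.rperm i) from
      ⟨p.2, g.sroot_pos i, by rw [show (⟨(p : ℕ), p.2⟩ : Fin D.nroots) = p from rfl, g.rperm_sroot]
                              exact g.nroot_sroot_neg i⟩) t
  obtain ⟨hb, hu⟩ := g.canonical_unique (mul_mem (hX d) (mul_mem (hX _) (hH c)))
    (mul_mem (hX _) (hH e)) (g.acts_nI i) (hM _) (hM _) h'
  have hu' := xs_inj g (Subtype.ext hu)
  have hb' : xs g p (d + -(c : F)) * hs g p c = xs g p (-(e : F)) * hs g p e := by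
    rw [← xs_add, mul_assoc]; exact Subtype.ext hb
  have h3 : (xs g p (-(e : F)))⁻¹ * xs g p (d + -(c : F)) = hs g p e * (hs g p c)⁻¹ := by
    rw [eq_mul_inv_iff_mul_eq, mul_assoc, hb', inv_mul_cancel_left]
  have h4 : (((xs g p (-(e : F)))⁻¹ * xs g p (d + -(c : F)) : ↥(D.group F)) : GL D.Idx F) ∈
      D.posUnipotent F ⊓ D.diagonalSubgroup F := by
    refine Subgroup.mem_inf.2 ⟨?_, ?_⟩
    · exact mul_mem (inv_mem (g.xG_mem_posUnipotent ((g.isPosRoot_iff _).2 ⟨g.sroot_pos i, p.2⟩) _))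
        (g.xG_mem_posUnipotent ((g.isPosRoot_iff _).2 ⟨g.sroot_pos i, p.2⟩) _)
    · rw [h3]; exact mul_mem (hs_mem g p e) (inv_mem (hs_mem g p c))
  rw [g.pos_inf_diagonal, Subgroup.mem_bot, OneMemClass.coe_eq_one] at h4
  have h5 : -(e : F) = d + -(c : F) := xs_inj g (inv_mul_eq_one.1 h4)
  have h6 := hs_inj_sq g i (mul_inv_eq_one.1 (h3.symm.trans h4))
  have h7 : d * d = 0 := by linear_combination h6 - ((e : F) + c + d) * hu' + (c : F) * h5 + (c : F) * hu'
  exact mul_self_eq_zero.1 h7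

/-- An endomorphism permuting the fundamental root subgroups. -/
structure SimpleMap (θ : ↥(D.group F) →* ↥(D.group F)) (π : Equiv.Perm (Fin D.rank))
    (a b : Fin D.rank → F → F) : Prop where
  inj : Function.Injective θ
  pos : ∀ i t, θ (xs g (g.sroot i) t) = xs g (g.sroot (π i)) (a i t)
  neg : ∀ i t, θ (xs g (g.nroot (g.sroot i)) t) = xs g (g.nroot (g.sroot (π i))) (b i t)
  surj : ∀ i, Function.Surjective (a i)

end

variable {g : Good D} {θ : ↥(D.group F) →* ↥(D.group F)} {π : Equiv.Perm (Fin D.rank)}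
  {a b : Fin D.rank → F → F}

namespace SimpleMap

variable (hθ : SimpleMap g θ π a b)
include hθ

theorem a_add (i : Fin D.rank) (s t : F) : a i (s + t) = a i s + a i t :=
  xs_inj g (by rw [← hθ.pos, ← xs_add g, map_mul, hθ.pos, hθ.pos, xs_add])

theorem a_zero (i : Fin D.rank) : a i 0 = 0 :=
  xs_inj g (by rw [← hθ.pos, xs_zero, map_one, xs_zero])

theorem a_injective (i : Fin D.rank) : Function.Injective (a i) := fun s t h =>
  xs_inj g (hθ.inj (by rw [hθ.pos, hθ.pos, h]))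

theorem b_injective (i : Fin D.rank) : Function.Injective (b i) := fun s t h =>
  xs_inj g (hθ.inj (by rw [hθ.neg, hθ.neg, h]))

theorem b_zero (i : Fin D.rank) : b i 0 = 0 :=
  xs_inj g (by rw [← hθ.neg, xs_zero, map_one, xs_zero])

theorem a_ne_zero (i : Fin D.rank) {t : F} (ht : t ≠ 0) : a i t ≠ 0 := fun h =>
  ht (hθ.a_injective i (h.trans (hθ.a_zero i).symm))

omit hθ in
/-- The image of a unit. -/
noncomputable def au (hθ : SimpleMap g θ π a b) (i : Fin D.rank) (t : Fˣ) : Fˣ :=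
  Units.mk0 (a i t) (hθ.a_ne_zero i t.ne_zero)

theorem b_eq (i : Fin D.rank) (t : Fˣ) :
    b i (-((t⁻¹ : Fˣ) : F)) = -(((hθ.au i t)⁻¹ : Fˣ) : F) := by
  set B := b i (-((t⁻¹ : Fˣ) : F)) with hB
  set A := a i (t : F) with hA
  have hBne : B ≠ 0 := fun h => by
    have := hθ.b_injective i (h.trans (hθ.b_zero i).symm)
    simp at this
  obtain ⟨C, hC⟩ : ∃ C : Fˣ, -((C⁻¹ : Fˣ) : F) = B := ⟨(-Units.mk0 B hBne)⁻¹, by simp⟩
  set p := g.sroot (π i)
  set q := g.nroot p
  have himg : θ (ns g (g.sroot i) t) = xs g p (A - C) * ns g p C * xs g p (A - C) := by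
    have hn : ns g (g.sroot i) t = xs g (g.sroot i) (t : F) *
        xs g (g.nroot (g.sroot i)) (-((t⁻¹ : Fˣ) : F)) * xs g (g.sroot i) (t : F) := rfl
    rw [hn, map_mul, map_mul, hθ.pos, hθ.neg, ← hA, ← hB, ← hC]
    have hn' : ns g p C = xs g p (C : F) * xs g q (-((C⁻¹ : Fˣ) : F)) * xs g p (C : F) := rfl
    rw [hn', show xs g p A = xs g p (A - C) * xs g p (C : F) by rw [xs_add, sub_add_cancel]]
    simp only [mul_assoc]
    rw [show xs g p (A - C) * xs g p (C : F) = xs g p (C : F) * xs g p (A - C) by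
      rw [xs_add, xs_add, add_comm]]
  obtain ⟨k, hk⟩ := exists_ns_conj g i t
  obtain ⟨k', hk'⟩ := exists_ns_conj g (π i) C
  have h1 := congrArg θ (hk 1)
  rw [map_mul, map_mul, map_inv, hθ.pos, hθ.neg, himg] at h1
  have e : xs g p (A - C) * ns g p C * xs g p (A - C) * xs g p (a i 1) *
      (xs g p (A - C) * ns g p C * xs g p (A - C))⁻¹ =
      xs g p (A - C) * (ns g p C * xs g p (a i 1) * (ns g p C)⁻¹) * (xs g p (A - C))⁻¹ := by
    have hcomm : xs g p (A - C) * xs g p (a i 1) * (xs g p (A - C))⁻¹ = xs g p (a i 1) := by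
      rw [xs_inv, xs_add, xs_add]; congr 1; ring
    conv_rhs => rw [← hcomm]
    group
  rw [e, hk'] at h1
  have h2 := eq_zero_of_conj_neg g (π i)
    (mul_ne_zero k'.ne_zero (hθ.a_ne_zero i one_ne_zero)) h1
  rw [sub_eq_zero] at h2
  have : C = hθ.au i t := Units.ext h2.symm
  rw [← this, hC]

theorem map_ns (i : Fin D.rank) (t : Fˣ) :
    θ (ns g (g.sroot i) t) = ns g (g.sroot (π i)) (hθ.au i t) := by
  show θ (_ * _ * _) = _ * _ * _
  rw [map_mul, map_mul, hθ.pos, hθ.neg, hθ.b_eq]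
  rfl

theorem map_hs (i : Fin D.rank) (t : Fˣ) :
    θ (hs g (g.sroot i) t) = hs g (g.sroot (π i)) (hθ.au i t / hθ.au i 1) := by
  show θ (_ * _) = _
  rw [show ns g (g.sroot i) (-1 : Fˣ) = (ns g (g.sroot i) 1)⁻¹ from (ns_inv g _ 1).symm,
    map_mul, map_inv, hθ.map_ns, hθ.map_ns, ns_mul_inv]

theorem map_Hs {x : ↥(D.group F)} (hx : x ∈ Hs g F) : θ x ∈ Hs g F := by
  have h := hs_sroot_surj g hx
  suffices Subgroup.closure (Set.range fun p : Fin D.rank × Fˣ => hs g (g.sroot p.1) p.2) ≤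
      (Hs g F).comap θ from this h
  refine (Subgroup.closure_le _).2 ?_
  rintro y ⟨⟨i, t⟩, rfl⟩
  show θ (hs g (g.sroot i) t) ∈ Hs g F
  rw [hθ.map_hs]
  exact hs_mem g _ _

omit hθ in
/-- The element of a word, inside the group. -/
noncomputable def wordS (g : Good D) (F : Type*) [Field F] (l : List (Fin D.rank)) : ↥(D.group F) :=
  ⟨g.wordN l, g.monomial_le_group (g.wordN_mem l)⟩

theorem acts_map_word (l : List (Fin D.rank)) :
    g.Acts ((θ (wordS g F l) : ↥(D.group F)) : GL D.Idx F) (g.wperm (l.map π)) := by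
  induction l with
  | nil =>
    rw [show wordS g F ([] : List (Fin D.rank)) = 1 from rfl, map_one]
    exact g.acts_one
  | cons i l ih =>
    have e : wordS g F (i :: l) = ns g (g.sroot i) 1 * wordS g F l :=
      Subtype.ext (g.wordN_cons i l)
    rw [e, map_mul, Subgroup.coe_mul, List.map_cons, g.wperm_cons, hθ.map_ns]
    exact g.acts_mul (acts_ns g (π i) _) ih

omit hθ in
theorem wperm_map_congr_one (hθ : SimpleMap g θ π a b) {l : List (Fin D.rank)}
    (h : g.wperm l = 1) : g.wperm (l.map π) = 1 := by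
  have h2 : θ (wordS g F l) ∈ Hs g F := hθ.map_Hs (g.wordN_mem_diagonal h)
  exact g.acts_unique (hθ.acts_map_word l) (g.acts_diagonal h2)

theorem wperm_map_congr {l m : List (Fin D.rank)} (h : g.wperm l = g.wperm m) :
    g.wperm (l.map π) = g.wperm (m.map π) := by
  have h1 := hθ.wperm_map_congr_one (l := l ++ m.reverse)
    (by rw [g.wperm_append, g.wperm_reverse, h, mul_inv_cancel])
  rwa [List.map_append, List.map_reverse, g.wperm_append, g.wperm_reverse, mul_inv_eq_one] at h1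

theorem map_root (l : List (Fin D.rank)) (i : Fin D.rank) :
    ∃ c : Fˣ, ∃ d : Fˣ, ∀ t : F, θ (xs g (g.wperm l (g.sroot i)) t) =
      xs g (g.wperm (l.map π) (g.sroot (π i))) ((d : F) * a i ((c : F) * t)) := by
  obtain ⟨c, hc⟩ := g.acts_wordN (F := F) l (g.sroot i)
  obtain ⟨d, hd⟩ := hθ.acts_map_word l (g.sroot (π i))
  refine ⟨c⁻¹, d, fun t => ?_⟩
  have e : xs g (g.wperm l (g.sroot i)) t =
      wordS g F l * xs g (g.sroot i) (((c⁻¹ : Fˣ) : F) * t) * (wordS g F l)⁻¹ :=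
    Subtype.ext (show g.xG _ t = g.wordN l * g.xG _ _ * (g.wordN l)⁻¹ by
      rw [hc, ← mul_assoc, ← Units.val_mul, mul_inv_cancel, Units.val_one, one_mul])
  rw [e, map_mul, map_mul, map_inv, hθ.pos]
  exact Subtype.ext (hd _)

theorem wperm_map_inj_one {l : List (Fin D.rank)} (h : g.wperm (l.map π) = 1) :
    g.wperm l = 1 := by
  have hfix : ∀ i, g.wperm l (g.sroot i) = g.sroot i := by
    intro i
    obtain ⟨c, d, hcd⟩ := hθ.map_root l i
    have h1 := hcd 1
    rw [h, Equiv.Perm.one_apply, mul_one] at h1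
    by_contra hne
    obtain ⟨s, hs⟩ := hθ.surj i ((d : F) * a i (c : F))
    exact hne (root_eq_of_xs g one_ne_zero (hθ.inj (h1.trans (by rw [← hs, ← hθ.pos]))))
  refine g.eq_one_of_pos (g.wperm_mem l) fun x hx => ?_
  exact g.pos_of_simples (J := {j | j < D.rank}) l (fun q _ => by rw [hfix]; exact g.sroot_pos q) hx
    (fun q hq hqJ => absurd hq hqJ)

theorem wperm_map_inj {l m : List (Fin D.rank)}
    (h : g.wperm (l.map π) = g.wperm (m.map π)) : g.wperm l = g.wperm m := by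
  have h1 := hθ.wperm_map_inj_one (l := l ++ m.reverse)
    (by rw [List.map_append, List.map_reverse, g.wperm_append, g.wperm_reverse, h, mul_inv_cancel])
  rwa [g.wperm_append, g.wperm_reverse, mul_inv_eq_one] at h1

theorem ninv_map (l : List (Fin D.rank)) :
    ninv D (g.wperm (l.map π)) = ninv D (g.wperm l) := by
  have red : ∀ k : List (Fin D.rank),
      ∃ k', g.wperm k' = g.wperm k ∧ k'.length = ninv D (g.wperm k) := by
    intro k
    obtain ⟨k', hr, he, -⟩ := exists_isRed (s := g.wS) k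
    have e : g.wperm k' = g.wperm k := by rw [← g.coe_wordVal, he, g.coe_wordVal]
    exact ⟨k', e, by rw [← g.isRed_iff_ninv.1 hr, e]⟩
  refine le_antisymm ?_ ?_
  · obtain ⟨k, he, hk⟩ := red l
    rw [← hk, hθ.wperm_map_congr he.symm]
    exact (g.ninv_le_length _).trans_eq (List.length_map _)
  · obtain ⟨k, he, hk⟩ := red (l.map π)
    have e : g.wperm (k.map π.symm) = g.wperm l :=
      hθ.wperm_map_inj (by rw [List.map_map]; simpa using he)
    rw [← hk, ← e]
    exact (g.ninv_le_length _).trans_eq (List.length_map _)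

/-- Positivity is preserved by the induced map on the roots. -/
theorem pos_map {l : List (Fin D.rank)} {i : Fin D.rank}
    (h : half D ≤ (g.wperm l (g.sroot i)).val) :
    half D ≤ (g.wperm (l.map π) (g.sroot (π i))).val := by
  by_contra hneg
  have hsymm : ∀ k : List (Fin D.rank), (g.wperm k.reverse).symm = g.wperm k := fun k => by
    rw [g.wperm_reverse]
    exact inv_inv (g.wperm k)
  have e0 := (g.ninv_rperm_mul i (g.wperm l.reverse) (g.wperm_nroot _)).2
    (by rw [hsymm]; exact h)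
  rw [← g.wperm_cons] at e0
  have e1 := hθ.ninv_map (i :: l.reverse)
  rw [e0, ← hθ.ninv_map l.reverse, List.map_cons, List.map_reverse] at e1
  set m := (l.map π).reverse with hm
  have hpos : half D ≤ ((g.rperm (π i) * g.wperm m).symm (g.sroot (π i))).val := by
    have e : (g.rperm (π i) * g.wperm m).symm (g.sroot (π i)) =
        g.nroot (g.wperm (l.map π) (g.sroot (π i))) := by
      rw [Equiv.symm_apply_eq, Equiv.Perm.mul_apply, g.wperm_nroot, hm, g.wperm_reverse,
        ← Equiv.Perm.mul_apply, inv_mul_cancel, Equiv.Perm.one_apply, g.rperm_nroot, g.rperm_sroot,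
        g.nroot_nroot]
    rw [e, g.nroot_pos_iff]
    omega
  have e2 := (g.ninv_rperm_mul (π i) (g.rperm (π i) * g.wperm m) (fun x => by
    rw [Equiv.Perm.mul_apply, Equiv.Perm.mul_apply, g.wperm_nroot, g.rperm_nroot])).2 hpos
  rw [← mul_assoc, g.rperm_mul_self, one_mul, ← g.wperm_cons] at e2
  omega

omit hθ in
theorem exists_word_root (g : Good D) (r : Fin D.nroots) :
    ∃ (l : List (Fin D.rank)) (i : Fin D.rank), g.wperm l (g.sroot i) = r := by
  refine g.root_induction (P := fun r => ∃ (l : List (Fin D.rank)) (i : Fin D.rank),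
    (g.wperm l (g.sroot i) : ℕ) = r) ?_ ?_ r.2 |>.imp fun l => Exists.imp fun i => Fin.ext
  · exact fun i hi => ⟨[], ⟨i, hi⟩, rfl⟩
  · rintro i hi s hs' ⟨l, j, h⟩
    refine ⟨⟨i, hi⟩ :: l, j, ?_⟩
    rw [g.wperm_cons, Equiv.Perm.mul_apply, g.rperm_val, h]

/-- The image of a root element. -/
theorem exists_image (r : Fin D.nroots) :
    ∃ r' : Fin D.nroots, (half D ≤ r'.val ↔ half D ≤ r.val) ∧
      ∀ t : F, ∃ u : F, θ (xs g r t) = xs g r' u := by
  obtain ⟨l, i, rfl⟩ := exists_word_root g r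
  refine ⟨g.wperm (l.map π) (g.sroot (π i)), ⟨fun h => ?_, hθ.pos_map⟩, fun t => ?_⟩
  · by_contra hn
    have e : g.wperm (l ++ [i]) (g.sroot i) = g.nroot (g.wperm l (g.sroot i)) := by
      rw [g.wperm_append, Equiv.Perm.mul_apply, g.wperm_cons, g.wperm_nil, mul_one, g.rperm_sroot,
        g.wperm_nroot]
    have := hθ.pos_map (l := l ++ [i]) (i := i) (by rw [e, g.nroot_pos_iff]; omega)
    rw [List.map_append, List.map_cons, List.map_nil, g.wperm_append, Equiv.Perm.mul_apply,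
      g.wperm_cons, g.wperm_nil, mul_one, g.rperm_sroot, g.wperm_nroot, g.nroot_pos_iff] at this
    omega
  · obtain ⟨c, d, hcd⟩ := hθ.map_root l i
    exact ⟨_, hcd t⟩

/-- `U` and `V` are mapped into themselves. -/
theorem map_pos {x : ↥(D.group F)} (hx : (x : GL D.Idx F) ∈ D.posUnipotent F) :
    ((θ x : ↥(D.group F)) : GL D.Idx F) ∈ D.posUnipotent F := by
  suffices D.posUnipotent F ≤
      (((D.posUnipotent F).subgroupOf (D.group F)).comap θ).map (D.group F).subtype by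
    obtain ⟨y, hy, he⟩ := this hx
    obtain rfl : y = x := Subtype.ext he
    exact hy
  rw [g.posUnipotent_eq]
  refine g.rootGen_le fun r hr hrn t => ⟨xs g ⟨r, hrn⟩ t, ?_, rfl⟩
  obtain ⟨r', hr', h⟩ := hθ.exists_image ⟨r, hrn⟩
  obtain ⟨u, hu⟩ := h t
  show ((θ _ : ↥(D.group F)) : GL D.Idx F) ∈ rootGen D F (Set.Ici (half D))
  rw [hu]
  exact g.mem_rootGen r'.2 (hr'.2 hr) _

theorem map_neg {x : ↥(D.group F)} (hx : (x : GL D.Idx F) ∈ D.negUnipotent F) :
    ((θ x : ↥(D.group F)) : GL D.Idx F) ∈ D.negUnipotent F := by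
  suffices D.negUnipotent F ≤
      (((D.negUnipotent F).subgroupOf (D.group F)).comap θ).map (D.group F).subtype by
    obtain ⟨y, hy, he⟩ := this hx
    obtain rfl : y = x := Subtype.ext he
    exact hy
  rw [g.negUnipotent_eq]
  refine g.rootGen_le fun r hr hrn t => ⟨xs g ⟨r, hrn⟩ t, ?_, rfl⟩
  obtain ⟨r', hr', h⟩ := hθ.exists_image ⟨r, hrn⟩
  obtain ⟨u, hu⟩ := h t
  show ((θ _ : ↥(D.group F)) : GL D.Idx F) ∈ rootGen D F (Set.Iio (half D))
  rw [hu]
  exact g.mem_rootGen r'.2 (show (r' : ℕ) < half D from not_le.1 fun h' =>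
    absurd (hr'.1 h') (not_le.2 hr)) _

end SimpleMap

end CfsgLib.KnownA.Chev
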